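import Cfsg.Agent.Lib.Char.SymBeta.AltRank

/-!
# Rank and defect of the blocks of the alternating groups
-/

set_option autoImplicit false

namespace CfsgLib.SymBeta

open Finset Equiv Cfsg CfsgLib.Char

variable {N n p : ℕ}

/-- An elementary abelian group of even permutations normalized by the centralizer of `x` bounds `s`. -/
theorem le_sectional_alt [Fact p.Prime] {M : Ideal AlgInt} [M.IsPrime] (hM : IsPModular p M)
    {B : Set (IrrCharacter (Perm (Fin n)))} (hB : IsPBlock M B)
    {P : Subgroup (Perm (Fin n))} (hP : IsDefectGroup p M B P)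
    {D : Subgroup (alternatingGroup (Fin n))}
    (hPD : P ⊓ alternatingGroup (Fin n) ≤ D.map (alternatingGroup (Fin n)).subtype)
    {χ : IrrCharacter (Perm (Fin n))} (hχ : χ ∈ B) {x : Perm (Fin n)} (hx : x ^ p = 1)
    (hne : (χ : Perm (Fin n) → ℂ) x ≠ 0) {E : Subgroup (Perm (Fin n))} (hEC : ∀ e ∈ E, Commute e x)
    (hnorm : ∀ g : Perm (Fin n), Commute g x → ∀ e ∈ E, g * e * g⁻¹ ∈ E)
    (hexp : ∀ e ∈ E, e ^ p = 1) (hcomm : ∀ a ∈ E, ∀ b ∈ E, a * b = b * a)
    {s : ℕ} (hs : SectionalPRankLE p s D) :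
    Nat.card ↥(E ⊓ alternatingGroup (Fin n)) ≤ p ^ s := by
  classical
  obtain ⟨g, hg⟩ := exists_conj_le_defect hM hB hP hχ (exists_pow_order hM.1 hx) hne hEC hnorm
    (fun e => ⟨1, by rw [pow_one]; exact Subtype.ext (hexp e e.2)⟩)
  set F : Subgroup (alternatingGroup (Fin n)) := ((E ⊓ (alternatingGroup (Fin n))).map (MulAut.conj g).toMonoidHom).subgroupOf (alternatingGroup (Fin n)) with hF
  have hFA : (E ⊓ (alternatingGroup (Fin n))).map (MulAut.conj g).toMonoidHom ≤ (alternatingGroup (Fin n)) := by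
    rintro _ ⟨u, hu, rfl⟩
    exact Subgroup.Normal.conj_mem inferInstance u (Subgroup.mem_inf.1 hu).2 g
  have hFD : F ≤ D := by
    intro u hu
    obtain ⟨d, hd, he⟩ := hPD ⟨hg (Subgroup.map_mono inf_le_left (Subgroup.mem_subgroupOf.1 hu)), u.2⟩
    exact Subtype.ext he ▸ hd
  have hcard : Nat.card F = Nat.card ↥(E ⊓ (alternatingGroup (Fin n))) := by
    rw [hF, Nat.card_congr (Subgroup.subgroupOfEquivOfLe hFA).toEquiv,
      Subgroup.card_map_of_injective (MulAut.conj g).injective]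
  rw [← hcard]
  refine pow_le_of_sectional hFD (fun a ha b hb => ?_) (fun a ha => ?_) hs
  · obtain ⟨u, hu, hue⟩ := Subgroup.mem_subgroupOf.1 ha
    obtain ⟨v, hv, hve⟩ := Subgroup.mem_subgroupOf.1 hb
    refine Subtype.ext ?_
    rw [Subgroup.coe_mul, Subgroup.coe_mul, ← hue, ← hve, ← map_mul, ← map_mul,
      hcomm u (Subgroup.mem_inf.1 hu).1 v (Subgroup.mem_inf.1 hv).1]
  · obtain ⟨u, hu, hue⟩ := Subgroup.mem_subgroupOf.1 ha
    refine Subtype.ext ?_
    rw [Subgroup.coe_pow, ← hue, ← map_pow, hexp u (Subgroup.mem_inf.1 hu).1, map_one]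
    rfl

theorem card_inf_alt (E : Subgroup (Perm (Fin n))) :
    Nat.card E ≤ 2 * Nat.card ↥(E ⊓ alternatingGroup (Fin n)) := by
  rw [← Subgroup.card_mul_index ((alternatingGroup (Fin n)).subgroupOf E), mul_comm]
  refine Nat.mul_le_mul ?_ (le_of_eq ?_)
  · rcases Nat.lt_or_ge n 2 with hn | hn
    · haveI : Subsingleton (Fin n) := Fin.subsingleton_iff_le_one.2 (by omega)
      have h1 : Nat.card E ≤ 1 := by
        haveI : Subsingleton E := inferInstance
        exact Finite.card_le_one_iff_subsingleton.2 inferInstance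
      exact ((Nat.le_of_dvd Nat.card_pos (Subgroup.index_dvd_card _)).trans h1).trans one_le_two
    · haveI : Nontrivial (Fin n) := Fin.nontrivial_iff_two_le.2 hn
      have h1 := Subgroup.relIndex_dvd_index_of_normal (alternatingGroup (Fin n)) E
      rw [alternatingGroup.index_eq_two] at h1
      exact Nat.le_of_dvd two_pos h1
  · rw [← Nat.card_congr (Subgroup.subgroupOfEquivOfLe (inf_le_left : E ⊓ (alternatingGroup (Fin n)) ≤ E)).toEquiv]
    exact Nat.card_congr (Equiv.subtypeEquivRight fun e => by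
      simp [Subgroup.mem_subgroupOf])

/-- For odd exponent every element is even. -/
theorem mem_alt_of_pow (hp : Odd p) {e : Perm (Fin n)} (he : e ^ p = 1) :
    e ∈ alternatingGroup (Fin n) := by
  rw [Perm.mem_alternatingGroup]
  have h := congrArg Perm.sign he
  rw [map_pow, map_one] at h
  rcases Int.units_eq_one_or (Perm.sign e) with h' | h'
  · exact h'
  · rw [h', hp.neg_one_pow] at h
    exact absurd h (by decide)

/-- The four group on four points. -/
def fourGroup : Subgroup (Perm (Fin 4)) where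
  carrier := {π | π = 1 ∨ (π * π = 1 ∧ ∀ i, π i ≠ i)}
  one_mem' := Or.inl rfl
  mul_mem' := fun {a b} => by revert a b; decide +kernel
  inv_mem' := fun {a} => by revert a; decide +kernel

theorem card_fourGroup : Nat.card fourGroup = 4 := by
  have h : Nat.card {π : Perm (Fin 4) // π = 1 ∨ (π * π = 1 ∧ ∀ i, π i ≠ i)} = 4 := by
    rw [Nat.card_eq_fintype_card]; decide +kernel
  exact h

theorem fourGroup_props : ∀ π : Perm (Fin 4), π ∈ fourGroup →
    π ^ 2 = 1 ∧ Perm.sign π = 1 ∧ (∀ π' ∈ fourGroup, π * π' = π' * π) ∧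
      ∀ τ : Perm (Fin 4), τ * τ = 1 → (∀ i, τ i ≠ i) → π * τ = τ * π := by
  show ∀ π : Perm (Fin 4), (π = 1 ∨ (π * π = 1 ∧ ∀ i, π i ≠ i)) →
    π ^ 2 = 1 ∧ Perm.sign π = 1 ∧ (∀ π', (π' = 1 ∨ (π' * π' = 1 ∧ ∀ i, π' i ≠ i)) → π * π' = π' * π) ∧
      ∀ τ : Perm (Fin 4), τ * τ = 1 → (∀ i, τ i ≠ i) → π * τ = τ * π
  decide +kernel

/-- For weight two at the prime two the defect group contains a four group. -/
theorem exists_four (hn : 4 ≤ n) {x : Perm (Fin n)} (hx : x ^ 2 = 1)
    (hfix : (univ.filter fun z => x z = z).card = n - 4) :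
    ∃ E : Subgroup (Perm (Fin n)), (∀ e ∈ E, Commute e x) ∧
      (∀ g : Perm (Fin n), Commute g x → ∀ e ∈ E, g * e * g⁻¹ ∈ E) ∧ (∀ e ∈ E, e ^ 2 = 1) ∧
      (∀ a ∈ E, ∀ b ∈ E, a * b = b * a) ∧ E ≤ alternatingGroup (Fin n) ∧ 4 ≤ Nat.card E := by
  classical
  let q : Fin n → Prop := fun z => x z ≠ z
  have hq : Fintype.card {z // q z} = 4 := by
    rw [Fintype.card_subtype_compl, Fintype.card_fin, Fintype.card_subtype, hfix]
    omega
  let e : Fin 4 ≃ {z // q z} := (Fintype.equivFinOfCardEq hq).symm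
  let ι : Perm (Fin 4) →* Perm (Fin n) := (Perm.ofSubtype (p := q)).comp e.permCongrHom.toMonoidHom
  have hinj : Function.Injective ι := fun a b h => by
    have h1 := Perm.ofSubtype_injective h
    exact e.permCongrHom.injective h1
  have hin : ∀ (π : Perm (Fin 4)) (i : Fin 4), ι π (e i).1 = (e (π i)).1 := fun π i => by
    show Perm.ofSubtype (e.permCongr π) (e i).1 = _
    rw [Perm.ofSubtype_apply_coe]
    simp [Equiv.permCongr_apply]
  have hout : ∀ (π : Perm (Fin 4)) (z : Fin n), x z = z → ι π z = z := fun π z hz =>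
    Perm.ofSubtype_apply_of_not_mem (p := q) _ (not_not.2 hz)
  have hext : ∀ (ρ : Perm (Fin n)) (π : Perm (Fin 4)), (∀ i, ρ (e i).1 = (e (π i)).1) →
      (∀ z, x z = z → ρ z = z) → ρ = ι π := fun ρ π h1 h2 => Equiv.ext fun z => by
    by_cases hz : x z = z
    · rw [h2 z hz, hout π z hz]
    · obtain ⟨i, hi⟩ := e.surjective ⟨z, hz⟩
      have : z = (e i).1 := (congrArg Subtype.val hi).symm
      rw [this, h1, hin]
  have hxx : ∀ z, x (x z) = z := fun z => by
    rw [← Perm.mul_apply, ← sq, hx]; rfl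
  have hqx : ∀ i, q (x (e i).1) := fun i h => (e i).2 (by
    have := x.injective h; exact this)
  let τ : Perm (Fin 4) :=
    { toFun := fun i => e.symm ⟨x (e i).1, hqx i⟩
      invFun := fun i => e.symm ⟨x (e i).1, hqx i⟩
      left_inv := fun i => by simp [hxx]
      right_inv := fun i => by simp [hxx] }
  have hτ : x = ι τ := hext x τ (fun i => by simp [τ]) fun z hz => hz
  have hτ2 : τ * τ = 1 := hinj (by rw [map_mul, ← hτ, ← sq, hx, map_one])
  have hτne : ∀ i, τ i ≠ i := fun i h => (e i).2 (by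
    conv_lhs => rw [hτ]
    rw [hin, h])
  refine ⟨fourGroup.map ι, ?_, ?_, ?_, ?_, ?_, ?_⟩
  · rintro _ ⟨π, hπ, rfl⟩
    rw [hτ]
    exact Commute.map ((fourGroup_props π hπ).2.2.2 τ hτ2 hτne) ι
  · rintro g hg _ ⟨π, hπ, rfl⟩
    have hgx : ∀ z, g (x z) = x (g z) := fun z => by rw [← Perm.mul_apply, hg.eq, Perm.mul_apply]
    have hgq : ∀ i, q (g (e i).1) := fun i h => (e i).2 (by
      rw [← hgx] at h; exact g.injective h)
    have hgq' : ∀ i, q (g⁻¹ (e i).1) := fun i h => (e i).2 (by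
      have := hgx (g⁻¹ (e i).1)
      rw [h] at this
      simpa using this.symm)
    let γ : Perm (Fin 4) :=
      { toFun := fun i => e.symm ⟨g (e i).1, hgq i⟩
        invFun := fun i => e.symm ⟨g⁻¹ (e i).1, hgq' i⟩
        left_inv := fun i => by simp
        right_inv := fun i => by simp }
    refine ⟨γ * π * γ⁻¹, ?_, ?_⟩
    · rcases (hπ : π = 1 ∨ (π * π = 1 ∧ ∀ i, π i ≠ i)) with rfl | ⟨h1, h2⟩
      · exact Or.inl (by simp)
      · refine Or.inr ⟨?_, fun i h => h2 (γ⁻¹ i) ?_⟩
        · rw [show γ * π * γ⁻¹ * (γ * π * γ⁻¹) = γ * (π * π) * γ⁻¹ by group, h1]; group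
        · apply γ.injective
          simpa using h
    · symm
      refine hext _ _ (fun i => ?_) fun z hz => ?_
      · obtain ⟨j, rfl⟩ := γ.surjective i
        have hγ : (e (γ j)).1 = g (e j).1 := by simp [γ]
        rw [hγ]
        simp only [Perm.mul_apply, Perm.coe_inv, Equiv.symm_apply_apply]
        rw [show (e (γ (π j))).1 = g (e (π j)).1 by simp [γ], hin]
      · have hz' : x (g⁻¹ z) = g⁻¹ z := g.injective (by rw [hgx]; simpa using hz)
        rw [Perm.mul_apply, Perm.mul_apply, hout π _ hz']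
        simp
  · rintro _ ⟨π, hπ, rfl⟩
    rw [← map_pow, (fourGroup_props π hπ).1, map_one]
  · rintro _ ⟨π, hπ, rfl⟩ _ ⟨π', hπ', rfl⟩
    rw [← map_mul, ← map_mul, (fourGroup_props π hπ).2.2.1 π' hπ']
  · rintro _ ⟨π, hπ, rfl⟩
    rw [Perm.mem_alternatingGroup]
    show Perm.sign (Perm.ofSubtype (e.permCongr π)) = 1
    rw [Perm.sign_ofSubtype, Perm.sign_permCongr, (fourGroup_props π hπ).2.1]
  · rw [Subgroup.card_map_of_injective hinj, card_fourGroup]

theorem exists_dvd_cyc_of_odd {α : Type*} [Fintype α] [DecidableEq α] {σ : Perm α}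
    (h : Perm.sign σ = -1) : ∃ z, 2 ∣ cyc σ z := by
  refine exists_dvd_cyc Nat.prime_two ?_
  by_contra hodd
  have h1 : Perm.sign σ ^ orderOf σ = 1 := by rw [← map_pow, pow_orderOf_eq_one, map_one]
  rw [h, (Nat.not_even_iff_odd.1 fun he => hodd he.two_dvd).neg_one_pow] at h1
  exact absurd h1 (by decide)

/-- In weight one the restrictions vanish at even `2`-singular elements. -/
theorem chiA_eq_zero {c : Fin N → ℤ} (h : Data N n 2 c 1) {a : Fin N → ℤ} (ha : cts 2 a = cts 2 c)
    {y : Perm (Fin n)} (hy : 2 ∣ orderOf y) (hys : Perm.sign y = 1) : chi N n a y = 0 := by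
  classical
  obtain ⟨z, hz⟩ := exists_dvd_cyc Nat.prime_two hy
  obtain ⟨q, hq⟩ := hz
  have hq0 : 0 < q := by have := cyc_pos y z; omega
  have hoff : Perm.sign (off y z) = -1 := by
    rcases Int.units_eq_one_or (Perm.sign (off y z)) with e | e
    · have h1 := sign_eq_off y z
      rw [hys, e, hq, (show Odd (2 * q - 1) from ⟨q - 1, by omega⟩).neg_one_pow] at h1
      norm_num at h1
    · exact e
  obtain ⟨z', hz'⟩ := exists_dvd_cyc_of_odd hoff
  obtain ⟨q', hq'⟩ := hz'
  have hq0' : 0 < q' := by have := cyc_pos (off y z) z'; omega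
  rw [chi, val_split y z, val_split (off y z) z', up]
  refine sum_eq_zero fun i _ => ?_
  rw [up]
  refine sum_eq_zero fun l _ => by_contra fun hne => ?_
  obtain ⟨hinj, hnn, hs⟩ := supp_val _ _ hne
  have hk : ((cyc y z : ℕ) : ℤ) = (q : ℤ) * (2 : ℕ) := by rw [hq]; push_cast; ring
  have hk' : ((cyc (off y z) z' : ℕ) : ℤ) = (q' : ℤ) * (2 : ℕ) := by rw [hq']; push_cast; ring
  obtain ⟨w, hw⟩ := h.core.exists_weight hinj hnn (by
    rw [hk, hk', cts_sub_single_mul, cts_sub_single_mul, ha])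
  have hcard := card_off y z
  have hcard' := card_off (off y z) z'
  rw [Fintype.card_fin] at hcard
  have h2 := h.sum_eq
  rw [hs] at hw
  push_cast at h2 hw
  omega

/-- In weight one at the prime two the block has trivial defect group. -/
theorem eq_bot_of_weight_one {M : Ideal AlgInt} [M.IsPrime] (hM : IsPModular 2 M) (hn : 2 ≤ n)
    (hN : 3 * n ≤ N) {c : Fin N → ℤ} (h : Data N n 2 c 1)
    {b : Set (IrrCharacter (alternatingGroup (Fin n)))} (hb : IsPBlock M b)
    (hcov : ∀ ψ ∈ b, ∃ a ∈ Cls N n 2 (cts 2 c), classInner (chiA N n a) (ψ : _ → ℂ) ≠ 0)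
    {D : Subgroup (alternatingGroup (Fin n))} (hD : IsDefectGroup 2 M b D) : D = ⊥ := by
  classical
  haveI : Fact (Nat.Prime 2) := ⟨Nat.prime_two⟩
  obtain ⟨ψ, hψ⟩ := Blocks.IsPBlock.nonempty hb
  obtain ⟨a, ha, hne⟩ := hcov ψ hψ
  obtain ⟨haI, hcts⟩ := mem_Cls.1 ha
  have hns : star N a ≠ a := fun e => by
    have hmem : a ∈ SC 2 c 1 := Fx_subset (by omega) h (by simp [Fx, ha, e])
    have := card_SC_two_bound h.core 1
    simp at this
    rw [this] at hmem
    exact notMem_empty a hmem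
  obtain ⟨t, ht⟩ := Submodule.mem_span_singleton.1 ((constituent_mem_span hn hN haI hne hne).1 hns)
  have hone : blockOf M (ψ : alternatingGroup (Fin n) → ℂ) = {ψ} := by
    refine Set.eq_singleton_iff_unique_mem.2 ⟨Blocks.mem_blockOf_self ψ, fun η hη => ?_⟩
    refine Blocks.mem_of_sameBlock_of_blockCoeff_mem (A := {ψ})
      (fun g => Blocks.blockCoeff_mem_of_orth hM _ (fun x y _ hy => ?_) g) rfl hη
    rw [finsum_mem_singleton, ← ht]
    simp only [Pi.smul_apply, smul_eq_mul, chiA]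
    rw [chiA_eq_zero h hcts (y := (y : Perm (Fin n))) (by rwa [Subgroup.orderOf_coe])
      (Perm.mem_alternatingGroup.1 y.2)]
    ring
  have hB1 : b = {ψ} := (Blocks.IsPBlock.eq_blockOf hb hψ).trans hone
  have hnd := Blocks.not_dvd_div_of_singleton hM ψ hone
  have hd0 : blockDefect 2 b = 0 := by
    rw [hB1, blockDefect, Set.image_singleton, csInf_singleton]
    have h2 := Nat.factorization_eq_zero_of_not_dvd hnd
    rw [Nat.factorization_div (Blocks.charDegree_dvd_card ψ), Finsupp.tsub_apply] at h2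
    exact h2
  refine Subgroup.eq_bot_of_card_le _ ?_
  rw [Blocks.IsDefectGroup.card_eq hM hb hD, hd0, pow_zero]

theorem blockRank_alt_lt [Fact p.Prime] {M : Ideal AlgInt} (hM : IsPModular p M)
    {b : Set (IrrCharacter (alternatingGroup (Fin n)))} (hb : IsPBlock M b)
    {D : Subgroup (alternatingGroup (Fin n))} (hD : IsDefectGroup p M b D) (hD1 : D ≠ ⊥) {s : ℕ}
    (hs : SectionalPRankLE p s D) : blockRank p b < p ^ s := by
  classical
  haveI : M.IsPrime := hM.2.1.isPrime
  have hp := hM.1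
  have hn : 2 ≤ n := by
    by_contra hn
    haveI : Subsingleton (Fin n) := Fin.subsingleton_iff_le_one.2 (by omega)
    exact hD1 (Subgroup.eq_bot_of_subsingleton D)
  -- a suitable number of variables
  let N := p * (4 * n + 3) + (p + 1) / 2
  have hpN : 4 * n + 3 ≤ p * (4 * n + 3) := Nat.le_mul_of_pos_left _ hp.pos
  have hN : 3 * n ≤ N := by omega
  have hNp : ∀ j ≤ n, (j + 1) * p + n ≤ N := fun j hj => by
    have h1 := Nat.mul_le_mul_right p (Nat.succ_le_succ hj)
    have h2 : 4 * n + 3 = (n + 1) + (3 * n + 2) := by omega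
    have h3 : 3 * n + 2 ≤ p * (3 * n + 2) := Nat.le_mul_of_pos_left _ hp.pos
    simp only [N, h2, Nat.succ_eq_add_one, mul_add, mul_comm p (n + 1)] at h1 h3 ⊢
    omega
  obtain ⟨θ, hθ⟩ := Blocks.IsPBlock.nonempty hb
  obtain ⟨χ, hχθ⟩ := Blocks.exists_irr_over (G := Perm (Fin n)) (alternatingGroup (Fin n)) θ
  set B := blockOf M (χ : Perm (Fin n) → ℂ) with hBdef
  have hB : IsPBlock M B := Blocks.isPBlock_blockOf χ
  have hχB : χ ∈ B := Blocks.mem_blockOf_self χ
  obtain ⟨c, w, h, hsub⟩ := exists_data (N := N) hM hN hB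
  have hcov : ∀ ψ ∈ b, ∃ a ∈ Cls N n p (cts p c), classInner (chiA N n a) (ψ : _ → ℂ) ≠ 0 := by
    intro ψ hψ
    obtain ⟨η, hη, hne⟩ := Blocks.exists_over_covered (alternatingGroup (Fin n)) hB hb hχB hθ hχθ hψ
    obtain ⟨a, ha, he⟩ := hsub hη
    exact ⟨a, ha, by rw [he] at hne; exact hne⟩
  obtain ⟨a, ha, hχa⟩ := hsub hχB
  rcases Nat.eq_zero_or_pos w with rfl | hw
  · -- defect zero upstairs
    have hbot : ∀ P, IsDefectGroup p M B P → P = ⊥ := fun P hP => eq_bot_of_weight_zero hM h hB hsub hP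
    obtain ⟨P, hP⟩ := Blocks.exists_isDefectGroup (p := p) hB
    obtain ⟨g, hg⟩ := Blocks.subConj_of_covers (alternatingGroup (Fin n)) hM hB hb ⟨χ, hχB, θ, hθ, hχθ⟩ hP hD
    refine absurd ((Subgroup.eq_bot_iff_forall D).2 fun d hd => ?_) hD1
    have h1 := hg (d : Perm (Fin n)) ⟨d, hd, rfl⟩
    rw [hbot P hP, Subgroup.mem_bot] at h1
    exact Subtype.ext (by simpa using h1)
  have hcovers : Blocks.Covers (alternatingGroup (Fin n)) B b := ⟨χ, hχB, θ, hθ, hχθ⟩
  have hQ : (D.map (alternatingGroup (Fin n)).subtype).subgroupOf (alternatingGroup (Fin n)) = D := Subgroup.comap_map_eq_self_of_injective (alternatingGroup (Fin n)).subtype_injective D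
  obtain ⟨P, hP, hPD⟩ := Blocks.exists_defectGroup_inf_eq (alternatingGroup (Fin n)) hM hB hb hcovers
    (Q := D.map (alternatingGroup (Fin n)).subtype) (Subgroup.map_subtype_le D) (by rw [hQ]; exact hD)
  obtain ⟨x, hx, hfix, hcard⟩ := exists_cycles hp h.mul_le
  have hne : (χ : Perm (Fin n) → ℂ) x ≠ 0 := by
    rw [hχa]; exact exists_chi_cycles_ne_zero hp hN h ha hx hfix
  have hE := le_sectional_alt hM hB hP hPD.le hχB hx hne (E := cycGroup x) (fun e he => he.1)
    (fun g hg e he => conj_mem_cycGroup hg he) (fun e he => cycGroup_pow hx he)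
    (fun a ha b hb => cycGroup_comm ha hb) hs
  have hrank := altRank_le hp hn hN hNp h hcov
  have hF : (Fx N n p c).card ≤ (SC p c w).card := card_le_card (Fx_subset (by omega) h)
  rcases hp.eq_two_or_odd' with rfl | hodd
  · -- the prime two
    rcases (show w = 1 ∨ w = 2 ∨ w = 3 ∨ 4 ≤ w by omega) with rfl | hw2
    · exact absurd (eq_bot_of_weight_one hM hn hN h hb hcov hD) hD1
    have hT := card_T_two h.core w
    have hW := card_WA_le (p := 2) (n := n) (c := c) (w := w)
    have hS := card_SC_two_bound h.core w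
    have hE' : 2 ^ (w - 1) ≤ 2 ^ s := by
      have h1 := card_inf_alt (cycGroup x)
      have h2 : 2 ^ w = 2 * 2 ^ (w - 1) := by
        rw [← pow_succ', Nat.sub_add_cancel hw]
      omega
    rcases hw2 with rfl | rfl | hw4
    · -- weight two
      obtain ⟨E, hE1, hE2, hE3, hE4, hE5, hE6⟩ := exists_four (by have := h.mul_le; omega) hx (by simpa using hfix)
      have h4 := le_sectional_alt hM hB hP hPD.le hχB hx hne hE1 hE2 hE3 hE4 hs
      rw [inf_eq_left.2 hE5] at h4
      rw [show Nat.fib (2 + 1) = 2 by decide] at hT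
      simp at hS
      omega
    · rw [show Nat.fib (3 + 1) = 3 by decide] at hT
      simp at hS
      rw [show (2 : ℕ) ^ (3 - 1) = 4 by decide] at hE'
      rw [hS, card_empty] at hF
      omega
    · have := two_bound h.core hw4
      omega
  · have hp3 : 3 ≤ p := by
      obtain ⟨k, hk⟩ := hodd
      have := hp.two_le
      omega
    have hC : (p : ℤ) ∣ 2 * (N : ℤ) - 1 := by
      obtain ⟨k, hk⟩ := hodd
      refine ⟨(2 * (4 * n + 3) + 1 : ℕ), ?_⟩
      have : (p + 1) / 2 = k + 1 := by omega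
      simp only [N, this]
      push_cast
      rw [hk]
      push_cast
      ring
    rw [inf_eq_left.2 fun e he => mem_alt_of_pow hodd (cycGroup_pow hx he)] at hE
    refine lt_of_le_of_lt hrank (lt_of_lt_of_le ?_ (hcard.trans hE))
    have hT := (card_T h.core w).2 hw
    rcases (Fx N n p c).eq_empty_or_nonempty with he | he
    · rw [he, card_empty]
      have := card_WA_le (p := p) (n := n) (c := c) (w := w)
      omega
    · have h2 := two_mul_card_WA hp.pos (by omega : n ≤ N) hC h he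
      have h3 := hF.trans (card_SC_odd_bound hodd hp3 hC h.core w)
      have h4 : (T p c w).card + p ^ (w - 1) ≤ p * p ^ (w - 1) := by
        have h5 := card_T h.core w
        obtain ⟨m, rfl⟩ : ∃ m, w = m + 1 := ⟨w - 1, by omega⟩
        rw [Nat.add_sub_cancel]
        exact card_T_sharp h.core m
      have h6 : p ^ w = p * p ^ (w - 1) := by rw [← pow_succ', Nat.sub_add_cancel hw]
      have h7 : 3 * p ^ (w - 1) ≤ p * p ^ (w - 1) := Nat.mul_le_mul_right _ hp3
      have h8 : 0 < p ^ (w - 1) := pow_pos hp.pos _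
      omega

end CfsgLib.SymBeta
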