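import Cfsg.Agent.Lib.Char.SymBeta.DefectStructure
import Cfsg.Agent.Lib.Char.SymBeta.AltBlock
import Cfsg.Agent.Lib.CharAction.BrauerFeit

/-!
# Heights and defect groups of the blocks of the alternating groups
-/

set_option autoImplicit false

namespace CfsgLib.SymBeta

open Finset Equiv Cfsg CfsgLib.Char

variable {N n p : ℕ}

/-- Degree of a constituent of a restriction. -/
theorem constituent_degree (hn : 2 ≤ n) (hN : 3 * n ≤ N) {a : Fin N → ℤ} (ha : a ∈ Idx N n)
    {θ : IrrCharacter (alternatingGroup (Fin n))} (hc : classInner (chiA N n a) (θ : _ → ℂ) ≠ 0) :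
    ∃ k : ℕ, (k = 1 ∨ (k = 2 ∧ star N a = a)) ∧
      charDegree (⟨_, exists_irr hN ha⟩ : IrrCharacter (Perm (Fin n))).1 =
        k * charDegree (θ : alternatingGroup (Fin n) → ℂ) := by
  classical
  haveI : Nontrivial (Fin n) := Fin.nontrivial_iff_two_le.2 hn
  have hA : (alternatingGroup (Fin n)).Normal := inferInstance
  set χ : IrrCharacter (Perm (Fin n)) := ⟨_, exists_irr hN ha⟩
  obtain ⟨m, hm⟩ := IsChar.classInner_eq_natCast
    (IsChar.restrict (alternatingGroup (Fin n)) (IsIrr.isCharacter χ.2)) (IsIrr.isCharacter θ.2)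
  have hm' : classInner (chiA N n a) (θ : _ → ℂ) = m := hm
  set idx := (CfsgLib.Clifford.inertia hA (θ : _ → ℂ)).index with hidx
  have hc' : classInner (fun u : alternatingGroup (Fin n) => (χ : Perm (Fin n) → ℂ) u)
      (θ : alternatingGroup (Fin n) → ℂ) ≠ 0 := hc
  have hdeg := CfsgLib.Clifford.degree_eq hA θ.2 χ.2 hc'
  rw [hm, Blocks.apply_one_eq_charDegree χ, Blocks.apply_one_eq_charDegree θ] at hdeg
  have hm0 : m ≠ 0 := fun h => hc (by rw [hm', h, Nat.cast_zero])
  have hnorm : classInner (chiA N n a) (chiA N n a) = (m * (m * idx) : ℕ) := by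
    have h := CfsgLib.Clifford.restrict_eq_smul_orbit_sum hA χ.2 θ.2 hc'
    rw [hm] at h
    have h' : chiA N n a = (m : ℂ) • ∑ ψ ∈ univ.image (CfsgLib.Clifford.conjFn hA (θ : _ → ℂ)), ψ := h
    conv_lhs => arg 1; rw [h']
    rw [classInner_smul_left, classInner_sum_left, sum_congr rfl (g := fun _ => (m : ℂ)), sum_const, nsmul_eq_mul]
    · have hcard := CfsgLib.Clifford.card_orbit hA (θ : alternatingGroup (Fin n) → ℂ)
      push_cast
      rw [hidx, ← hcard]
      ring_nf
      congr! 4
    · intro ψ hψ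
      obtain ⟨g, -, rfl⟩ := Finset.mem_image.1 hψ
      rw [← classInner_conj_symm]
      have h1 : classInner (chiA N n a) (CfsgLib.Clifford.conjFn hA (θ : _ → ℂ) g) = m := by
        refine Eq.trans ?_ hm'
        simp only [classInner]
        congr 1
        refine Fintype.sum_equiv (MulAut.conjNormal g).toEquiv _ _ fun u => ?_
        show chiA N n a u * _ = chi N n a (g * u * g⁻¹) * _
        have hcl : chi N n a (g * u * g⁻¹) = chi N n a u := IsIrr.isClassFunction χ.2 (u : Perm (Fin n)) g
        rw [hcl]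
        rfl
      rw [h1, map_natCast]
  rw [norm_chiA hn hN ha] at hnorm
  have hidx2 : idx ∣ 2 := by
    have h1 := Subgroup.index_dvd_of_le (CfsgLib.Clifford.le_inertia hA (IsIrr.isClassFunction θ.2))
    rwa [alternatingGroup.index_eq_two] at h1
  have hdeg' : charDegree (χ : Perm (Fin n) → ℂ) = m * idx * charDegree (θ : alternatingGroup (Fin n) → ℂ) := by exact_mod_cast hdeg
  refine ⟨m * idx, ?_, hdeg'⟩
  split at hnorm
  case isTrue he =>
    have h2 : m * (m * idx) = 2 := by exact_mod_cast hnorm.symm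
    rcases (Nat.dvd_prime Nat.prime_two).1 (Dvd.intro _ h2) with rfl | rfl
    · exact Or.inr ⟨by omega, he⟩
    · omega
  case isFalse he =>
    have h2 : m * (m * idx) = 1 := by exact_mod_cast hnorm.symm
    exact Or.inl (Nat.eq_one_of_mul_eq_one_left h2)

/-- The part of the model mapped onto the intersection with the alternating group. -/
theorem exists_iso_model {w : ℕ} {T : Subgroup (Perm (Fin w))} {f : Perm (Fin w × ZMod p) →* Perm (Fin n)}
    [NeZero p] (hf : Function.Injective f) (hs : ∀ σ, Perm.sign (f σ) = Perm.sign σ)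
    {P : Subgroup (Perm (Fin n))} (hP : (wreath p T).map f = P) {D : Subgroup (alternatingGroup (Fin n))}
    (hD : P ⊓ alternatingGroup (Fin n) = D.map (alternatingGroup (Fin n)).subtype) :
    Nonempty (D ≃* ↥(wreath p T ⊓ alternatingGroup (Fin w × ZMod p))) := by
  have h : (wreath p T ⊓ alternatingGroup (Fin w × ZMod p)).map f = D.map (alternatingGroup (Fin n)).subtype := by
    rw [← hD, ← hP]
    ext y
    simp only [Subgroup.mem_map, Subgroup.mem_inf, Perm.mem_alternatingGroup]
    constructor
    · rintro ⟨σ, ⟨h1, h2⟩, rfl⟩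
      exact ⟨⟨σ, h1, rfl⟩, by rw [hs, h2]⟩
    · rintro ⟨⟨σ, h1, rfl⟩, h2⟩
      exact ⟨σ, ⟨h1, by rwa [hs] at h2⟩, rfl⟩
  exact ⟨(D.equivMapOfInjective _ (alternatingGroup (Fin n)).subtype_injective).trans
    ((MulEquiv.subgroupCongr h.symm).trans ((wreath p T ⊓ alternatingGroup (Fin w × ZMod p)).equivMapOfInjective f hf).symm)⟩

theorem inf_alt_eq_self [Fact p.Prime] (hodd : Odd p) {w : ℕ} (T : Sylow p (Perm (Fin w))) :
    wreath p (T : Subgroup (Perm (Fin w))) ⊓ alternatingGroup (Fin w × ZMod p) =
      wreath p (T : Subgroup (Perm (Fin w))) := by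
  refine inf_eq_left.2 fun σ hσ => Perm.mem_alternatingGroup.2 ?_
  obtain ⟨k, hk⟩ := IsPGroup.iff_orderOf.1
    (IsPGroup.of_card (card_wreath_sylow T)) (⟨σ, hσ⟩ : wreath p (T : Subgroup (Perm (Fin w))))
  have h : Perm.sign σ ^ (p ^ k) = 1 := by
    rw [← map_pow, ← hk, Subgroup.orderOf_mk, pow_orderOf_eq_one, map_one]
  rcases Int.units_eq_one_or (Perm.sign σ) with h' | h'
  · exact h'
  · rw [h', hodd.pow.neg_one_pow] at h
    exact absurd h (by decide)

theorem card_inf_alt_two {w : ℕ} (hw : 0 < w) (T : Sylow 2 (Perm (Fin w))) :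
    2 * Nat.card ↥(wreath 2 (T : Subgroup (Perm (Fin w))) ⊓ alternatingGroup (Fin w × ZMod 2)) =
      2 ^ (w + vf 2 w) := by
  haveI : Fact (Nat.Prime 2) := ⟨Nat.prime_two⟩
  set W := wreath 2 (T : Subgroup (Perm (Fin w)))
  let s : W →* ℤˣ := Perm.sign.comp W.subtype
  have hs : Function.Surjective s := fun u => by
    rcases Int.units_eq_one_or u with rfl | rfl
    · exact ⟨1, map_one s⟩
    · exact ⟨⟨_, mk_mem _ (one_mem _)⟩, sign_mk_single ⟨0, hw⟩⟩
  have h1 := s.ker.index_mul_card
  rw [Subgroup.index_ker, MonoidHom.range_eq_top.2 hs, Subgroup.card_top] at h1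
  have h3 : Nat.card ↥(W ⊓ alternatingGroup (Fin w × ZMod 2)) = Nat.card s.ker := by
    refine Nat.card_congr
      { toFun := fun σ => ⟨⟨σ.1, σ.2.1⟩, Perm.mem_alternatingGroup.1 σ.2.2⟩
        invFun := fun σ => ⟨σ.1.1, σ.1.2, Perm.mem_alternatingGroup.2 σ.2⟩
        left_inv := fun _ => rfl
        right_inv := fun _ => rfl }
  rw [← card_wreath_sylow T, ← h1, h3]
  congr 1
  rw [Nat.card_eq_fintype_card]
  rfl

theorem isMulCommutative_of_small [Fact p.Prime] {G : Type*} [Group G]
    (h : Nat.card G = 1 ∨ Nat.card G = p ^ 2) : IsMulCommutative G := by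
  rcases h with h | h
  · haveI := (Nat.card_eq_one_iff_unique.1 h).1
    exact ⟨⟨fun _ _ => Subsingleton.elim _ _⟩⟩
  · exact IsPGroup.isMulCommutative_of_card_eq_prime_sq h

/-- Heights of the blocks of the alternating groups against the degrees of the defect groups. -/
theorem alt_height_one_or_none (n p : ℕ) [Fact p.Prime] {M : Ideal AlgInt} (hM : IsPModular p M)
    {b : Set (IrrCharacter (alternatingGroup (Fin n)))} (hb : IsPBlock M b)
    {D : Subgroup (alternatingGroup (Fin n))} (hD : IsDefectGroup p M b D) :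
    ((∃ χ : IrrCharacter (alternatingGroup (Fin n)), χ ∈ b ∧
        blockHeight p b (χ : alternatingGroup (Fin n) → ℂ) = 1) ∧
      ∃ φ : IrrCharacter D, charDegree (φ : D → ℂ) = p) ∨
    ((∀ χ : IrrCharacter (alternatingGroup (Fin n)), χ ∈ b →
        blockHeight p b (χ : alternatingGroup (Fin n) → ℂ) = 0) ∧ IsMulCommutative D) := by
  classical
  haveI : M.IsPrime := hM.2.1.isPrime
  have hp := hM.1
  have hcardD := Blocks.IsDefectGroup.card_eq hM hb hD
  have small : blockDefect p b ≤ 2 → ∀ χ : IrrCharacter (alternatingGroup (Fin n)), χ ∈ b →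
      blockHeight p b (χ : alternatingGroup (Fin n) → ℂ) = 0 := fun hd χ hχ => by
    rcases CharAction.height_bound hM hb hχ with h | h <;> omega
  rcases Nat.lt_or_ge n 2 with hn | hn
  · haveI : Subsingleton (Fin n) := Fin.subsingleton_iff_le_one.2 (by omega)
    have h1 : Nat.card D = 1 := Nat.card_eq_one_iff_unique.2 ⟨inferInstance, inferInstance⟩
    refine Or.inr ⟨small ?_, isMulCommutative_of_small (p := p) (Or.inl h1)⟩
    rw [hcardD, Nat.pow_eq_one] at h1
    rcases h1 with h1 | h1
    · exact absurd h1 hp.ne_one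
    · omega
  let N := 3 * n + 2 * p + 1
  have hN : 3 * n ≤ N := by omega
  have hNp : 2 * p + n < N := by omega
  obtain ⟨θ, hθ⟩ := Blocks.IsPBlock.nonempty hb
  obtain ⟨χ, hχθ⟩ := Blocks.exists_irr_over (G := Perm (Fin n)) (alternatingGroup (Fin n)) θ
  set B := blockOf M (χ : Perm (Fin n) → ℂ) with hBdef
  have hB : IsPBlock M B := Blocks.isPBlock_blockOf χ
  have hχB : χ ∈ B := Blocks.mem_blockOf_self χ
  obtain ⟨c, w, h, hsub⟩ := exists_data (N := N) hM hN hB
  have hcls := clsSet_subset_block hM hN h hB hsub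
  have hcovers : Blocks.Covers (alternatingGroup (Fin n)) B b := ⟨χ, hχB, θ, hθ, hχθ⟩
  have hQ : (D.map (alternatingGroup (Fin n)).subtype).subgroupOf (alternatingGroup (Fin n)) = D :=
    Subgroup.comap_map_eq_self_of_injective (alternatingGroup (Fin n)).subtype_injective D
  obtain ⟨P, hP, hPD⟩ := Blocks.exists_defectGroup_inf_eq (alternatingGroup (Fin n)) hM hB hb hcovers
    (Q := D.map (alternatingGroup (Fin n)).subtype) (Subgroup.map_subtype_le D) (by rw [hQ]; exact hD)
  obtain ⟨T, f, hfi, hfs, hfP⟩ := exists_model hM hN hNp h hB hsub hP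
  obtain ⟨iso⟩ := exists_iso_model hfi hfs hfP hPD
  have hcardH : Nat.card D = Nat.card ↥(wreath p (T : Subgroup (Perm (Fin w))) ⊓
      alternatingGroup (Fin w × ZMod p)) := Nat.card_congr iso.toEquiv
  have hvA : (Nat.card (alternatingGroup (Fin n))).factorization p + (2 : ℕ).factorization p =
      n.factorial.factorization p := by
    rw [← Nat.card_fin n, ← Nat.card_perm, Nat.card_fin n, ← card_two_mul hn, Nat.factorization_mul (by norm_num) Nat.card_pos.ne',
      Finsupp.add_apply, add_comm]
  -- the least exponent in the block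
  have hmin : sInf ((fun ψ : IrrCharacter (alternatingGroup (Fin n)) =>
      (charDegree (ψ : alternatingGroup (Fin n) → ℂ)).factorization p) '' b) + blockDefect p b =
      (Nat.card (alternatingGroup (Fin n))).factorization p := by
    have hle : sInf ((fun ψ : IrrCharacter (alternatingGroup (Fin n)) =>
        (charDegree (ψ : alternatingGroup (Fin n) → ℂ)).factorization p) '' b) ≤
        (Nat.card (alternatingGroup (Fin n))).factorization p :=
      le_trans (Nat.sInf_le ⟨θ, hθ, rfl⟩) ((Nat.factorization_le_iff_dvd (Blocks.charDegree_pos θ).ne'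
        Nat.card_pos.ne').2 (Blocks.charDegree_dvd_card θ) p)
    rw [blockDefect]
    omega
  have hover : ∀ a ∈ Cls N n p (cts p c), ∃ ψ ∈ b, classInner (chiA N n a) (ψ : _ → ℂ) ≠ 0 := by
    intro a ha
    let η : IrrCharacter (Perm (Fin n)) := ⟨_, exists_irr hN (mem_Cls.1 ha).1⟩
    have hη : η ∈ B := hcls ⟨a, ha, rfl⟩
    obtain ⟨φ, hφ⟩ := Blocks.exists_constituent (alternatingGroup (Fin n)) η
    obtain ⟨g, hg⟩ := Blocks.exists_conj_of_covers (alternatingGroup (Fin n)) hB hb
      (Blocks.isPBlock_blockOf φ) hcovers ⟨η, hη, φ, Blocks.mem_blockOf_self φ, hφ⟩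
    obtain ⟨ψ, hψ, hψe⟩ := (Set.ext_iff.1 hg φ).1 (Blocks.mem_blockOf_self φ)
    refine ⟨ψ, hψ, ?_⟩
    rw [← hψe, Blocks.classInner_conjIrr] at hφ
    exact hφ
  rcases hp.eq_two_or_odd' with rfl | hodd
  · -- the prime two
    rcases Nat.lt_or_ge w 3 with hw | hw
    · have hD2 : Nat.card D = 1 ∨ Nat.card D = 2 ^ 2 := by
        rcases Nat.eq_zero_or_pos w with rfl | hw0
        · refine Or.inl (Nat.eq_one_of_dvd_one ?_)
          rw [hcardH]
          refine (Subgroup.card_dvd_of_le inf_le_left).trans ?_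
          rw [card_wreath_sylow]
          simp [vf]
        · have h2 := card_inf_alt_two hw0 T
          rw [← hcardH] at h2
          rcases (show w = 1 ∨ w = 2 by omega) with rfl | rfl
          · rw [vf_small (p := 2) (by norm_num)] at h2
            left; omega
          · rw [show vf 2 2 = 1 by rw [vf, Nat.factorial_two]; exact Nat.prime_two.factorization_self] at h2
            right; omega
      refine Or.inr ⟨small ?_, isMulCommutative_of_small hD2⟩
      rw [hcardD] at hD2
      rcases hD2 with h2 | h2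
      · have := Nat.pow_right_injective le_rfl (h2.trans (pow_zero 2).symm)
        omega
      · have := Nat.pow_right_injective le_rfl h2
        omega
    · have hd : blockDefect 2 b + 1 = w + vf 2 w := by
        refine Nat.pow_right_injective le_rfl ?_
        show 2 ^ (blockDefect 2 b + 1) = 2 ^ (w + vf 2 w)
        rw [← card_inf_alt_two (by omega) T, ← hcardH, hcardD, pow_succ']
      obtain ⟨a, ha, hrem, hstar⟩ := exists_height_one h hNp (by omega) fun _ => hw
      obtain ⟨ψ, hψ, hne⟩ := hover a ha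
      obtain ⟨k, hk, hdeg⟩ := constituent_degree hn hN (mem_Cls.1 ha).1 hne
      rcases hk with rfl | ⟨-, he⟩
      swap
      · exact absurd he (hstar rfl)
      have hval := factorization_degree hp h ha
        (ψ := ⟨_, exists_irr hN (mem_Cls.1 ha).1⟩) rfl
      rw [hdeg, one_mul] at hval
      refine Or.inl ⟨⟨ψ, hψ, ?_⟩, ?_⟩
      · rw [blockHeight]
        rw [Nat.prime_two.factorization_self] at hvA
        omega
      · obtain ⟨φ, hφ⟩ := exists_char_even hw T
        refine ⟨Blocks.pullEquiv iso φ, Eq.trans ?_ hφ⟩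
        rw [charDegree, charDegree, Blocks.pullEquiv_apply, map_one]
  · have hp2 : (2 : ℕ).factorization p = 0 := Nat.factorization_eq_zero_of_not_dvd fun hd => by
      obtain ⟨j, hj⟩ := hodd
      have := Nat.le_of_dvd (by norm_num) hd
      have := hp.two_le
      omega
    have hH := inf_alt_eq_self hodd T
    have hd : blockDefect p b = w + vf p w := by
      refine Nat.pow_right_injective hp.two_le ?_
      show p ^ blockDefect p b = p ^ (w + vf p w)
      rw [← hcardD, hcardH, hH, card_wreath_sylow]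
    have hk2 : ∀ k : ℕ, k = 1 ∨ k = 2 → k.factorization p = 0 := by
      rintro k (rfl | rfl)
      · simp
      · exact hp2
    rcases Nat.lt_or_ge w p with hw | hw
    · refine Or.inr ⟨fun ψ hψ => ?_, ?_⟩
      · have hconst : ∀ ψ ∈ b, (charDegree (ψ : alternatingGroup (Fin n) → ℂ)).factorization p + w =
            n.factorial.factorization p := by
          intro ψ hψ
          obtain ⟨η, hη, hne⟩ := Blocks.exists_over_covered (alternatingGroup (Fin n)) hB hb hχB hθ hχθ hψ
          obtain ⟨a, ha, he⟩ := hsub hη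
          rw [he] at hne
          obtain ⟨k, hk, hdeg⟩ := constituent_degree hn hN (mem_Cls.1 ha).1 hne
          have hval := factorization_degree hp h ha (ψ := ⟨_, exists_irr hN (mem_Cls.1 ha).1⟩) rfl
          have hrem := rem'_le hp h ha
          rw [show w.factorial.factorization p = vf p w from rfl, vf_small hw] at hrem
          have hk0 : k ≠ 0 := by rcases hk with rfl | ⟨rfl, -⟩ <;> norm_num
          rw [hdeg, Nat.factorization_mul hk0 (Blocks.charDegree_pos ψ).ne', Finsupp.add_apply,
            hk2 k (hk.imp id And.left)] at hval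
          omega
        rw [blockHeight]
        obtain ⟨η, hη, he⟩ := Nat.sInf_mem (s := (fun ψ : IrrCharacter (alternatingGroup (Fin n)) =>
          (charDegree (ψ : alternatingGroup (Fin n) → ℂ)).factorization p) '' b) ⟨_, θ, hθ, rfl⟩
        rw [← he]
        have h1 := hconst η hη
        have h2 := hconst ψ hψ
        show (charDegree (ψ : alternatingGroup (Fin n) → ℂ)).factorization p -
          (charDegree (η : alternatingGroup (Fin n) → ℂ)).factorization p = 0
        omega
      · have hT : ∀ t ∈ (T : Subgroup (Perm (Fin w))), t = 1 := by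
          have h1 := T.card_eq_multiplicity
          rw [Nat.card_perm, Nat.card_fin, show w.factorial.factorization p = 0 from vf_small hw, pow_zero] at h1
          intro t ht
          rw [Subgroup.eq_bot_of_card_eq _ h1] at ht
          exact ht
        refine ⟨⟨fun x y => iso.injective ?_⟩⟩
        rw [map_mul, map_mul]
        exact Subtype.ext (wreath_comm hT (iso x).2.1 (iso y).2.1)
    · obtain ⟨a, ha, hrem, -⟩ := exists_height_one h hNp hw fun e => by
        subst e
        exact absurd hodd (by decide)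
      obtain ⟨ψ, hψ, hne⟩ := hover a ha
      obtain ⟨k, hk, hdeg⟩ := constituent_degree hn hN (mem_Cls.1 ha).1 hne
      have hval := factorization_degree hp h ha (ψ := ⟨_, exists_irr hN (mem_Cls.1 ha).1⟩) rfl
      have hk0 : k ≠ 0 := by rcases hk with rfl | ⟨rfl, -⟩ <;> norm_num
      rw [hdeg, Nat.factorization_mul hk0 (Blocks.charDegree_pos ψ).ne', Finsupp.add_apply,
        hk2 k (hk.imp id And.left)] at hval
      refine Or.inl ⟨⟨ψ, hψ, ?_⟩, ?_⟩
      · rw [blockHeight]
        omega
      · obtain ⟨φ, hφ⟩ := exists_char_wreath hw T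
        let iso' := iso.trans (MulEquiv.subgroupCongr hH)
        refine ⟨Blocks.pullEquiv iso' φ, Eq.trans ?_ hφ⟩
        rw [charDegree, charDegree, Blocks.pullEquiv_apply, map_one]

end CfsgLib.SymBeta
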