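import Cfsg.Agent.Lib.Char.SymBeta.SelfDual
import Mathlib.Data.Nat.Fib.Basic

/-!
# Numerical bounds
-/

set_option autoImplicit false

namespace CfsgLib.SymBeta

open Finset Equiv

variable {N p : ℕ}

/-- On every odd runner the bead above the first gap is at distance at least two. -/
def Low (a : Fin N → ℤ) : Prop :=
  ∀ g : ℤ, 0 ≤ g → g % 2 = 1 → g ∉ Set.range a →
    (∀ t : ℕ, 1 ≤ t → 0 ≤ g - t * 2 → g - t * 2 ∈ Set.range a) → g + 2 ∉ Set.range a

theorem exists_single_move {c : Fin N → ℤ} (hc : IsCore 2 c) {w : ℕ} (hw : 0 < w) {a : Fin N → ℤ}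
    (ha : a ∈ T 2 c w) :
    ∃ (b : Fin N → ℤ) (j : ℕ) (v : ℤ), 1 ≤ j ∧ j ≤ w ∧ b ∈ T 2 c (w - j) ∧ 0 ≤ v ∧ v % 2 = 1 ∧
      Top 2 (Set.range b) v ∧ (Low a → 2 ≤ j) ∧ (2 ≤ j → Low b) ∧
      Set.range a = insert (v + (j : ℤ) * 2) (Set.range b \ {v}) := by
  classical
  obtain ⟨ha1, ha2, ha3, ha4, ha5⟩ := mem_T.1 ha
  have hP : ¬ Packed 2 a := fun h => by
    have h' := Packed.range_eq hc.pos h hc.packed ha1.injective hc.inj ha2 hc.nonneg ha3
    rw [sum_eq_of_range_eq ha1.injective hc.inj h', left_eq_add, mul_eq_zero] at ha5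
    omega
  simp only [Packed, not_forall, not_exists] at hP
  obtain ⟨i₀, h1, h2⟩ := hP
  have hodd : a i₀ % 2 = 1 := by
    by_contra h
    obtain ⟨m, hm⟩ := ha4 i₀ (Int.dvd_of_emod_eq_zero (show a i₀ % ((2 : ℕ) : ℤ) = 0 by push_cast; omega)) h1
    exact h2 m hm
  obtain ⟨i, j, hj, hres, habs, htop⟩ := exists_slide_at (p := 2) two_pos ha1.injective ha2 h1 h2
  obtain ⟨hv0', hvne⟩ := habs j hj le_rfl
  push_cast at hres hv0' hvne htop
  set v := a i - (j : ℤ) * 2 with hv
  set b : Fin N → ℤ := a - Pi.single i ((j : ℤ) * 2) with hb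
  have hvm : v % 2 = 1 := by omega
  have hbinj : Function.Injective b := injective_sub_single ha1.injective fun l _ => hvne l
  have hbn : ∀ l, 0 ≤ b l := fun l => by
    rcases eq_or_ne l i with rfl | h' <;> simp [hb, *]
  have hbc : cts 2 b = cts 2 c := by
    have h := cts_sub_single_mul (p := 2) a i j
    push_cast at h
    exact h.trans ha3
  obtain ⟨w', hw'⟩ := hc.exists_weight hbinj hbn hbc
  have hbs : ∑ l, b l = ∑ l, c l + 2 * w - j * 2 := by simp [hb, sum_sub_distrib, ha5]
  have hww : w = w' + j := by push_cast at hw'; omega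
  obtain ⟨π, hπ⟩ := exists_strictMono hbinj
  have hbr : Set.range b = insert v (Set.range a \ {a i}) := range_sub_single ha1.injective i _
  have hbpk : Pk 2 b := by
    intro u hu hu'
    push_cast at hu hu' ⊢
    have hui : u ≠ i := fun e => by
      rw [e] at hu
      have : b i = v := by simp [hb, hv]
      omega
    have hbu : b u = a u := by simp [hb, hui]
    obtain ⟨m, hm⟩ := ha4 u (by push_cast; rw [← hbu]; exact hu) (by push_cast; omega)
    push_cast at hm
    have hmi : m ≠ i := fun e => by rw [e] at hm; omega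
    exact ⟨m, by simp [hb, hmi, hui, hm]⟩
  have hrange : Set.range (b ∘ π) = Set.range b := π.surjective.range_comp b
  refine ⟨b ∘ π, j, v, hj, by omega, mem_T.2 ⟨hπ, fun l => hbn _, ?_, hbpk.comp π, by
    rw [sum_comp_perm, hw', show w - j = w' by omega]⟩, by omega, hvm, by rw [hrange]; exact htop, ?_, ?_, ?_⟩
  · rw [← hbc]; exact funext fun r => cts_comp 2 b π r
  · intro hlow
    by_contra hj2
    obtain rfl : j = 1 := by omega
    refine hlow v (by omega) hvm (fun ⟨l, hl⟩ => hvne l hl) (fun t ht h0 => ?_) ⟨i, by rw [hv]; push_cast; ring⟩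
    have := htop.2.2 t (by push_cast; exact h0)
    push_cast at this
    rw [hbr] at this
    rcases this with h' | ⟨h', -⟩
    · omega
    · exact h'
  · intro hj2 g hg0 hgm hgb hseg
    rw [hrange] at hgb hseg ⊢
    have hg : g = v + 2 := by
      by_cases hlt : g < 2
      · exfalso
        have h := htop.2.2 ((v - g) / 2).toNat (by push_cast; omega)
        push_cast at h
        rw [Int.toNat_of_nonneg (by omega), show v - (v - g) / 2 * 2 = g by omega] at h
        exact hgb h
      · have htg : Top 2 (Set.range b) (g - 2) := by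
          refine ⟨?_, by push_cast; simpa using hgb, fun t ht => ?_⟩
          · simpa using hseg 1 le_rfl (by omega)
          · have h := hseg (t + 1) (by omega) (by push_cast at ht ⊢; omega)
            push_cast at h ⊢
            rwa [show g - 2 - (t : ℤ) * 2 = g - ((t : ℤ) + 1) * 2 by ring]
        have := inj_pair htg htop (by omega) (by omega) (by push_cast; omega)
        omega
    rintro ⟨l, hl⟩
    rcases eq_or_ne l i with rfl | hli
    · simp [hb] at hl; omega
    simp [hb, hli] at hl
    rcases lt_or_eq_of_le hj2 with hlt | heq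
    · refine (habs (j - 2) (by omega) (by omega)).2 l ?_
      rw [hl, hg, hv, Nat.cast_sub hj2]
      push_cast
      ring
    · subst heq
      exact hli (ha1.injective (by rw [hl, hg, hv]; push_cast; ring))
  · rw [hrange, show v + (j : ℤ) * 2 = a i by rw [hv]; ring]
    exact range_eq_insert ha1.injective i fun l _ => hvne l

theorem card_low_le {c : Fin N → ℤ} (hc : IsCore 2 c) {w : ℕ} (hw : 0 < w)
    [DecidablePred (Low (N := N))] :
    ((T 2 c w).filter Low).card ≤ ∑ i ∈ range (w - 1), ((T 2 c i).filter Low).card ∧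
    (T 2 c w).card ≤ (T 2 c (w - 1)).card + ∑ i ∈ range (w - 1), ((T 2 c i).filter Low).card := by
  classical
  have hmap : ∀ a ∈ T 2 c w, ∃ q : (_ : ℕ) × (Fin N → ℤ), q ∈ (range w).sigma (fun i => T 2 c i) ∧
      (Low a → q.1 < w - 1) ∧ (q.1 < w - 1 → Low q.2) ∧ ∃ v : ℤ, 0 ≤ v ∧ v % 2 = 1 ∧
        Top 2 (Set.range q.2) v ∧
        Set.range a = insert (v + ((w - q.1 : ℕ) : ℤ) * 2) (Set.range q.2 \ {v}) := by
    intro a ha
    obtain ⟨b, j, v, h1, h2, h3, h4, h5, h6, h7, h8, h9⟩ := exists_single_move hc hw ha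
    refine ⟨⟨w - j, b⟩, by simp only [mem_sigma, mem_range]; exact ⟨by omega, h3⟩,
      fun hl => ?_, fun hl => h8 ?_, v, h4, h5, h6, ?_⟩
    · have := h7 hl
      show w - j < w - 1
      omega
    · change w - j < w - 1 at hl
      omega
    · show Set.range a = insert (v + ((w - (w - j) : ℕ) : ℤ) * 2) _
      rw [show w - (w - j) = j by omega]
      exact h9
  choose! f hfU hf1 hf2 v hv0 hv1 hv2 hv3 using hmap
  have hinj : Set.InjOn f (T 2 c w : Set (Fin N → ℤ)) := by
    intro a ha b hb h
    simp only [mem_coe] at ha hb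
    refine ((mem_T.1 ha).1.range_inj (mem_T.1 hb).1).1 ?_
    have hvv : v a = v b := inj_pair (h ▸ hv2 a ha) (hv2 b hb) (hv0 a ha) (hv0 b hb)
      (by push_cast; rw [hv1 a ha, hv1 b hb])
    rw [hv3 a ha, hv3 b hb, h, hvv]
  constructor
  · rw [← card_sigma]
    refine card_le_card_of_injOn f (fun a ha => ?_) (hinj.mono (by intro a ha; exact (mem_filter.1 ha).1))
    obtain ⟨haT, hal⟩ := mem_filter.1 ha
    have h := hfU a haT
    simp only [mem_coe, mem_sigma, mem_range, mem_filter] at h ⊢
    exact ⟨hf1 a haT hal, h.2, hf2 a haT (hf1 a haT hal)⟩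
  · refine (card_le_card_of_injOn f (t := (({w - 1} : Finset ℕ).sigma fun i => T 2 c i) ∪
      (range (w - 1)).sigma fun i => (T 2 c i).filter Low) (fun a ha => ?_) hinj).trans ?_
    · have h := hfU a ha
      simp only [mem_coe, mem_union, mem_sigma, mem_range, mem_filter, mem_singleton] at h ⊢
      by_cases hlt : (f a).1 < w - 1
      · exact Or.inr ⟨hlt, h.2, hf2 a ha hlt⟩
      · exact Or.inl ⟨by omega, h.2⟩
    · refine (card_union_le _ _).trans ?_
      rw [card_sigma, card_sigma, sum_singleton]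

theorem sum_le_fib (l : ℕ → ℕ) (h0 : l 0 ≤ 1) (h : ∀ w, 0 < w → l w ≤ ∑ i ∈ range (w - 1), l i) :
    ∀ w, 2 ≤ w → ∑ i ∈ range (w - 1), l i ≤ Nat.fib (w - 1) := by
  intro w
  induction w using Nat.strong_induction_on with
  | _ w ih =>
    intro hw
    have h1 : l 1 = 0 := by simpa using h 1 one_pos
    rcases (show w = 2 ∨ w = 3 ∨ 4 ≤ w by omega) with rfl | rfl | hw4
    · simpa using h0
    · simp [sum_range_succ, h1]; exact h0
    obtain ⟨m, rfl⟩ : ∃ m, w = m + 4 := ⟨w - 4, by omega⟩
    rw [show m + 4 - 1 = (m + 2) + 1 by omega, sum_range_succ]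
    have e1 := ih (m + 3) (by omega) (by omega)
    have e2 := (h (m + 2) (by omega)).trans (ih (m + 2) (by omega) (by omega))
    rw [show m + 3 - 1 = m + 2 by omega] at e1
    rw [show m + 2 - 1 = m + 1 by omega] at e2
    rw [show m + 2 + 1 = (m + 1) + 2 by omega, Nat.fib_add_two (n := m + 1)]
    rw [show (m + 1) + 1 = m + 2 by omega]
    omega

theorem card_T_two {c : Fin N → ℤ} (hc : IsCore 2 c) (w : ℕ) : (T 2 c w).card ≤ Nat.fib (w + 1) := by
  classical
  have hT0 : (T 2 c 0).card ≤ 1 := by simpa using (card_T hc 0).1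
  have hl := sum_le_fib (fun i => ((T 2 c i).filter Low).card) ((card_filter_le _ _).trans hT0)
    (fun w hw => (card_low_le hc hw).1)
  induction w with
  | zero => simpa using hT0
  | succ w ih =>
    rcases Nat.eq_zero_or_pos w with rfl | hw
    · refine le_trans (card_low_le hc one_pos).2 ?_
      simpa using hT0
    · refine le_trans (card_low_le hc (Nat.succ_pos w)).2 ?_
      have h2 := hl (w + 1) (by omega)
      rw [Nat.succ_sub_one] at *
      rw [Nat.fib_add_two]
      exact (add_le_add ih h2).trans (by omega)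

theorem card_SC_two_bound {c : Fin N → ℤ} (hc : IsCore 2 c) (w : ℕ) :
    (SC 2 c w).card ≤ if w % 2 = 1 then 0 else 2 ^ (w / 2 - 1) := by
  induction w using Nat.strong_induction_on with
  | _ w ih =>
    rcases Nat.eq_zero_or_pos w with rfl | hw
    · simpa using card_SC_zero hc
    refine (card_SC_two hc hw).trans ?_
    split
    case isTrue hodd =>
      rw [Nat.le_zero, sum_eq_zero]
      intro j hj
      simp only [mem_filter, mem_Icc] at hj
      have h := ih (w - 2 * j) (by omega)
      rw [if_pos (by omega)] at h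
      omega
    case isFalse hev =>
      obtain ⟨m, rfl⟩ : ∃ m, w = 2 * (m + 1) := ⟨w / 2 - 1, by omega⟩
      rw [show 2 * (m + 1) / 2 - 1 = m by omega]
      have hset : (Finset.Icc 1 (2 * (m + 1))).filter (fun j => 2 * j ≤ 2 * (m + 1)) =
          (range (m + 1)).image (fun i => m + 1 - i) := by
        ext j
        simp only [mem_filter, mem_Icc, mem_image, mem_range]
        exact ⟨fun h => ⟨m + 1 - j, by omega, by omega⟩, fun ⟨i, hi, e⟩ => by omega⟩
      rw [hset, sum_image fun i hi j hj e => by simp only [mem_coe, mem_range] at hi hj; omega]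
      have hg : ∀ t : ℕ, ∑ i ∈ range (t + 1), 2 ^ (i - 1) = 2 ^ t := by
        intro t
        induction t with
        | zero => simp
        | succ t iht => rw [sum_range_succ, iht, pow_succ, Nat.add_sub_cancel]; omega
      rw [← hg m]
      refine sum_le_sum fun i hi => ?_
      rw [mem_range] at hi
      have h := ih (2 * (m + 1) - 2 * (m + 1 - i)) (by omega)
      rw [show 2 * (m + 1) - 2 * (m + 1 - i) = 2 * i by omega, if_neg (by omega),
        show 2 * i / 2 - 1 = i - 1 by omega] at h
      rw [show 2 * (m + 1) - 2 * (m + 1 - i) = 2 * i by omega]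
      exact h

/-- The bound used for `p = 2`. -/
theorem two_bound {c : Fin N → ℤ} (hc : IsCore 2 c) {w : ℕ} (hw : 4 ≤ w) :
    (T 2 c w).card + (SC 2 c w).card < 2 ^ (w - 1) := by
  have h1 := card_T_two hc w
  have h2 : (SC 2 c w).card ≤ 2 ^ (w - 3) := (card_SC_two_bound hc w).trans (by
    split
    · exact Nat.zero_le _
    · exact Nat.pow_le_pow_right two_pos (by omega))
  have hf : ∀ t, Nat.fib (t + 5) ≤ 5 * 2 ^ t := by
    intro t
    induction t with
    | zero => decide
    | succ t ih =>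
      have hmono : Nat.fib (t + 4) ≤ Nat.fib (t + 5) := Nat.fib_mono (by omega)
      rw [show t + 1 + 5 = (t + 4) + 2 by omega, Nat.fib_add_two, pow_succ]
      rw [show t + 4 + 1 = t + 5 by omega]
      omega
  obtain ⟨t, rfl⟩ : ∃ t, w = t + 4 := ⟨w - 4, by omega⟩
  have h3 := hf t
  have h0 : 0 < 2 ^ t := Nat.two_pow_pos t
  rw [show t + 4 - 3 = t + 1 by omega, pow_succ] at h2
  rw [show t + 4 + 1 = t + 5 by omega] at h1
  rw [show t + 4 - 1 = t + 3 by omega, pow_add]
  omega

theorem card_SC_odd_bound (hp : Odd p) (hp3 : 3 ≤ p) (hC : (p : ℤ) ∣ 2 * (N : ℤ) - 1) {c : Fin N → ℤ}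
    (hc : IsCore p c) (w : ℕ) : (SC p c w).card ≤ p ^ (w - 1) := by
  induction w using Nat.strong_induction_on with
  | _ w ih =>
    rcases Nat.eq_zero_or_pos w with rfl | hw
    · simpa using card_SC_zero hc
    refine (card_SC_odd hp hC hc hw).trans ?_
    set h := (p - 1) / 2
    obtain ⟨q, hq⟩ := hp
    have hph : p = 2 * h + 1 := by omega
    rcases (show w = 1 ∨ 2 ≤ w by omega) with rfl | hw2
    · simp [filter_eq_empty_iff.2 (show ∀ j ∈ Finset.Icc 1 1, ¬ 2 * j ≤ 1 by intro j hj; simp at hj; omega)]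
      exact card_SC_zero hc
    obtain ⟨m, rfl⟩ : ∃ m, w = m + 2 := ⟨w - 2, by omega⟩
    have hA : ∑ i ∈ range (m + 2), (SC p c i).card ≤ 1 + ∑ i ∈ range (m + 1), p ^ i := by
      rw [sum_range_succ' (fun i => (SC p c i).card), add_comm]
      refine add_le_add (card_SC_zero hc) (sum_le_sum fun i hi => ?_)
      simpa using ih (i + 1) (by simp only [mem_range] at hi; omega)
    have hB : ∑ j ∈ (Finset.Icc 1 (m + 2)).filter (fun j => 2 * j ≤ m + 2), (SC p c (m + 2 - 2 * j)).card ≤
        1 + ∑ i ∈ range m, p ^ i := by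
      rw [← sum_image (g := fun j => m + 2 - 2 * j) (f := fun i => (SC p c i).card) (fun i hi j hj e => by
        simp only [mem_coe, mem_filter, mem_Icc] at hi hj e
        omega)]
      refine (sum_le_sum_of_subset (t := range (m + 1)) fun i hi => ?_).trans ?_
      · simp only [mem_image, mem_filter, mem_Icc] at hi
        obtain ⟨j, hj, rfl⟩ := hi
        simp only [mem_range]
        omega
      rw [sum_range_succ' (fun i => (SC p c i).card), add_comm]
      refine add_le_add (card_SC_zero hc) (sum_le_sum fun i hi => ?_)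
      simpa using ih (i + 1) (by simp only [mem_range] at hi; omega)
    have hS1 := sum_geom_le p (by omega) (m + 1)
    rw [show m + 2 - 1 = m + 1 by omega, ← hS1, show p - 1 = 2 * h by omega]
    have hrec : ∑ i ∈ range (m + 1), p ^ i = p * ∑ i ∈ range m, p ^ i + 1 := by
      rw [sum_range_succ', mul_sum]
      simp [pow_succ, mul_comm]
    rw [hrec] at hA ⊢
    have hh : 1 ≤ h := by omega
    refine (add_le_add hA (Nat.mul_le_mul_left h hB)).trans ?_
    rw [hph]
    nlinarith [Nat.zero_le (∑ i ∈ range m, (2 * h + 1) ^ i),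
      Nat.mul_le_mul hh (Nat.mul_le_mul hh (Nat.le_refl (∑ i ∈ range m, (2 * h + 1) ^ i)))]

end CfsgLib.SymBeta
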