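import Cfsg.Agent.Lib.Char.SymBeta.SymBlock
import Cfsg.Agent.Lib.Char.SymBeta.Count
import Cfsg.Agent.Lib.Blocks.CoveringDefect
import Mathlib.GroupTheory.SpecificGroups.Alternating

/-!
# Blocks of the alternating groups: restriction and rank
-/

set_option autoImplicit false

namespace CfsgLib.SymBeta

open Finset Equiv Cfsg CfsgLib.Char

variable {N n p : ℕ}

/-- The restricted tuple character. -/
def chiA (N n : ℕ) (a : Fin N → ℤ) : alternatingGroup (Fin n) → ℂ := fun g => chi N n a (g : Perm (Fin n))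

/-- Its regular part. -/
noncomputable def rvA (p N n : ℕ) (a : Fin N → ℤ) : alternatingGroup (Fin n) → ℂ :=
  pRegularPart p (chiA N n a)

theorem chiA_star (hn : n ≤ N) {a : Fin N → ℤ} (ha : a ∈ Idx N n) :
    chiA N n (star N a) = chiA N n a := by
  funext g
  rw [chiA, chiA, chi_star hn ha, Perm.mem_alternatingGroup.1 g.2]
  simp

theorem rvA_eq (a : Fin N → ℤ) :
    rvA p N n a = (LinearMap.funLeft ℂ ℂ (Subtype.val : alternatingGroup (Fin n) → Perm (Fin n))) (rv p N n a) := by
  funext g
  simp only [rvA, rv, pRegularPart, chiA, LinearMap.funLeft_apply, IsPRegular, Subgroup.orderOf_coe]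
  by_cases h : p ∣ orderOf g <;> simp [h]

theorem card_two_mul (hn : 2 ≤ n) :
    2 * Nat.card (alternatingGroup (Fin n)) = Nat.card (Perm (Fin n)) := by
  haveI : Nontrivial (Fin n) := Fin.nontrivial_iff_two_le.2 hn
  exact two_mul_nat_card_alternatingGroup

/-- The norm of a restriction. -/
theorem norm_chiA (hn : 2 ≤ n) (hN : 3 * n ≤ N) {a : Fin N → ℤ} (ha : a ∈ Idx N n) :
    classInner (chiA N n a) (chiA N n a) = if star N a = a then 2 else 1 := by
  classical
  have hstar := star_mem_Idx (by omega : n ≤ N) ha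
  have h1 := classInner_irr_self (⟨_, exists_irr hN ha⟩ : IrrCharacter (Perm (Fin n)))
  have h2 : classInner (chi N n a) (chi N n (star N a)) = if star N a = a then 1 else 0 := by
    split
    case isTrue e => rw [e]; exact h1
    case isFalse e =>
      exact classInner_irr_of_ne (χ := (⟨_, exists_irr hN ha⟩ : IrrCharacter (Perm (Fin n))))
        (ψ := ⟨_, exists_irr hN hstar⟩) fun he => e (chi_injOn hN ha hstar (congrArg Subtype.val he)).symm
  have hsum : 2 * ∑ g : alternatingGroup (Fin n), chi N n a g * chi N n a g =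
      (∑ σ : Perm (Fin n), chi N n a σ * chi N n a σ) +
        ∑ σ : Perm (Fin n), chi N n a σ * chi N n (star N a) σ := by
    rw [← sum_add_distrib, ← sum_subtype (univ.filter fun σ : Perm (Fin n) => σ ∈ alternatingGroup (Fin n))
      (by simp) fun σ => chi N n a σ * chi N n a σ, mul_sum, sum_filter]
    refine sum_congr rfl fun σ _ => ?_
    rw [chi_star (by omega : n ≤ N) ha]
    rcases Int.units_eq_one_or (Perm.sign σ) with e | e <;> simp [Perm.mem_alternatingGroup, e] <;> ring
  have hc : (Nat.card (Perm (Fin n)) : ℂ) = 2 * (Nat.card (alternatingGroup (Fin n)) : ℂ) := by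
    rw [← card_two_mul hn]; push_cast; ring
  rw [classInner_chi] at h2
  rw [show ((⟨_, exists_irr hN ha⟩ : IrrCharacter (Perm (Fin n))) : Perm (Fin n) → ℂ) = chi N n a from rfl,
    classInner_chi] at h1
  unfold classInner
  rw [sum_congr rfl (fun g _ => by rw [chiA, star_chi] :
    ∀ g ∈ (univ : Finset (alternatingGroup (Fin n))), chiA N n a g * (starRingEnd ℂ) (chiA N n a g) =
      chi N n a g * chi N n a g)]
  have h3 : (Nat.card (alternatingGroup (Fin n)) : ℂ)⁻¹ * ∑ g : alternatingGroup (Fin n), chi N n a g * chi N n a g =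
      (Nat.card (Perm (Fin n)) : ℂ)⁻¹ * (2 * ∑ g : alternatingGroup (Fin n), chi N n a g * chi N n a g) := by
    rw [hc, mul_inv]; ring
  rw [h3, hsum, mul_add, h1, h2]
  split <;> norm_num

/-- Constituents of a restriction lie in the span of the restriction and any other constituent. -/
theorem constituent_mem_span (hn : 2 ≤ n) (hN : 3 * n ≤ N) {a : Fin N → ℤ} (ha : a ∈ Idx N n)
    {ψ φ : IrrCharacter (alternatingGroup (Fin n))} (hψ : classInner (chiA N n a) (ψ : _ → ℂ) ≠ 0)
    (hφ : classInner (chiA N n a) (φ : _ → ℂ) ≠ 0) :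
    (star N a ≠ a → (ψ : alternatingGroup (Fin n) → ℂ) ∈ Submodule.span ℂ {chiA N n a}) ∧
    (ψ : alternatingGroup (Fin n) → ℂ) ∈ Submodule.span ℂ {chiA N n a, (φ : _ → ℂ)} := by
  classical
  haveI := Fintype.ofFinite (IrrCharacter (alternatingGroup (Fin n)))
  have hgen : IsGeneralizedCharacter (alternatingGroup (Fin n)) (chiA N n a) :=
    IsGen.restrict (alternatingGroup (Fin n)) (isGen_chi a)
  obtain ⟨m, hm⟩ := IsGen.exists_sum hgen
  have hcoef : ∀ η : IrrCharacter (alternatingGroup (Fin n)),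
      classInner (chiA N n a) (η : _ → ℂ) = m η := by
    intro η
    rw [hm]
    unfold classInner
    simp only [Finset.sum_apply, Pi.smul_apply, smul_eq_mul, sum_mul]
    rw [sum_comm, mul_sum, sum_eq_single η]
    · have := classInner_irr_self η
      unfold classInner at this
      simp only [mul_assoc, ← mul_sum] at this ⊢
      linear_combination (m η : ℂ) * this
    · intro ζ _ hζ
      have := classInner_irr_of_ne hζ
      unfold classInner at this
      simp only [mul_assoc, ← mul_sum] at this ⊢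
      linear_combination (m ζ : ℂ) * this
    · simp
  rw [hcoef] at hψ hφ
  have hψ0 : m ψ ≠ 0 := by exact_mod_cast hψ
  have hφ0 : m φ ≠ 0 := by exact_mod_cast hφ
  have hnorm := norm_chiA hn hN ha
  rw [hm, IsGen.classInner_self] at hnorm
  have hsq : ∑ η, m η * m η = if star N a = a then 2 else 1 := by
    split_ifs at hnorm ⊢ <;> exact_mod_cast hnorm
  have hone : ∀ S : Finset (IrrCharacter (alternatingGroup (Fin n))),
      (∀ η ∈ S, m η ≠ 0) → (S.card : ℤ) ≤ if star N a = a then 2 else 1 := by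
    intro S hS
    rw [← hsq]
    refine le_trans ?_ (sum_le_sum_of_subset_of_nonneg (subset_univ S) fun η _ _ => mul_self_nonneg _)
    rw [Finset.cast_card]
    refine sum_le_sum fun η hη => ?_
    have := mul_self_pos.2 (hS η hη)
    omega
  have hsupp : ∀ η, m η ≠ 0 → η = ψ ∨ (star N a = a ∧ (η = φ ∨ φ = ψ)) := by
    intro η hη
    by_cases h : η = ψ
    · exact Or.inl h
    refine Or.inr ?_
    have h2 := hone {η, ψ} (by simp [hη, hψ0])
    rw [card_pair h] at h2
    by_cases hs : star N a = a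
    · refine ⟨hs, ?_⟩
      by_contra hc
      push Not at hc
      have h3 := hone {η, ψ, φ} (by simp [hη, hψ0, hφ0])
      rw [card_eq_three.2 ⟨η, ψ, φ, h, hc.1, Ne.symm hc.2, rfl⟩, if_pos hs] at h3
      omega
    · rw [if_neg hs] at h2; omega
  constructor
  · intro hs
    have : chiA N n a = (m ψ : ℂ) • (ψ : alternatingGroup (Fin n) → ℂ) := by
      conv_lhs => rw [hm]
      exact sum_eq_single ψ (fun η _ hη => by
        have : m η = 0 := by_contra fun h => (hsupp η h).elim hη fun h' => hs h'.1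
        simp [this]) (by simp)
    exact Submodule.mem_span_singleton.2 ⟨(m ψ : ℂ)⁻¹, by rw [this, smul_smul, inv_mul_cancel₀ hψ, one_smul]⟩
  · rcases eq_or_ne φ ψ with rfl | hne
    · exact Submodule.subset_span (Set.mem_insert_of_mem _ rfl)
    have : chiA N n a = (m ψ : ℂ) • (ψ : alternatingGroup (Fin n) → ℂ) + (m φ : ℂ) • (φ : _ → ℂ) := by
      conv_lhs => rw [hm]
      rw [← sum_subset (subset_univ ({ψ, φ} : Finset (IrrCharacter (alternatingGroup (Fin n))))), sum_pair hne.symm]
      intro η _ hη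
      have : m η = 0 := by_contra fun h => hη (by
        rcases hsupp η h with e | ⟨-, e | e⟩
        · simp [e]
        · simp [e]
        · exact absurd e hne)
      simp [this]
    refine Submodule.mem_span_pair.2 ⟨(m ψ : ℂ)⁻¹, -((m ψ : ℂ)⁻¹ * m φ), ?_⟩
    rw [this, smul_add, smul_smul, smul_smul, inv_mul_cancel₀ hψ, one_smul, neg_smul, add_neg_cancel_right]

/-- Regular part as a linear map. -/
noncomputable def regMap (p : ℕ) (G : Type*) [Group G] : (G → ℂ) →ₗ[ℂ] (G → ℂ) where
  toFun f := pRegularPart p f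
  map_add' f g := by
    funext x
    simp only [pRegularPart, Pi.add_apply]
    split <;> simp
  map_smul' c f := by
    funext x
    simp only [pRegularPart, Pi.smul_apply, RingHom.id_apply, smul_eq_mul]
    split <;> simp

/-- The self-mirrored members of a residue class. -/
noncomputable def Fx (N n p : ℕ) (c : Fin N → ℤ) : Finset (Fin N → ℤ) := by
  classical
  exact (Cls N n p (cts p c)).filter fun a => star N a = a

theorem Fx_subset (hn : n ≤ N) {c : Fin N → ℤ} {w : ℕ} (h : Data N n p c w) :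
    Fx N n p c ⊆ SC p c w := fun a ha => by
  simp only [Fx, mem_filter, mem_Cls] at ha
  obtain ⟨hm, hnn, hs⟩ := mem_Idx.1 ha.1.1
  exact mem_SC.2 ⟨hm, hnn, ha.1.2, sd_of_star_eq hn ha.1.1 ha.2, by rw [hs, h.sum_eq]⟩

/-- The tuples spanning the restrictions. -/
noncomputable def WA (p N n : ℕ) (c : Fin N → ℤ) (w : ℕ) : Finset (alternatingGroup (Fin n) → ℂ) := by
  classical
  exact (T p c w).image (rvA p N n)

theorem altRank_le (hp : p.Prime) (hn : 2 ≤ n) (hN : 3 * n ≤ N) (hNp : ∀ j ≤ n, (j + 1) * p + n ≤ N)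
    {c : Fin N → ℤ} {w : ℕ} (h : Data N n p c w) {b : Set (IrrCharacter (alternatingGroup (Fin n)))}
    (hb : ∀ ψ ∈ b, ∃ a ∈ Cls N n p (cts p c), classInner (chiA N n a) (ψ : _ → ℂ) ≠ 0) :
    blockRank p b ≤ (WA p N n c w).card + (Fx N n p c).card := by
  classical
  have hex : ∀ a ∈ Idx N n, ∃ φ : IrrCharacter (alternatingGroup (Fin n)),
      classInner (chiA N n a) (φ : _ → ℂ) ≠ 0 := fun a ha =>
    Blocks.exists_constituent (alternatingGroup (Fin n)) (⟨_, exists_irr hN ha⟩ : IrrCharacter (Perm (Fin n)))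
  obtain ⟨φ₀, -⟩ : ∃ φ : IrrCharacter (alternatingGroup (Fin n)), φ = trivChar _ := ⟨_, rfl⟩
  let φ : (Fin N → ℤ) → IrrCharacter (alternatingGroup (Fin n)) := fun a =>
    if ha : a ∈ Idx N n then (hex a ha).choose else φ₀
  set R := regMap p (alternatingGroup (Fin n))
  set U := WA p N n c w ∪ (Fx N n p c).image fun a => R (φ a : alternatingGroup (Fin n) → ℂ)
  have hrvA : ∀ a ∈ Cls N n p (cts p c), rvA p N n a ∈ Submodule.span ℂ (U : Set (alternatingGroup (Fin n) → ℂ)) := by
    intro a ha
    have h1 := rv_mem_span hp hNp h.core h.sum_eq (mem_Cls.1 ha).2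
    have h2 := Submodule.mem_map_of_mem (f := LinearMap.funLeft ℂ ℂ
      (Subtype.val : alternatingGroup (Fin n) → Perm (Fin n))) h1
    rw [Submodule.map_span, ← rvA_eq] at h2
    refine Submodule.span_mono ?_ h2
    rintro _ ⟨_, ⟨t, ht, rfl⟩, rfl⟩
    rw [← rvA_eq]
    simp only [U, coe_union, WA, coe_image]
    exact Or.inl ⟨t, ht, rfl⟩
  unfold blockRank
  have hle : Submodule.span ℂ ((fun χ : IrrCharacter (alternatingGroup (Fin n)) =>
      pRegularPart p (χ : _ → ℂ)) '' b) ≤ Submodule.span ℂ (U : Set (alternatingGroup (Fin n) → ℂ)) := by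
    rw [Submodule.span_le]
    rintro _ ⟨ψ, hψ, rfl⟩
    obtain ⟨a, ha, hne⟩ := hb ψ hψ
    have haI := (mem_Cls.1 ha).1
    have hφa : classInner (chiA N n a) (φ a : alternatingGroup (Fin n) → ℂ) ≠ 0 := by
      simp only [φ, dif_pos haI]; exact (hex a haI).choose_spec
    obtain ⟨h1, h2⟩ := constituent_mem_span hn hN haI hne hφa
    show R (ψ : _ → ℂ) ∈ Submodule.span ℂ (U : Set (alternatingGroup (Fin n) → ℂ))
    by_cases hs : star N a = a
    · have h3 := Submodule.mem_map_of_mem (f := R) h2
      rw [Submodule.map_span] at h3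
      refine Submodule.span_le.2 ?_ h3
      rintro _ ⟨_, rfl | rfl, rfl⟩
      · exact hrvA a ha
      · exact Submodule.subset_span (by
          simp only [U, coe_union, coe_image]
          exact Or.inr ⟨a, by simp [Fx, ha, hs], rfl⟩)
    · have h3 := Submodule.mem_map_of_mem (f := R) (h1 hs)
      rw [Submodule.map_span] at h3
      refine Submodule.span_le.2 ?_ h3
      rintro _ ⟨_, rfl, rfl⟩
      exact hrvA a ha
  refine (Submodule.finrank_mono hle).trans ((finrank_span_finset_le_card _).trans ?_)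
  exact (card_union_le _ _).trans (Nat.add_le_add_left card_image_le _)

theorem card_WA_le {c : Fin N → ℤ} {w : ℕ} : (WA p N n c w).card ≤ (T p c w).card := by
  classical exact card_image_le

/-- On a self-mirrored class the spanning set folds in half. -/
theorem two_mul_card_WA (hp : 0 < p) (hn : n ≤ N) (hC : (p : ℤ) ∣ 2 * (N : ℤ) - 1) {c : Fin N → ℤ}
    {w : ℕ} (h : Data N n p c w) (hne : (Fx N n p c).Nonempty) :
    2 * (WA p N n c w).card ≤ (T p c w).card + (Fx N n p c).card := by
  classical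
  have hTI : ∀ a ∈ T p c w, a ∈ Idx N n := fun a ha => by
    obtain ⟨h1, h2, -, -, h5⟩ := mem_T.1 ha
    exact mem_Idx.2 ⟨h1, h2, by rw [h5, h.sum_eq]⟩
  obtain ⟨a₀, ha₀⟩ := hne
  simp only [Fx, mem_filter, mem_Cls] at ha₀
  have hstar : ∀ a ∈ T p c w, star N a ∈ T p c w := fun a ha => by
    obtain ⟨-, -, h3, h4, -⟩ := mem_T.1 ha
    obtain ⟨h1', h2', h5'⟩ := mem_Idx.1 (star_mem_Idx hn (hTI a ha))
    refine mem_T.2 ⟨h1', h2', ?_, pk_star hn hC (hTI a ha) h4, by rw [h5', h.sum_eq]⟩
    rw [cts_star_congr hp hn (hTI a ha) ha₀.1.1 (h3.trans ha₀.1.2.symm), ha₀.2, ha₀.1.2]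
  set q : (Fin N → ℤ) → Finset (Fin N → ℤ) := fun a => {a, star N a} with hq
  set g : Finset (Fin N → ℤ) → (alternatingGroup (Fin n) → ℂ) := fun s =>
    (s.card : ℂ)⁻¹ • ∑ x ∈ s, rvA p N n x
  have hg : ∀ a ∈ T p c w, rvA p N n a = g (q a) := by
    intro a ha
    have hc : ∀ x ∈ q a, rvA p N n x = rvA p N n a := fun x hx => by
      simp only [hq, mem_insert, mem_singleton] at hx
      rcases hx with rfl | rfl
      · rfl
      · simp only [rvA, chiA_star hn (hTI a ha)]
    simp only [g]
    rw [sum_congr rfl hc, sum_const, ← Nat.cast_smul_eq_nsmul ℂ, smul_smul, inv_mul_cancel₀, one_smul]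
    exact Nat.cast_ne_zero.2 (card_ne_zero.2 ⟨a, by simp [hq]⟩)
  have hcard : (WA p N n c w).card ≤ ((T p c w).image q).card := by
    refine le_trans (card_le_card ?_) (card_image_le (f := g))
    intro f hf
    simp only [WA, mem_image] at hf
    obtain ⟨a, ha, rfl⟩ := hf
    exact mem_image.2 ⟨q a, mem_image_of_mem q ha, (hg a ha).symm⟩
  have hfib : 2 * ((T p c w).image q).card ≤
      (T p c w).card + ((T p c w).filter fun a => star N a = a).card := by
    rw [card_eq_sum_card_image q (T p c w),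
      card_eq_sum_card_fiberwise (f := q) (t := (T p c w).image q) (fun a ha => mem_image_of_mem q (mem_filter.1 ha).1),
      ← sum_add_distrib, mul_comm, ← smul_eq_mul, ← sum_const]
    refine sum_le_sum fun s hs => ?_
    obtain ⟨a, ha, rfl⟩ := mem_image.1 hs
    by_cases he : star N a = a
    · have h1 : 0 < ((T p c w).filter fun x => q x = q a).card := card_pos.2 ⟨a, mem_filter.2 ⟨ha, rfl⟩⟩
      have h2 : 0 < (((T p c w).filter fun x => star N x = x).filter fun x => q x = q a).card :=
        card_pos.2 ⟨a, mem_filter.2 ⟨mem_filter.2 ⟨ha, he⟩, rfl⟩⟩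
      omega
    · refine le_add_right ?_
      refine one_lt_card.2 ⟨a, by simp [ha], star N a, ?_, Ne.symm he⟩
      simp only [mem_filter, hq, star_star hn (hTI a ha)]
      exact ⟨hstar a ha, Finset.pair_comm _ _⟩
  have hsub : ((T p c w).filter fun a => star N a = a) ⊆ Fx N n p c := fun a ha => by
    simp only [mem_filter] at ha
    simp only [Fx, mem_filter, mem_Cls]
    exact ⟨⟨hTI a ha.1, (mem_T.1 ha.1).2.2.1⟩, ha.2⟩
  have := card_le_card hsub
  omega

end CfsgLib.SymBeta
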