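import Mathlib

/-!
# Symmetric group characters as antisymmetric functions of tuples

`val N σ a` is the coefficient at the exponent `a` of the product of the Vandermonde determinant
and the power sums of the cycle lengths of `σ`, written as a sum over `σ`-invariant colourings.
-/

set_option autoImplicit false

namespace CfsgLib.SymBeta

open Finset

variable {N : ℕ}

/-- Sum of `0, …, N - 1`. -/
def base (N : ℕ) : ℤ := ∑ i : Fin N, (i : ℤ)

/-- Supported on injective nonnegative tuples of a given excess. -/
def Supp (d : ℤ) (F : (Fin N → ℤ) → ℂ) : Prop :=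
  ∀ a, F a ≠ 0 → Function.Injective a ∧ (∀ i, 0 ≤ a i) ∧ ∑ i, a i = base N + d

/-- Alternating in the entries. -/
def Anti (F : (Fin N → ℤ) → ℂ) : Prop :=
  ∀ (π : Equiv.Perm (Fin N)) (a : Fin N → ℤ), F (a ∘ π) = ((Equiv.Perm.sign π : ℤ) : ℂ) * F a

theorem Anti.eq_zero {F : (Fin N → ℤ) → ℂ} (h : Anti F) {a : Fin N → ℤ}
    (ha : ¬ Function.Injective a) : F a = 0 := by
  simp only [Function.Injective, not_forall] at ha
  obtain ⟨i, j, hij, hne⟩ := ha
  have h1 := h (Equiv.swap i j) a
  have h2 : a ∘ Equiv.swap i j = a := by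
    funext x
    rcases eq_or_ne x i with rfl | hx
    · simp [hij]
    rcases eq_or_ne x j with rfl | hx'
    · simp [hij]
    simp [Equiv.swap_apply_of_ne_of_ne hx hx']
  rw [h2, Equiv.Perm.sign_swap hne] at h1
  simp only [Units.val_neg, Units.val_one, Int.cast_neg, Int.cast_one, neg_mul, one_mul] at h1
  linear_combination h1 / 2

/-- Small tuples contain every small value. -/
theorem exists_eq {a : Fin N → ℤ} (hinj : Function.Injective a) (hnn : ∀ i, 0 ≤ a i) {d : ℤ}
    (hsum : ∑ i, a i ≤ base N + d) (hd : 0 ≤ d) {v : ℤ} (hv0 : 0 ≤ v) (hv : v + d < N) : ∃ i, a i = v := by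
  classical
  by_contra hne
  push Not at hne
  set S := univ.image a
  have hcard : S.card = N := by simp [S, card_image_of_injective _ hinj]
  set R := Finset.Ico (0 : ℤ) N
  have hR : R.card = N := by simp [R]
  have e1 : ∑ i, a i = ∑ x ∈ S, x := (sum_image (f := fun x : ℤ => x) fun x _ y _ h => hinj h).symm
  have e2 : base N = ∑ x ∈ R, x := by
    refine Finset.sum_bij (fun (i : Fin N) _ => (i : ℤ)) (fun i _ => by simp [R, i.2])
      (fun i _ j _ h => by exact Fin.ext (by exact_mod_cast h))
      (fun x hx => ⟨⟨x.toNat, by simp [R] at hx; omega⟩, mem_univ _, by simp [R] at hx ⊢; omega⟩)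
      fun i _ => rfl
  have hc : (S \ R).card = (R \ S).card := Finset.card_sdiff_comm (hcard.trans hR.symm)
  have h1 : ((S \ R).card : ℤ) * N ≤ ∑ x ∈ S \ R, x := by
    have := Finset.card_nsmul_le_sum (S \ R) (fun x => x) (N : ℤ) fun x hx => by
      simp only [S, R, mem_sdiff, mem_image, mem_univ, true_and, mem_Ico] at hx
      obtain ⟨⟨i, rfl⟩, h⟩ := hx
      have := hnn i
      omega
    simpa using this
  have hvR : v ∈ R \ S := by
    simp only [S, R, mem_sdiff, mem_Ico, mem_image, mem_univ, true_and, not_exists]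
    exact ⟨⟨hv0, by omega⟩, fun i => hne i⟩
  have h2 : ∑ x ∈ (R \ S).erase v, x ≤ (((R \ S).erase v).card : ℤ) * N := by
    have := Finset.sum_le_card_nsmul ((R \ S).erase v) (fun x => x) (N : ℤ) fun x hx => by
      simp only [R, mem_erase, mem_sdiff, mem_Ico] at hx
      omega
    simpa using this
  have h3 := add_sum_erase (R \ S) (fun x : ℤ => x) hvR
  have h4 := Finset.card_erase_add_one hvR
  have h5 : ((R \ S).card : ℤ) = ((R \ S).erase v).card + 1 := by omega
  have e3 := Finset.sum_sdiff_sub_sum_sdiff (s₁ := R) (s₂ := S) (f := fun x : ℤ => x)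
  rw [hc, h5] at h1
  rw [add_mul, one_mul] at h1
  omega

/-- Raising by `k`. -/
def up (k : ℤ) (F : (Fin N → ℤ) → ℂ) : (Fin N → ℤ) → ℂ := fun a => ∑ i, F (a - Pi.single i k)

/-- The truncated lowering operator on sets of `j` entries. -/
noncomputable def down (m : ℤ) (j : ℕ) (F : (Fin N → ℤ) → ℂ) : (Fin N → ℤ) → ℂ := fun a =>
  if ∀ i, 0 ≤ a i then
    ∑ I ∈ (univ : Finset (Fin N)).powersetCard j, F (a + fun l => if l ∈ I then m else 0)
  else 0

theorem Supp.up {d k : ℤ} {F : (Fin N → ℤ) → ℂ} (hF : Supp d F) (hA : Anti (up k F)) (hk : 0 ≤ k) :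
    Supp (d + k) (up k F) := by
  intro a ha
  obtain ⟨i, -, hi⟩ := exists_ne_zero_of_sum_ne_zero ha
  obtain ⟨-, hnn, hs⟩ := hF _ hi
  refine ⟨by_contra fun h => ha (hA.eq_zero h), fun l => ?_, ?_⟩
  · have := hnn l
    rcases eq_or_ne l i with rfl | hl
    · simp at this; omega
    · simpa [Pi.single_eq_of_ne hl] using this
  · simp [sum_sub_distrib] at hs
    omega

theorem Anti.up {k : ℤ} {F : (Fin N → ℤ) → ℂ} (hF : Anti F) : Anti (up k F) := by
  intro π a
  simp only [SymBeta.up, mul_sum]
  refine Eq.trans ?_ (Equiv.sum_comp π fun i => ((Equiv.Perm.sign π : ℤ) : ℂ) * F (a - Pi.single i k))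
  refine sum_congr rfl fun i _ => ?_
  rw [← hF π]
  congr 1
  funext l
  simp [Pi.single_apply, π.injective.eq_iff]

theorem Anti.down {m : ℤ} {j : ℕ} {F : (Fin N → ℤ) → ℂ} (hF : Anti F) : Anti (down m j F) := by
  intro π a
  have hiff : (∀ i, 0 ≤ (a ∘ π) i) ↔ ∀ i, 0 ≤ a i := (π.surjective.forall (p := fun i => 0 ≤ a i)).symm
  simp only [SymBeta.down, hiff]
  split
  case isFalse => simp
  rw [mul_sum]
  refine sum_bij (fun I _ => I.map π.toEmbedding) (fun I hI => ?_) (fun I _ J _ h => map_injective _ h)
    (fun I hI => ⟨I.map π.symm.toEmbedding, ?_, ?_⟩) fun I _ => ?_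
  · rw [mem_powersetCard] at hI ⊢
    exact ⟨subset_univ _, by rw [card_map]; exact hI.2⟩
  · rw [mem_powersetCard] at hI ⊢
    exact ⟨subset_univ _, by rw [card_map]; exact hI.2⟩
  · ext x; simp
  · rw [← hF π]
    congr 1
    funext l
    simp

/-- Lowering commutes with raising by `k` when `k` is no small multiple of `m`. -/
theorem down_up {d k m : ℤ} {j : ℕ} {F : (Fin N → ℤ) → ℂ} (hF : Supp d F) (hA : Anti F)
    (hk : 0 ≤ k) (hm : 0 < m) (hd : 0 ≤ d) (hN : ((j : ℤ) + 1) * m + d + k ≤ N)
    (hkm : ∀ t : ℕ, 1 ≤ t → t ≤ j → k ≠ t * m) (a : Fin N → ℤ) :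
    down m j (up k F) a = up k (down m j F) a := by
  classical
  by_cases hinj : Function.Injective a
  swap
  · rw [(hA.up.down).eq_zero hinj, (hA.down.up).eq_zero hinj]
  by_cases ha : ∀ i, 0 ≤ a i
  swap
  · rw [down, if_neg ha]
    refine (sum_eq_zero fun i _ => ?_).symm
    rw [down, if_neg]
    push Not at ha ⊢
    obtain ⟨l, hl⟩ := ha
    exact ⟨l, by rcases eq_or_ne l i with rfl | h <;> simp [*] <;> omega⟩
  rw [down, if_pos ha]
  unfold up
  rw [sum_comm]
  refine sum_congr rfl fun i _ => ?_
  rw [down]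
  split
  case isTrue h =>
    exact sum_congr rfl fun I _ => congrArg F (by funext l; simp; ring)
  case isFalse h =>
    refine sum_eq_zero fun I hI => ?_
    set a' : Fin N → ℤ := (a + fun l => if l ∈ I then m else 0) - Pi.single i k with ha'
    by_contra hne
    obtain ⟨hinj', hnn', hs'⟩ := hF a' hne
    have hai : a i < k := by
      push Not at h
      obtain ⟨l, hl⟩ := h
      rcases eq_or_ne l i with rfl | hli
      · simp at hl; omega
      · simp [Pi.single_eq_of_ne hli] at hl; have := ha l; omega
    have hiI : i ∈ I := by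
      by_contra hiI
      have := hnn' i
      simp [ha', hiI] at this
      omega
    have hIc : I.card = j := (mem_powersetCard.1 hI).2
    set v := a i + m - k with hv
    have hv0 : 0 ≤ v := by
      have := hnn' i
      simp [ha', hiI] at this
      omega
    have hsum : ∑ l, a l ≤ base N + (d + k) := by
      have h1 : (0 : ℤ) ≤ ∑ l, if l ∈ I then m else 0 := sum_nonneg fun l _ => by split <;> omega
      simp [ha', sum_sub_distrib, sum_add_distrib] at hs'
      simp at h1
      omega
    have hchain : ∀ t : ℕ, t < j → ∃ T : Finset (Fin N), T ⊆ I.erase i ∧ T.card = t + 1 ∧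
        ∃ l ∈ T, a l = v + t * m ∧ ∀ l' ∈ T, a l' ≤ v + t * m := by
      intro t
      induction t with
      | zero =>
        intro hj
        obtain ⟨l, hl⟩ := exists_eq hinj ha hsum (by omega) hv0 (by
          have : (0 : ℤ) ≤ j * m := by positivity
          nlinarith)
        have hli : l ≠ i := fun e => hkm 1 le_rfl (by omega) (by rw [e] at hl; push_cast; omega)
        have hlI : l ∈ I := by
          by_contra hlI
          exact hli (hinj' (by simp [ha', hlI, hiI, Pi.single_eq_of_ne hli, hl, hv]))
        exact ⟨{l}, by simp [hli, hlI], rfl, l, mem_singleton_self l, by simp [hl], by simp [hl]⟩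
      | succ t ih =>
        intro ht
        obtain ⟨T, hT, hTc, l, hlT, hl, hle⟩ := ih (by omega)
        obtain ⟨l', hl'⟩ := exists_eq hinj ha hsum (by omega) (show 0 ≤ v + ((t + 1 : ℕ) : ℤ) * m by positivity) (by
          have : ((t + 1 : ℕ) : ℤ) + 1 ≤ j := by omega
          push_cast at this ⊢
          nlinarith)
        have hli : l' ≠ i := fun e => hkm (t + 2) (by omega) (by omega) (by
          rw [e] at hl'; push_cast at hl' ⊢; linarith)
        have hll : l' ≠ l := fun e => by rw [e, hl] at hl'; push_cast at hl'; linarith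
        have hlI : l' ∈ I := by
          by_contra hlI
          have h1 := mem_erase.1 (hT hlT)
          refine hll (hinj' ?_)
          simp [ha', hlI, h1.2, Pi.single_eq_of_ne hli, Pi.single_eq_of_ne h1.1, hl, hl']
          ring
        have hlT' : l' ∉ T := fun hc => by
          have := hle l' hc
          rw [hl'] at this
          push_cast at this
          linarith
        refine ⟨insert l' T, insert_subset (mem_erase.2 ⟨hli, hlI⟩) hT, by
          rw [card_insert_of_notMem hlT', hTc], l', mem_insert_self _ _, hl', fun x hx => ?_⟩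
        rcases mem_insert.1 hx with rfl | hx
        · exact hl'.le
        · have := hle x hx
          push_cast
          linarith
    have hj : 0 < j := hIc ▸ card_pos.2 ⟨i, hiI⟩
    obtain ⟨T, hT, hTc, -⟩ := hchain (j - 1) (by omega)
    have h1 := card_le_card hT
    rw [card_erase_of_mem hiI] at h1
    omega

/-- Lowering one entry by `k` against raising by `k`. -/
theorem down_up_self {d k : ℤ} {F : (Fin N → ℤ) → ℂ} (hF : Supp d F) (hA : Anti F)
    (hk : 0 < k) (hd : 0 ≤ d) (hN : d + k ≤ N) (a : Fin N → ℤ) :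
    down k 1 (up k F) a = up k (down k 1 F) a + k * F a := by
  classical
  have hd1 : ∀ (G : (Fin N → ℤ) → ℂ) (b : Fin N → ℤ), down k 1 G b =
      if ∀ i, 0 ≤ b i then ∑ i, G (b + Pi.single i k) else 0 := by
    intro G b
    simp only [down]
    refine ite_congr rfl (fun _ => ?_) fun _ => rfl
    rw [powersetCard_one, sum_map]
    exact sum_congr rfl fun i _ => congrArg G (by funext l; simp [Pi.single_apply])
  by_cases ha : ∀ i, 0 ≤ a i
  swap
  · have h0 : F a = 0 := by_contra fun h => ha (hF a h).2.1
    rw [hd1, if_neg ha, h0, mul_zero, add_zero]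
    refine (sum_eq_zero fun i _ => ?_).symm
    rw [hd1, if_neg]
    push Not at ha ⊢
    obtain ⟨l, hl⟩ := ha
    exact ⟨l, by rcases eq_or_ne l i with rfl | h <;> simp [*] <;> omega⟩
  rw [hd1, if_pos ha]
  unfold up
  simp only [hd1]
  rw [sum_comm]
  have key : ∀ i : Fin N, ∑ l, F (a + Pi.single l k - Pi.single i k) =
      (if ∀ l, 0 ≤ (a - Pi.single i k : Fin N → ℤ) l then ∑ l, F (a - Pi.single i k + Pi.single l k) else 0) +
        if a i < k then F a else 0 := by
    intro i
    by_cases hi : a i < k
    · rw [if_neg (fun h => by have := h i; simp at this; omega), if_pos hi, zero_add,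
        sum_eq_single i (fun l _ hl => ?_) (by simp)]
      · simp
      by_contra h
      have := (hF _ h).2.1 i
      simp [Pi.single_eq_of_ne hl.symm] at this
      omega
    · rw [if_neg hi, add_zero, if_pos]
      · exact sum_congr rfl fun l _ => congrArg F (by funext x; simp; ring)
      intro l
      rcases eq_or_ne l i with rfl | h <;> simp [*]
      omega
  rw [sum_congr rfl fun i _ => key i, sum_add_distrib, ← sum_filter, ← sum_filter, sum_const, nsmul_eq_mul]
  congr 1
  by_cases h0 : F a = 0
  · simp [h0]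
  congr 1
  obtain ⟨hinj, -, hs⟩ := hF a h0
  have : (univ.filter fun i => a i < k).image a = Finset.Ico 0 k := by
    ext v
    simp only [mem_image, mem_filter, mem_univ, true_and, mem_Ico]
    exact ⟨fun ⟨i, h, e⟩ => e ▸ ⟨ha i, h⟩, fun ⟨h1, h2⟩ =>
      let ⟨i, e⟩ := exists_eq hinj ha hs.le hd h1 (by omega); ⟨i, e.symm ▸ h2, e⟩⟩
  have h1 := congrArg card this
  rw [card_image_of_injective _ hinj, Int.card_Ico, sub_zero] at h1
  rw [h1]
  exact_mod_cast congrArg (Int.cast : ℤ → ℂ) (Int.toNat_of_nonneg hk.le)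

/-- The pairing of functions of tuples. -/
noncomputable def pair (F G : (Fin N → ℤ) → ℂ) : ℂ := ∑ᶠ a, F a * G a

theorem Supp.finite {d : ℤ} {F : (Fin N → ℤ) → ℂ} (hF : Supp d F) : F.support.Finite := by
  refine (Set.Finite.pi' fun _ : Fin N => Set.finite_Icc (0 : ℤ) (base N + d)).subset fun a ha i => ?_
  obtain ⟨-, hnn, hs⟩ := hF a ha
  exact ⟨hnn i, hs ▸ single_le_sum (fun l _ => hnn l) (mem_univ i)⟩

theorem pair_comm (F G : (Fin N → ℤ) → ℂ) : pair F G = pair G F :=
  finsum_congr fun a => mul_comm _ _

/-- Adjointness of raising and lowering. -/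
theorem pair_up {F G : (Fin N → ℤ) → ℂ} {d k : ℤ} (hk : 0 ≤ k) (hF : Supp d F) :
    pair (up k F) G = pair F (down k 1 G) := by
  classical
  unfold pair up
  have hrhs : ∀ a, F a * down k 1 G a = ∑ i, F a * G (a + Pi.single i k) := by
    intro a
    by_cases h : F a = 0
    · simp [h]
    rw [down, if_pos (hF a h).2.1, mul_sum, powersetCard_one, sum_map]
    exact sum_congr rfl fun i _ => congrArg (F a * G ·) (by funext l; simp [Pi.single_apply])
  simp only [hrhs, sum_mul]
  have hfin : ∀ i : Fin N, (Function.support fun a => F a * G (a + Pi.single i k)).Finite := fun i =>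
    hF.finite.subset fun a ha => left_ne_zero_of_mul ha
  have hfin' : ∀ i : Fin N, (Function.support fun a => F (a - Pi.single i k) * G a).Finite := fun i =>
    (hF.finite.image fun b => b + Pi.single i k).subset fun a ha => by
      simp only [Function.mem_support] at ha
      exact ⟨a - Pi.single i k, left_ne_zero_of_mul ha, by simp⟩
  rw [finsum_sum_comm univ _ (fun i _ => hfin' i), finsum_sum_comm univ _ (fun i _ => hfin i)]
  refine sum_congr rfl fun i _ => ?_
  rw [← finsum_comp_equiv (Equiv.addRight (Pi.single i k : Fin N → ℤ))]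
  exact finsum_congr fun a => by simp

end CfsgLib.SymBeta
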