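import Cfsg.Agent.Lib.Blocks.CoveringIdem
import Cfsg.Agent.Lib.Blocks.BrauerMap
import Cfsg.Agent.Lib.Char.Virtual
import Cfsg.Agent.Lib.Char.DegreeCenter

/-!
# Blocks of a group with a normal abelian `p`-subgroup with factorized centralizer
-/

set_option autoImplicit false

namespace CfsgLib.SymBeta

open Cfsg CfsgLib.Blocks CfsgLib.Char MonoidAlgebra
open scoped ComplexConjugate

variable {C : Type*} [Group C] [Fintype C] {p : ℕ}

/-- Values against a character that is not a constituent. -/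
theorem sum_apply_mul_eq_zero {K : Subgroup C} [Fintype K] (η : IrrCharacter C) (ξ : IrrCharacter K)
    (h : classInner (fun u : K => (η : C → ℂ) u) (ξ : K → ℂ) = 0) (g : C) :
    ∑ u : K, (η : C → ℂ) (g * (u : C)⁻¹) * (ξ : K → ℂ) u = 0 := by
  obtain ⟨m, ρ, -, hρ⟩ := id η.2
  obtain ⟨n, σ, -, hσ⟩ := id ξ.2
  have h1 := congrArg (LinearMap.trace ℂ (Fin n → ℂ))
    (sum_char_smul_eq_zero ρ σ (by rw [hρ, hσ]; exact h) g)
  rw [map_sum, map_zero] at h1
  refine Eq.trans (Finset.sum_congr rfl fun u _ => ?_) h1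
  rw [map_smul, smul_eq_mul, hρ, show LinearMap.trace ℂ (Fin n → ℂ) (σ u) = σ.character u from rfl, hσ]

/-- A constituent on `K` lies under a constituent on a larger subgroup. -/
theorem exists_constituent_over {N K : Subgroup C} [Fintype N] [Fintype K] (hKN : K ≤ N)
    (η : IrrCharacter C) (ξ : IrrCharacter K)
    (h : classInner (fun u : K => (η : C → ℂ) u) (ξ : K → ℂ) ≠ 0) :
    ∃ θ : IrrCharacter N, classInner (fun u : N => (η : C → ℂ) u) (θ : N → ℂ) ≠ 0 ∧
      classInner (fun u : K => (θ : N → ℂ) ⟨u, hKN u.2⟩) (ξ : K → ℂ) ≠ 0 := by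
  classical
  haveI := Fintype.ofFinite (IrrCharacter N)
  by_contra hcon
  push Not at hcon
  refine h ?_
  have hc : IsClassFunction N fun u : N => (η : C → ℂ) u := fun u v =>
    IsIrr.isClassFunction η.2 (u : C) (v : C)
  have hex : (fun u : K => (η : C → ℂ) u) =
      fun u : K => ∑ θ : IrrCharacter N, classInner (fun u : N => (η : C → ℂ) u) (θ : N → ℂ) *
        (θ : N → ℂ) ⟨u, hKN u.2⟩ :=
    funext fun u => classFunction_apply_eq_sum hc ⟨u, hKN u.2⟩
  rw [hex]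
  unfold classInner
  simp only [Finset.sum_mul]
  rw [Finset.sum_comm, Finset.mul_sum]
  refine Finset.sum_eq_zero fun θ _ => ?_
  simp only [mul_assoc, ← Finset.mul_sum]
  by_cases hz : classInner (fun u : N => (η : C → ℂ) u) (θ : N → ℂ) = 0
  · unfold classInner at hz
    rcases mul_eq_zero.1 hz with h0 | h0
    · exact absurd h0 (inv_ne_zero (Nat.cast_ne_zero.2 Nat.card_pos.ne'))
    · rw [h0]; simp
  · have := hcon θ hz
    unfold classInner at this
    rcases mul_eq_zero.1 this with h0 | h0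
    · exact absurd h0 (inv_ne_zero (Nat.cast_ne_zero.2 Nat.card_pos.ne'))
    · rw [h0]; simp

variable [Fact p.Prime] {M : Ideal AlgInt} [M.IsPrime]

/-- Central characters only see the centralizer of a normal `p`-subgroup. -/
theorem sameBlock_of_constituents (hM : IsPModular p M) {E : Subgroup C} [E.Normal] (hE : IsPGroup p E)
    [Fintype (Subgroup.centralizer (E : Set C))] {η η' : IrrCharacter C}
    {θ θ' : IrrCharacter (Subgroup.centralizer (E : Set C))}
    (h : classInner (fun u : Subgroup.centralizer (E : Set C) => (η : C → ℂ) u) (θ : _ → ℂ) ≠ 0)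
    (h' : classInner (fun u : Subgroup.centralizer (E : Set C) => (η' : C → ℂ) u) (θ' : _ → ℂ) ≠ 0)
    (hs : SameBlock M (θ : Subgroup.centralizer (E : Set C) → ℂ) (θ' : _ → ℂ)) :
    SameBlock M (η : C → ℂ) (η' : C → ℂ) := by
  classical
  have := charP_residueField hM
  have key : ∀ (ζ : IrrCharacter C) (φ : IrrCharacter (Subgroup.centralizer (E : Set C))),
      classInner (fun u : (Subgroup.centralizer (E : Set C)) => (ζ : C → ℂ) u) (φ : (Subgroup.centralizer (E : Set C)) → ℂ) ≠ 0 →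
      ∀ a : MonoidAlgebra (Res M) C, IsCentralElt a → omegaBar ζ a = omegaBar φ (resElt (Subgroup.centralizer (E : Set C)) a) := by
    intro ζ φ hne a ha
    have hins := isCentralElt_insideElt (Subgroup.centralizer (E : Set C)) ha
    have h1 := omegaBar_eq_omegaBar_resElt (Subgroup.centralizer (E : Set C)) hne hins fun g hg => coeff_insideElt_of_notMem (Subgroup.centralizer (E : Set C)) a hg
    rw [resElt_insideElt] at h1
    rw [← h1]
    obtain ⟨k, hk⟩ := isNilpotent_of_vanish_centralizer (F := Res M) hE (ha.sub hins) fun c hc => by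
      rw [coeff_sub, Finsupp.sub_apply, sub_eq_zero]
      simp [insideElt, hc]
    have h2 := congrArg (omegaBar ζ) hk
    rw [omegaBar_pow ζ (ha.sub hins), omegaBar_zero] at h2
    exact sub_eq_zero.1 ((omegaBar_sub ζ a _).symm.trans
      (pow_eq_zero_iff (fun hk0 => by simp [hk0] at h2) |>.1 h2))
  exact sameBlock_of_omegaBar_eq fun a ha => by
    rw [key η θ h a ha, key η' θ' h' a ha, omegaBar_congr hs]

/-- Characters over one character of the complement lie in one block. -/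
theorem sameBlock_of_factor (hM : IsPModular p M) {E : Subgroup C} [E.Normal] (hE : IsPGroup p E)
    (hcomm : ∀ a ∈ E, ∀ b ∈ E, a * b = b * a) {K : Subgroup C} [Fintype K]
    (hKN : K ≤ Subgroup.centralizer (E : Set C))
    (hfac : ∀ n ∈ Subgroup.centralizer (E : Set C), ∃ e ∈ E, ∃ k ∈ K, n = e * k)
    (hdis : E ⊓ K = ⊥) (ξ : IrrCharacter K) {η η' : IrrCharacter C}
    (h : classInner (fun u : K => (η : C → ℂ) u) (ξ : K → ℂ) ≠ 0)
    (h' : classInner (fun u : K => (η' : C → ℂ) u) (ξ : K → ℂ) ≠ 0) :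
    SameBlock M (η : C → ℂ) (η' : C → ℂ) := by
  classical
  set N := Subgroup.centralizer (E : Set C) with hN
  haveI : Fintype N := Fintype.ofFinite _
  haveI : Fintype E := Fintype.ofFinite _
  have hEN : E ≤ N := fun e he => Subgroup.mem_centralizer_iff.2 fun f hf => hcomm f hf e he
  have hcen : ∀ (e : N), (e : C) ∈ E → e ∈ Subgroup.center N := fun e he =>
    Subgroup.mem_center_iff.2 fun n => Subtype.ext (Subgroup.mem_centralizer_iff.1 n.2 e he).symm
  -- the scalar by which a member of `E` acts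
  have hscal : ∀ φ : IrrCharacter N, ∀ e : E, ∃ l : ℂ, ∀ n : N,
      (φ : N → ℂ) (⟨e, hEN e.2⟩ * n) = l * (φ : N → ℂ) n := by
    intro φ e
    obtain ⟨m, ρ, hρi, hρ⟩ := id φ.2
    haveI := hρi
    obtain ⟨l, hl⟩ := CharIntegral.exists_scalar_of_mem_center ρ (hcen ⟨e, hEN e.2⟩ e.2)
    exact ⟨l, fun n => by rw [← hρ]; exact CharIntegral.character_smul_of_scalar ρ hl n⟩
  choose l hl using hscal
  have hl1 : ∀ φ, l φ 1 = 1 := fun φ => by
    have h1 := hl φ 1 1
    rw [show (⟨((1 : E) : C), hEN (1 : E).2⟩ : N) = 1 from rfl, one_mul] at h1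
    exact mul_right_cancel₀ (IsIrr.apply_one_ne_zero φ.2) ((one_mul _).trans h1).symm
  have hlmul : ∀ φ (e f : E), l φ (e * f) = l φ e * l φ f := fun φ e f => by
    refine mul_right_cancel₀ (IsIrr.apply_one_ne_zero φ.2) ?_
    rw [mul_assoc, ← hl φ (e * f) 1, ← hl φ f 1, ← hl φ e, ← mul_assoc]
    rfl
  have hlpow : ∀ φ (e : E) (m : ℕ), l φ (e ^ m) = l φ e ^ m := fun φ e m => by
    induction m with
    | zero => simp [hl1]
    | succ m ih => rw [pow_succ, hlmul, ih, pow_succ]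
  have hlconj : ∀ φ (e : E), l φ e * conj (l φ e) = 1 := fun φ e => by
    have h1 : conj (l φ e) = l φ e⁻¹ := by
      refine mul_right_cancel₀ (IsIrr.apply_one_ne_zero φ.2) ?_
      rw [← hl φ e⁻¹ 1, mul_one, show (⟨((e⁻¹ : E) : C), hEN (e⁻¹ : E).2⟩ : N) = (⟨e, hEN e.2⟩ : N)⁻¹ from rfl,
        IsIrr.map_inv φ.2, ← mul_one (⟨(e : C), hEN e.2⟩ : N), hl φ e, map_mul]
      congr 1
      have := IsIrr.map_inv φ.2 (1 : N)
      rwa [inv_one] at this
    rw [h1, ← hlmul, mul_inv_cancel, hl1]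
  let Φ : E × K → N := fun q => ⟨q.1, hEN q.1.2⟩ * ⟨q.2, hKN q.2.2⟩
  have hΦ : Function.Bijective Φ := by
    refine ⟨fun q q' hq => ?_, fun n => ?_⟩
    · have hq' : (q.1 : C) * q.2 = q'.1 * q'.2 := congrArg Subtype.val hq
      have h1 : (q'.1 : C)⁻¹ * q.1 = q'.2 * (q.2 : C)⁻¹ := by
        rw [eq_mul_inv_iff_mul_eq, mul_assoc, hq', inv_mul_cancel_left]
      have h2 : (q'.1 : C)⁻¹ * q.1 ∈ E ⊓ K :=
        ⟨E.mul_mem (E.inv_mem q'.1.2) q.1.2, h1 ▸ K.mul_mem q'.2.2 (K.inv_mem q.2.2)⟩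
      rw [hdis, Subgroup.mem_bot, inv_mul_eq_one] at h2
      refine Prod.ext (Subtype.ext h2.symm) (Subtype.ext ?_)
      rw [h2] at hq'
      exact mul_left_cancel hq'
    · obtain ⟨e, he, k, hk, hek⟩ := hfac n n.2
      exact ⟨(⟨e, he⟩, ⟨k, hk⟩), Subtype.ext hek.symm⟩
  obtain ⟨θ, hθ, hθξ⟩ := exists_constituent_over hKN η ξ h
  obtain ⟨θ', hθ', hθξ'⟩ := exists_constituent_over hKN η' ξ h'
  -- both restrict to `ξ`
  have hres : ∀ φ : IrrCharacter N, classInner (fun u : K => (φ : N → ℂ) ⟨u, hKN u.2⟩) (ξ : K → ℂ) ≠ 0 →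
      ∀ u : K, (φ : N → ℂ) ⟨u, hKN u.2⟩ = (ξ : K → ℂ) u := by
    intro φ hne u
    have hgen : IsGeneralizedCharacter K fun u : K => (φ : N → ℂ) ⟨u, hKN u.2⟩ :=
      IsGen.comp (Subgroup.inclusion hKN) (IsGen.of_irr φ.2)
    have hnorm : classInner (fun u : K => (φ : N → ℂ) ⟨u, hKN u.2⟩) (fun u : K => (φ : N → ℂ) ⟨u, hKN u.2⟩) = 1 := by
      have h1 := classInner_irr_self φ
      unfold classInner at h1 ⊢
      have hterm : ∀ q : E × K, (φ : N → ℂ) (Φ q) * conj ((φ : N → ℂ) (Φ q)) =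
          (φ : N → ℂ) ⟨q.2, hKN q.2.2⟩ * conj ((φ : N → ℂ) ⟨q.2, hKN q.2.2⟩) := fun q => by
        rw [show Φ q = ⟨q.1, hEN q.1.2⟩ * ⟨q.2, hKN q.2.2⟩ from rfl, hl φ q.1, map_mul]
        linear_combination ((φ : N → ℂ) ⟨q.2, hKN q.2.2⟩ * conj ((φ : N → ℂ) ⟨q.2, hKN q.2.2⟩)) * hlconj φ q.1
      have hsum : ∀ f : K → ℂ, ∑ q : E × K, f q.2 = (Nat.card E : ℂ) * ∑ u, f u := fun f => by
        rw [Fintype.sum_prod_type, Nat.card_eq_fintype_card]
        simp
      rw [← hΦ.sum_comp (fun n : N => (φ : N → ℂ) n * conj ((φ : N → ℂ) n)), Fintype.sum_congr _ _ hterm,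
        hsum fun u => (φ : N → ℂ) ⟨u, hKN u.2⟩ * conj ((φ : N → ℂ) ⟨u, hKN u.2⟩),
        ← Nat.card_congr (Equiv.ofBijective Φ hΦ), Nat.card_prod] at h1
      push_cast at h1
      rw [mul_inv] at h1
      have hcE : (Nat.card E : ℂ)⁻¹ * (Nat.card E : ℂ) = 1 :=
        inv_mul_cancel₀ (Nat.cast_ne_zero.2 Nat.card_pos.ne')
      linear_combination h1 - ((Nat.card K : ℂ)⁻¹ *
        ∑ g : K, (φ : N → ℂ) ⟨g, hKN g.2⟩ * conj ((φ : N → ℂ) ⟨g, hKN g.2⟩)) * hcE
    have hirr : IsIrrCharacter K fun u : K => (φ : N → ℂ) ⟨u, hKN u.2⟩ := by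
      refine IsGen.isIrr_of_norm_one hgen hnorm ?_
      obtain ⟨m, hm0, hm⟩ := IsIrr.exists_degree φ.2
      show 0 < ((φ : N → ℂ) 1).re
      rw [hm, Complex.natCast_re]
      exact_mod_cast hm0
    by_contra hu
    exact hne (classInner_irr_of_ne (χ := (⟨_, hirr⟩ : IrrCharacter K)) (ψ := ξ)
      fun e => hu (congrFun (congrArg Subtype.val e) u))
  refine sameBlock_of_constituents hM hE hθ hθ' fun g => ?_
  obtain ⟨⟨e, k⟩, rfl⟩ := hΦ.2 g
  have hcc : Subgroup.centralizer ({Φ (e, k)} : Set N) = Subgroup.centralizer ({(⟨k, hKN k.2⟩ : N)} : Set N) := by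
    ext n
    have hn := Subgroup.mem_center_iff.1 (hcen ⟨e, hEN e.2⟩ e.2) n
    rw [Subgroup.mem_centralizer_singleton_iff, Subgroup.mem_centralizer_singleton_iff,
      show Φ (e, k) = ⟨e, hEN e.2⟩ * ⟨k, hKN k.2⟩ from rfl, ← mul_assoc, hn, mul_assoc, mul_assoc]
    exact mul_right_inj _
  have hcentral : ∀ φ : IrrCharacter N, centralChar (φ : N → ℂ) (Φ (e, k)) =
      l φ e * centralChar (φ : N → ℂ) ⟨k, hKN k.2⟩ := fun φ => by
    rw [centralChar, centralChar, hcc, show Φ (e, k) = ⟨e, hEN e.2⟩ * ⟨k, hKN k.2⟩ from rfl, hl φ e]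
    ring
  have heq : centralChar (θ' : N → ℂ) ⟨k, hKN k.2⟩ = centralChar (θ : N → ℂ) ⟨k, hKN k.2⟩ := by
    have h1 : ∀ φ : IrrCharacter N, (φ : N → ℂ) 1 = (φ : N → ℂ) ⟨((1 : K) : C), hKN (1 : K).2⟩ :=
      fun φ => rfl
    rw [centralChar, centralChar, hres θ hθξ, hres θ' hθξ', h1 θ, h1 θ', hres θ hθξ, hres θ' hθξ']
  obtain ⟨j, hj⟩ := hE e
  have hroot : ∀ φ, l φ e ^ p ^ j = 1 := fun φ => by rw [← hlpow, hj, hl1]
  have hmem : ∀ φ, l φ e ∈ localRing M := fun φ =>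
    mem_localRing_of_pow_eq_one (pow_ne_zero j hM.1.ne_zero) (hroot φ)
  have hred : ∀ φ, IsLocalRing.residue (localRing M) ⟨l φ e, hmem φ⟩ = 1 := fun φ =>
    residue_eq_one_of_pow_prime_pow hM (Subtype.ext (by simpa using hroot φ))
  let z : localRing M := ⟨centralChar (θ : N → ℂ) ⟨k, hKN k.2⟩, mem_localRing_of_isIntegral (isIntegral_centralChar θ _)⟩
  rw [hcentral θ, hcentral θ', heq]
  refine (residue_eq_iff (z := (⟨l θ e, hmem θ⟩ : localRing M) * z) (w := (⟨l θ' e, hmem θ'⟩ : localRing M) * z)).1 ?_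
  rw [map_mul, map_mul, hred, hred]

end CfsgLib.SymBeta
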