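import Cfsg.Agent.Lib.Char.SymBeta.Runner
import Cfsg.Agent.Lib.Char.Perm
import Cfsg.Agent.Lib.Char.Virtual
import Mathlib.GroupTheory.CommutingProbability

/-!
# The irreducible characters of the symmetric groups
-/

set_option autoImplicit false

namespace CfsgLib.SymBeta

open Finset Equiv CfsgLib.Char

variable {N n : ℕ}

/-- The class function attached to an exponent tuple. -/
def chi (N n : ℕ) (a : Fin N → ℤ) : Perm (Fin n) → ℂ := fun σ => val N σ a

theorem val_one_eq {α : Type} [Fintype α] [DecidableEq α] :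
    val N (1 : Perm α) = (up (1 : ℤ))^[Fintype.card α] (delta N) := by
  suffices H : ∀ k, ∀ (β : Type) [Fintype β] [DecidableEq β], Fintype.card β = k →
      val N (1 : Perm β) = (up (1 : ℤ))^[k] (delta N) from H _ α rfl
  intro k
  induction k with
  | zero =>
    intro β _ _ hk
    haveI := Fintype.card_eq_zero_iff.1 hk
    exact val_of_isEmpty _
  | succ k ih =>
    intro β _ _ hk
    obtain ⟨x⟩ := Fintype.card_pos_iff.1 (by omega : 0 < Fintype.card β)
    have hc : cyc (1 : Perm β) x = 1 := by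
      unfold cyc
      simp [Perm.sameCycle_one, Finset.filter_eq]
    have hoff : off (1 : Perm β) x = 1 := Equiv.ext fun y => Subtype.ext rfl
    have h2 := card_off (1 : Perm β) x
    rw [hc] at h2
    rw [val_split _ x, hc, hoff, ih _ (by omega), Function.iterate_succ_apply']
    norm_num

theorem delta_eq_intCast (a : Fin N → ℤ) : ∃ z : ℤ, delta N a = z :=
  ⟨∑ π : Perm (Fin N), if (fun i => ((π i : Fin N) : ℤ)) = a then (Perm.sign π : ℤ) else 0, by
    simp [delta]⟩

theorem val_eq_intCast {α : Type*} [Fintype α] [DecidableEq α] (σ : Perm α) (a : Fin N → ℤ) :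
    ∃ z : ℤ, val N σ a = z := by
  choose z hz using fun b : Fin N → ℤ => delta_eq_intCast b
  exact ⟨∑ f ∈ (univ : Finset (α → Fin N)).filter (fun f => ∀ x, f (σ x) = f x), z (a - cnt f),
    by simp [val, hz]⟩

theorem star_chi (a : Fin N → ℤ) (σ : Perm (Fin n)) :
    (starRingEnd ℂ) (chi N n a σ) = chi N n a σ := by
  obtain ⟨z, hz⟩ := val_eq_intCast σ a
  rw [chi, hz]
  exact map_intCast _ z

/-- Colourings with a given load. -/
def Col (N n : ℕ) (ℓ : Fin N → ℤ) : Type := {f : Fin n → Fin N // cnt f = ℓ}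

instance (ℓ : Fin N → ℤ) : Finite (Col N n ℓ) := Subtype.finite

theorem cnt_comp (f : Fin n → Fin N) (σ : Perm (Fin n)) : cnt (f ∘ σ) = cnt f := by
  funext i
  unfold cnt
  exact_mod_cast card_bij' (fun x _ => σ x) (fun x _ => σ.symm x) (fun x hx => by simpa using hx)
    (fun x hx => by simpa using hx) (fun x _ => by simp) fun x _ => by simp

instance (ℓ : Fin N → ℤ) : MulAction (Perm (Fin n)) (Col N n ℓ) where
  smul σ f := ⟨f.1 ∘ ⇑σ⁻¹, (cnt_comp _ _).trans f.2⟩
  one_smul f := Subtype.ext (by rfl)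
  mul_smul σ τ f := Subtype.ext (by rfl)

theorem isGen_chi (a : Fin N → ℤ) : Cfsg.IsGeneralizedCharacter (Perm (Fin n)) (chi N n a) := by
  classical
  set L := (univ : Finset (Fin n → Fin N)).image cnt
  choose z hz using fun ℓ : Fin N → ℤ => delta_eq_intCast (a - ℓ)
  have : chi N n a = ∑ ℓ ∈ L, (z ℓ : ℂ) • permChar (Perm (Fin n)) (Col N n ℓ) := by
    funext σ
    rw [Finset.sum_apply, chi, val, ← sum_fiberwise_of_maps_to (g := cnt) (t := L)
      (fun f _ => mem_image_of_mem _ (mem_univ f))]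
    refine sum_congr rfl fun ℓ _ => ?_
    rw [sum_congr rfl (g := fun _ => (z ℓ : ℂ)) fun f hf => by rw [(mem_filter.1 hf).2, hz],
      sum_const, nsmul_eq_mul, Pi.smul_apply, smul_eq_mul, mul_comm, permChar]
    congr 2
    rw [← Nat.card_eq_finsetCard]
    refine Nat.card_congr
      { toFun := fun f => ⟨⟨f.1, (mem_filter.1 f.2).2⟩, Subtype.ext (funext fun x => by
          have h := ((@mem_filter _ _ (_) _ _).1 (mem_filter.1 f.2).1).2 (σ⁻¹ x)
          show f.1 (σ⁻¹ x) = f.1 x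
          rw [← h]; simp)⟩
        invFun := fun f => ⟨f.1.1, mem_filter.2 ⟨(@mem_filter _ _ (_) _ _).2 ⟨mem_univ _, fun x => ?_⟩, f.1.2⟩⟩
        left_inv := fun f => rfl
        right_inv := fun f => rfl }
    have h := congrFun (congrArg Subtype.val f.2) (σ x)
    show f.1.1 (σ x) = f.1.1 x
    have h' : f.1.1 (σ⁻¹ (σ x)) = f.1.1 (σ x) := h
    rw [← h']; simp
  rw [this]
  exact IsGen.sum _ _ fun ℓ _ => IsGen.intCast_smul _ (IsGen.of_isCharacter isCharacter_permChar)

theorem exists_chi_one (hN : n ≤ N) {a : Fin N → ℤ} (ha : a ∈ Idx N n) :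
    ∃ M : ℕ, 0 < M ∧ chi N n a 1 = M := by
  obtain ⟨hm, hnn, hs⟩ := mem_Idx.1 ha
  have hmaj : RMajor 1 a := fun i j h => Or.inr ⟨by simp, hm h⟩
  obtain ⟨c, w, hc1, hc2, hc3, -, hc5, hc6⟩ := exists_packed one_pos hmaj hnn
  have hid : Packed 1 (fun i : Fin N => (i : ℤ)) := fun i hi => by
    simp only [Nat.cast_one] at hi
    exact ⟨⟨i.1 - 1, by omega⟩, by simp; omega⟩
  have hid' : StrictMono fun i : Fin N => (i : ℤ) := fun i j h => by simpa using h
  have hc' : StrictMono c := fun i j h => (hc1 i j h).elim (fun h' => absurd h' (by simp)) (·.2)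
  have hr := Packed.range_eq one_pos hc3 hid hc1.injective hid'.injective hc2
    (fun i => Int.natCast_nonneg _) (by funext r; simp [cts])
  obtain rfl := (hc'.range_inj hid').1 hr
  have hw : w = n := by
    have : ∑ i : Fin N, (i : ℤ) = base N := rfl
    rw [this, hs] at hc5
    simpa using hc5.symm
  subst hw
  obtain ⟨M, hM, hMeq⟩ := hc6 supp_delta anti_delta
  refine ⟨M, hM, ?_⟩
  rw [chi, val_one_eq, Fintype.card_fin]
  rw [delta_id, mul_one] at hMeq
  simpa using hMeq

theorem classInner_chi (a b : Fin N → ℤ) :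
    Cfsg.classInner (chi N n a) (chi N n b) =
      (Nat.card (Perm (Fin n)) : ℂ)⁻¹ * ∑ σ, chi N n a σ * chi N n b σ := by
  unfold Cfsg.classInner
  congr 1
  exact sum_congr rfl fun σ _ => by rw [star_chi]

theorem nint_eq_card (σ τ : Perm (Fin n)) : nint σ τ = Nat.card {ρ : Perm (Fin n) // ρ * σ * ρ⁻¹ = τ} :=
  Nat.card_congr (Equiv.subtypeEquivRight fun ρ => by
    rw [mul_inv_eq_iff_eq_mul, Equiv.ext_iff]
    rfl)

theorem sum_sum_chi (hN : 3 * n ≤ N) :
    ∑ a ∈ Idx N n, Cfsg.classInner (chi N n a) (chi N n a) = (Nat.card (ConjClasses (Perm (Fin n))) : ℂ) := by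
  classical
  simp only [classInner_chi, ← mul_sum]
  rw [sum_comm]
  simp only [chi, sum_val_mul_val _ _ hN, nint_eq_card]
  have h := card_comm_eq_card_conjClasses_mul_card (Perm (Fin n))
  have hc : ∑ σ : Perm (Fin n), Nat.card {ρ : Perm (Fin n) // ρ * σ * ρ⁻¹ = σ} =
      Nat.card {q : Perm (Fin n) × Perm (Fin n) // Commute q.1 q.2} := by
    rw [← Nat.card_sigma]
    refine Nat.card_congr
      { toFun := fun s => ⟨(s.2.1, s.1), mul_inv_eq_iff_eq_mul.1 s.2.2⟩
        invFun := fun q => ⟨q.1.2, ⟨q.1.1, mul_inv_eq_iff_eq_mul.2 q.2⟩⟩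
        left_inv := fun s => rfl
        right_inv := fun q => rfl }
  rw [← Nat.cast_sum, hc, h, Nat.cast_mul, mul_comm (Nat.card (ConjClasses _) : ℂ), inv_mul_cancel_left₀]
  exact Nat.cast_ne_zero.2 Nat.card_pos.ne'

theorem classFunction_eq_sum_chi (hN : 3 * n ≤ N) {θ : Perm (Fin n) → ℂ}
    (hθ : Cfsg.IsClassFunction (Perm (Fin n)) θ) :
    θ = ∑ a ∈ Idx N n, Cfsg.classInner θ (chi N n a) • chi N n a := by
  classical
  funext σ
  simp only [Finset.sum_apply, Pi.smul_apply, smul_eq_mul, Cfsg.classInner, star_chi, mul_assoc, sum_mul,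
    ← mul_sum]
  rw [sum_comm]
  simp only [← mul_sum, chi, sum_val_mul_val _ _ hN, nint_eq_card]
  have hcnt : ∀ τ, (Nat.card {ρ : Perm (Fin n) // ρ * τ * ρ⁻¹ = σ} : ℂ) =
      ∑ ρ : Perm (Fin n), if ρ * τ * ρ⁻¹ = σ then (1 : ℂ) else 0 := fun τ => by
    rw [sum_boole, Nat.card_eq_fintype_card, Fintype.card_subtype]
  simp only [hcnt, mul_sum]
  rw [sum_comm]
  simp only [← mul_sum]
  rw [eq_inv_mul_iff_mul_eq₀ (Nat.cast_ne_zero.2 Nat.card_pos.ne'),
    Nat.card_eq_fintype_card]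
  rw [sum_congr rfl (g := fun _ => θ σ) fun ρ _ => ?_]
  · simp
  rw [sum_eq_single (ρ⁻¹ * σ * ρ) (fun τ _ hτ => by
    rw [if_neg (fun h => hτ (by rw [← h]; group)), mul_zero]) (by simp)]
  rw [if_pos (by group), mul_one]
  simpa using (hθ (ρ⁻¹ * σ * ρ) ρ).symm.trans (congrArg θ (by group))

theorem exists_irr (hN : 3 * n ≤ N) {a : Fin N → ℤ} (ha : a ∈ Idx N n) :
    Cfsg.IsIrrCharacter (Perm (Fin n)) (chi N n a) := by
  classical
  haveI := Fintype.ofFinite (Cfsg.IrrCharacter (Perm (Fin n)))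
  -- every norm is a positive integer
  have hnat : ∀ b ∈ Idx N n, ∃ k : ℕ, 0 < k ∧ Cfsg.classInner (chi N n b) (chi N n b) = k := by
    intro b hb
    obtain ⟨m, hm⟩ := IsGen.exists_sum (isGen_chi (n := n) b)
    rw [hm, IsGen.classInner_self]
    refine ⟨(∑ ψ, m ψ * m ψ).toNat, ?_, ?_⟩
    · rw [Int.lt_toNat, Nat.cast_zero]
      refine lt_of_le_of_ne (sum_nonneg fun ψ _ => mul_self_nonneg _) fun h0 => ?_
      obtain ⟨M, hM, h1⟩ := exists_chi_one (by omega) hb
      have hz : ∀ ψ, m ψ = 0 := fun ψ => mul_self_eq_zero.1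
        ((sum_eq_zero_iff_of_nonneg fun ψ _ => mul_self_nonneg (m ψ)).1 h0.symm ψ (mem_univ ψ))
      rw [hm] at h1
      simp [hz] at h1
      exact hM.ne (by exact_mod_cast h1)
    · exact_mod_cast congrArg (Int.cast : ℤ → ℂ) (Int.toNat_of_nonneg (sum_nonneg fun ψ _ => mul_self_nonneg (m ψ))).symm
  choose! k hk0 hk using hnat
  have hsum : ∑ b ∈ Idx N n, k b = Nat.card (ConjClasses (Perm (Fin n))) := by
    have h := sum_sum_chi (N := N) hN
    rw [sum_congr rfl hk] at h
    exact_mod_cast h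
  have hle : Nat.card (ConjClasses (Perm (Fin n))) ≤ (Idx N n).card := by
    rw [← card_irrCharacter, Nat.card_eq_fintype_card]
    set S := Submodule.span ℂ ((chi N n) '' (Idx N n : Set (Fin N → ℤ)))
    have hmem : ∀ ψ : Cfsg.IrrCharacter (Perm (Fin n)), (ψ : Perm (Fin n) → ℂ) ∈ S := fun ψ => by
      rw [classFunction_eq_sum_chi hN (IsIrr.isClassFunction ψ.2)]
      exact Submodule.sum_mem _ fun b hb => Submodule.smul_mem _ _ (Submodule.subset_span ⟨b, hb, rfl⟩)
    have hli : LinearIndependent ℂ fun ψ : Cfsg.IrrCharacter (Perm (Fin n)) => (⟨_, hmem ψ⟩ : S) :=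
      LinearIndependent.of_comp S.subtype (irr_linearIndependent (G := Perm (Fin n)))
    refine hli.fintype_card_le_finrank.trans ?_
    refine (finrank_span_le_card _).trans ?_
    rw [Set.toFinset_image, Finset.toFinset_coe]
    exact card_image_le
  have hone : ∀ b ∈ Idx N n, k b = 1 := by
    intro b hb
    by_contra hne
    have hlt : ∑ b ∈ Idx N n, 1 < ∑ b ∈ Idx N n, k b :=
      sum_lt_sum (fun c hc => hk0 c hc) ⟨b, hb, by have := hk0 b hb; omega⟩
    rw [← card_eq_sum_ones] at hlt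
    omega
  obtain ⟨M, hM, h1⟩ := exists_chi_one (by omega) ha
  refine IsGen.isIrr_of_norm_one (isGen_chi a) (by rw [hk a ha, hone a ha, Nat.cast_one]) ?_
  rw [h1, Complex.natCast_re]
  exact_mod_cast hM

/-- Every irreducible character is one of the tuple characters. -/
theorem exists_eq_chi (hN : 3 * n ≤ N) (ψ : Cfsg.IrrCharacter (Perm (Fin n))) :
    ∃ a ∈ Idx N n, (ψ : Perm (Fin n) → ℂ) = chi N n a := by
  classical
  haveI := Fintype.ofFinite (Cfsg.IrrCharacter (Perm (Fin n)))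
  by_contra hne
  push Not at hne
  refine IsIrr.ne_zero ψ.2 ?_
  rw [classFunction_eq_sum_chi hN (IsIrr.isClassFunction ψ.2)]
  refine sum_eq_zero fun a ha => ?_
  have := classInner_irr_of_ne (χ := ψ) (ψ := ⟨_, exists_irr hN ha⟩) fun h => hne a ha (congrArg Subtype.val h)
  rw [this, zero_smul]

end CfsgLib.SymBeta
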