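import Cfsg.Agent.Lib.Char.SymBeta.Core
import Cfsg.Agent.Lib.Char.SymBeta.Symm
import Cfsg.Agent.Lib.Blocks.Union
import Cfsg.Prelude.Def_BlockRank

/-!
# The residue classes are unions of blocks; straightening on the runner of zero
-/

set_option autoImplicit false

namespace CfsgLib.SymBeta

open Finset Equiv CfsgLib.Char Cfsg

variable {N n p : ℕ}

theorem pow_apply_eq_iff {α : Type*} [Fintype α] [DecidableEq α] (σ : Perm α) (z : α) (i : ℕ) :
    (σ ^ i) z = z ↔ cyc σ z ∣ i := by
  have hs : σ.IsCycleOn ((univ.filter fun y => σ.SameCycle z y : Finset α) : Set α) := by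
    refine ⟨⟨fun y hy => ?_, σ.injective.injOn, fun y hy => ⟨σ⁻¹ y, ?_, by simp⟩⟩, fun x hx y hy => ?_⟩
    · simpa using hy
    · simpa using hy
    · simp only [coe_filter, mem_univ, true_and, Set.mem_ofPred_eq] at hx hy
      exact hx.symm.trans hy
  exact hs.pow_apply_eq (by simp [Perm.SameCycle.refl])

theorem cyc_dvd_orderOf {α : Type*} [Fintype α] [DecidableEq α] (σ : Perm α) (z : α) :
    cyc σ z ∣ orderOf σ :=
  (pow_apply_eq_iff σ z _).1 (by rw [pow_orderOf_eq_one]; rfl)

theorem exists_dvd_cyc (hp : p.Prime) {α : Type*} [Fintype α] [DecidableEq α] {σ : Perm α}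
    (h : p ∣ orderOf σ) : ∃ z, p ∣ cyc σ z := by
  have h1 : σ ^ (∏ z, cyc σ z) = 1 :=
    Equiv.ext fun z => (pow_apply_eq_iff σ z _).2 (dvd_prod_of_mem _ (mem_univ z))
  obtain ⟨z, -, hz⟩ := (Prime.dvd_finsetProd_iff hp.prime _).1 (h.trans (orderOf_dvd_of_pow_eq_one h1))
  exact ⟨z, hz⟩

/-- The tuples with given residue counts. -/
noncomputable def Cls (N n p : ℕ) (κ : ℤ → ℕ) : Finset (Fin N → ℤ) := by
  classical
  exact (Idx N n).filter fun a => cts p a = κ

theorem mem_Cls {κ : ℤ → ℕ} {a : Fin N → ℤ} : a ∈ Cls N n p κ ↔ a ∈ Idx N n ∧ cts p a = κ := by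
  simp [Cls]

/-- Weak orthogonality of a residue class. -/
theorem sum_Cls_orth (hp : p.Prime) (hN : 3 * n ≤ N) (κ : ℤ → ℕ) {x y : Perm (Fin n)}
    (hx : ¬ p ∣ orderOf x) (hy : p ∣ orderOf y) :
    ∑ a ∈ Cls N n p κ, chi N n a x * chi N n a y = 0 := by
  classical
  obtain ⟨z, hz⟩ := exists_dvd_cyc hp hy
  set k := cyc y z with hk
  set G' := val N (off y z)
  let F : (Fin N → ℤ) → ℂ := fun a => if cts p a = κ then val N x a else 0
  have hF : Anti F := fun π a => by
    simp only [F, show cts p (a ∘ π) = cts p a from funext fun r => cts_comp p a π r, anti_val x π a]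
    split <;> simp
  have hy' : val N y = up (k : ℤ) G' := val_split y z
  have hsy : Supp (n : ℤ) (val N y) := by simpa using supp_val (N := N) y
  have h := pair_eq_sum (anti_val y) hF (d := n) hsy
  have hL : pair (val N y) F = 0 := by
    rw [hy', pair_up (Int.natCast_nonneg _) (supp_val _)]
    suffices hd : down (k : ℤ) 1 F = 0 by simp [hd, pair]
    funext a
    have h0 : down (k : ℤ) 1 (val N x) a = 0 := by
      have hcard := card_off y z
      rw [Fintype.card_fin, ← hk] at hcard
      refine congrFun (down_val_eq_zero (cyc_pos y z) one_pos x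
        (by rw [Fintype.card_fin]; omega) fun w t h1 h2 => ?_) a
      obtain rfl : t = 1 := by omega
      intro he
      rw [one_mul] at he
      exact hx ((hz.trans (dvd_of_eq he.symm)).trans (cyc_dvd_orderOf x w))
    simp only [down, powersetCard_one, sum_map] at h0 ⊢
    by_cases hnn : ∀ i, 0 ≤ a i
    swap
    · rw [if_neg hnn]; rfl
    rw [if_pos hnn] at h0 ⊢
    have hc : ∀ i : Fin N, cts p (a + fun l => if l ∈ ({i} : Finset (Fin N)) then (k : ℤ) else 0) =
        cts p a := fun i => funext fun r => congrArg card (filter_congr fun l _ => by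
      obtain ⟨q, hq⟩ := hz
      have hkp : ((cyc y z : ℕ) : ℤ) = (p : ℤ) * q := by exact_mod_cast hq
      rcases eq_or_ne l i with rfl | hl <;> simp [hkp, *, Int.add_mul_emod_self_left])
    simp only [F, Function.Embedding.coeFn_mk, Pi.zero_apply] at h0 ⊢
    simp only [hc]
    split
    · exact h0
    · exact sum_const_zero
  rw [hL, eq_comm, mul_eq_zero] at h
  refine Eq.trans ?_ (h.resolve_left (Nat.cast_ne_zero.2 N.factorial_ne_zero))
  simp only [Cls, sum_filter, F, mul_ite, mul_zero, chi]
  exact sum_congr rfl fun a _ => by split <;> simp [mul_comm]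

theorem chi_injOn (hN : 3 * n ≤ N) {a b : Fin N → ℤ} (ha : a ∈ Idx N n) (hb : b ∈ Idx N n)
    (h : chi N n a = chi N n b) : a = b := by
  classical
  by_contra hne
  have h1 := congrFun (classFunction_eq_sum_chi hN
    (IsIrr.isClassFunction (exists_irr hN ha))) 1
  set φ : IrrCharacter (Perm (Fin n)) := ⟨_, exists_irr hN ha⟩
  have hself : ∀ c ∈ Idx N n, Cfsg.classInner (chi N n a) (chi N n c) • chi N n c =
      if chi N n c = chi N n a then chi N n a else 0 := fun c hc => by
    split
    case isTrue h' => rw [h', show Cfsg.classInner (chi N n a) (chi N n a) = 1 from classInner_irr_self φ, one_smul]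
    case isFalse h' =>
      rw [show Cfsg.classInner (chi N n a) (chi N n c) = 0 from classInner_irr_of_ne (χ := φ)
        (ψ := ⟨_, exists_irr hN hc⟩) fun e => h' (congrArg Subtype.val e).symm, zero_smul]
  rw [sum_congr rfl hself, ← sum_filter, sum_const, Pi.smul_apply, nsmul_eq_mul] at h1
  obtain ⟨M, hM, hM1⟩ := exists_chi_one (n := n) (by omega) ha
  rw [hM1] at h1
  have h2 : 2 ≤ ((Idx N n).filter fun c => chi N n c = chi N n a).card :=
    one_lt_card.2 ⟨a, by simp [ha], b, by simp [hb, h], hne⟩
  have h3 : M = ((Idx N n).filter fun c => chi N n c = chi N n a).card * M := by exact_mod_cast h1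
  nlinarith

/-- The irreducible characters of a residue class. -/
def clsSet (N n p : ℕ) (κ : ℤ → ℕ) : Set (IrrCharacter (Perm (Fin n))) :=
  {ψ | ∃ a ∈ Cls N n p κ, (ψ : Perm (Fin n) → ℂ) = chi N n a}

theorem block_subset {M : Ideal AlgInt} [M.IsPrime] (hM : IsPModular p M) (hN : 3 * n ≤ N) {κ : ℤ → ℕ}
    {χ ψ : IrrCharacter (Perm (Fin n))} (hχ : χ ∈ clsSet N n p κ)
    (h : SameBlock M (χ : Perm (Fin n) → ℂ) (ψ : Perm (Fin n) → ℂ)) : ψ ∈ clsSet N n p κ := by
  classical
  refine Blocks.mem_of_sameBlock_of_blockCoeff_mem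
    (fun g => Blocks.blockCoeff_mem_of_orth hM _ (fun x y hx hy => ?_) g) hχ h
  have hbij : ∀ a ∈ Cls N n p κ, Cfsg.IsIrrCharacter (Perm (Fin n)) (chi N n a) :=
    fun a ha => exists_irr hN (mem_Cls.1 ha).1
  have hset : clsSet N n p κ = ((Cls N n p κ).attach.image fun a =>
      (⟨_, hbij a.1 a.2⟩ : IrrCharacter (Perm (Fin n))) : Finset _) := by
    ext φ
    simp only [clsSet, Set.mem_ofPred_eq, coe_image, Set.mem_image, mem_coe, mem_attach, true_and]
    exact ⟨fun ⟨a, ha, e⟩ => ⟨⟨a, ha⟩, Subtype.ext e.symm⟩, fun ⟨a, e⟩ => ⟨a.1, a.2, by rw [← e]⟩⟩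
  rw [hset, finsum_mem_coe_finset, sum_image fun a _ b _ e => Subtype.ext (chi_injOn hN
    (mem_Cls.1 a.2).1 (mem_Cls.1 b.2).1 (congrArg Subtype.val e)),
    sum_attach _ fun a => chi N n a x * chi N n a y]
  exact sum_Cls_orth hM.1 hN κ hx hy

/-- The first gap on the runner of zero. -/
noncomputable def gap (p : ℕ) (a : Fin N → ℤ) : ℕ := sInf {t : ℕ | ∀ i, a i ≠ t * p}

theorem gap_spec (hp : 0 < p) (a : Fin N → ℤ) : ∀ i, a i ≠ gap p a * p := by
  refine Nat.sInf_mem (s := {t : ℕ | ∀ i, a i ≠ t * p}) ?_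
  refine ⟨(univ.sup fun i => (a i).toNat) + 1, fun i h => ?_⟩
  have h1 := le_sup (f := fun i => (a i).toNat) (mem_univ i)
  have h2 : ((a i).toNat : ℤ) ≤ (univ.sup fun i => (a i).toNat : ℕ) := by exact_mod_cast h1
  have h3 : (1 : ℤ) ≤ p := by exact_mod_cast hp
  push_cast at h
  nlinarith [Int.self_le_toNat (a i), mul_le_mul_of_nonneg_left h3
    (show (0 : ℤ) ≤ (univ.sup fun i => (a i).toNat : ℕ) + 1 by positivity)]

theorem exists_of_lt_gap {a : Fin N → ℤ} {t : ℕ} (h : t < gap p a) : ∃ i, a i = t * p := by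
  simpa using Nat.notMem_of_lt_sInf h

/-- The sum on the runner of zero. -/
noncomputable def rsum (p : ℕ) (a : Fin N → ℤ) : ℤ := ∑ i ∈ univ.filter (fun i => (p : ℤ) ∣ a i), a i

/-- The regular part of a tuple character. -/
noncomputable def rv (p N n : ℕ) (a : Fin N → ℤ) : Perm (Fin n) → ℂ := pRegularPart p (chi N n a)

theorem rv_comp (π : Perm (Fin N)) (a : Fin N → ℤ) :
    rv p N n (a ∘ π) = ((Perm.sign π : ℤ) : ℂ) • rv p N n a := by
  funext g
  simp only [rv, pRegularPart, chi, Pi.smul_apply, smul_eq_mul, anti_val g π a]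
  split <;> simp

theorem rv_eq_zero {a : Fin N → ℤ}
    (h : ¬ (Function.Injective a ∧ (∀ i, 0 ≤ a i) ∧ ∑ i, a i = base N + n)) : rv p N n a = 0 := by
  funext g
  simp only [rv, pRegularPart, chi, Pi.zero_apply, ite_eq_right_iff]
  refine fun _ => by_contra fun hne => h ?_
  simpa using supp_val g a hne

/-- Straightening: the tuples packed on the runner of zero span. -/
theorem rv_mem_span (hp : p.Prime) (hNp : ∀ j ≤ n, (j + 1) * p + n ≤ N) {c : Fin N → ℤ} (hc : IsCore p c)
    {w : ℕ} (hw : base N + (n : ℤ) = ∑ i, c i + p * w) {a : Fin N → ℤ} (hcts : cts p a = cts p c) :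
    rv p N n a ∈ Submodule.span ℂ (rv p N n '' (T p c w : Set (Fin N → ℤ))) := by
  classical
  have key : ∀ R t : ℕ, ∀ a : Fin N → ℤ, cts p a = cts p c → (rsum p a).toNat = R → gap p a = t →
      rv p N n a ∈ Submodule.span ℂ (rv p N n '' (T p c w : Set (Fin N → ℤ))) := by
    intro R
    induction R using Nat.strong_induction_on with
    | _ R ihR =>
    intro t
    induction t using Nat.strong_induction_on with
    | _ t iht =>
    intro a hcts hR ht
    by_cases hv : Function.Injective a ∧ (∀ i, 0 ≤ a i) ∧ ∑ i, a i = base N + n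
    swap
    · rw [rv_eq_zero hv]; exact Submodule.zero_mem _
    obtain ⟨hinj, hnn, hsum⟩ := hv
    by_cases hpk : Pk p a
    · obtain ⟨π, hπ⟩ := exists_strictMono hinj
      have hmem : a ∘ π ∈ T p c w := mem_T.2 ⟨hπ, fun i => hnn _,
        by rw [← hcts]; exact funext fun r => cts_comp p a π r, hpk.comp π, by rw [sum_comp_perm, hsum, hw]⟩
      have h2 : rv p N n a = ((Perm.sign π : ℤ) : ℂ) • rv p N n (a ∘ π) := by
        rw [rv_comp, smul_smul]
        rcases Int.units_eq_one_or (Perm.sign π) with e | e <;> simp [e]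
      rw [h2]
      exact Submodule.smul_mem _ _ (Submodule.subset_span ⟨_, hmem, rfl⟩)
    set g : ℤ := gap p a * p with hg
    set P0 := univ.filter fun i => (p : ℤ) ∣ a i with hP0
    set I0 := P0.filter fun i => g < a i with hI0
    have hpg : (p : ℤ) ∣ g := Dvd.intro_left _ rfl
    have hg0 : 0 ≤ g := by positivity
    have hpp : (0 : ℤ) < p := by exact_mod_cast hp.pos
    have hI0ne : I0.Nonempty := by
      simp only [Pk, not_forall, not_exists] at hpk
      obtain ⟨i, hi1, hi2, hi3⟩ := hpk
      obtain ⟨q, hq⟩ := hi1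
      have hq1 : 1 ≤ q := by
        by_contra hq0
        have : (p : ℤ) * q ≤ 0 := mul_nonpos_of_nonneg_of_nonpos hpp.le (by omega)
        omega
      have hle : gap p a ≤ (q - 1).toNat := Nat.sInf_le fun l hl => hi3 l (by
        rw [hl, hq, Int.toNat_of_nonneg (by omega)]; ring)
      have h4 : (gap p a : ℤ) ≤ q - 1 := by omega
      refine ⟨i, ?_⟩
      simp only [hI0, hP0, mem_filter, mem_univ, true_and]
      exact ⟨⟨q, hq⟩, by rw [hg, hq]; nlinarith⟩
    have hbig : ∀ i ∈ I0, g + p ≤ a i := by
      intro i hi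
      simp only [hI0, hP0, mem_filter, mem_univ, true_and] at hi
      have := Int.le_of_dvd (by omega) (dvd_sub hi.1 hpg)
      omega
    set j := I0.card with hj
    set b : Fin N → ℤ := fun l => a l - if l ∈ I0 then (p : ℤ) else 0 with hb
    have hb0 : ∀ l, 0 ≤ b l := fun l => by
      simp only [hb]
      have := hnn l
      split
      case isTrue h => have := hbig l h; omega
      case isFalse => omega
    have hjn : j ≤ n := by
      have hbinj : Function.Injective b := by
        intro u v huv
        simp only [hb] at huv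
        have hlow : ∀ l, l ∉ I0 → (p : ℤ) ∣ a l → a l < g := fun l hl hd => by
          have h' : ¬ g < a l := fun h' => hl (by simp [hI0, hP0, hd, h'])
          have := gap_spec hp.pos a l
          omega
        by_cases hu : u ∈ I0 <;> by_cases hv : v ∈ I0
        · simp only [if_pos hu, if_pos hv] at huv; exact hinj (by omega)
        · simp only [if_pos hu, if_neg hv] at huv
          have h1 := hbig u hu
          have h2 := hlow v hv (by
            rw [sub_zero] at huv
            rw [← huv]
            exact dvd_sub (by simp only [hI0, hP0, mem_filter] at hu; exact hu.1.2) dvd_rfl)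
          omega
        · simp only [if_neg hu, if_pos hv] at huv
          have h1 := hbig v hv
          have h2 := hlow u hu (by
            rw [sub_zero] at huv
            rw [huv]
            exact dvd_sub (by simp only [hI0, hP0, mem_filter] at hv; exact hv.1.2) dvd_rfl)
          omega
        · simp only [if_neg hu, if_neg hv] at huv; exact hinj (by omega)
      have h1 := base_le hbinj hb0
      simp [hb, sum_sub_distrib, hsum, ← hj] at h1
      have : (j : ℤ) ≤ j * p := le_mul_of_one_le_right (Int.natCast_nonneg _) (by omega)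
      omega
    have hrel : ∑ I ∈ (univ : Finset (Fin N)).powersetCard j,
        rv p N n (b + fun l => if l ∈ I then (p : ℤ) else 0) = 0 := by
      funext h
      simp only [rv, pRegularPart, Finset.sum_apply, chi, Pi.zero_apply]
      by_cases hh : IsPRegular p h
      swap
      · simp [hh]
      simp only [if_pos hh]
      have h1 := congrFun (down_val_eq_zero (N := N) hp.pos (card_pos.2 hI0ne) h
        (by rw [Fintype.card_fin]; exact hNp j hjn)
        fun w t _ _ e => hh ((Dvd.intro_left t rfl).trans ((dvd_of_eq e.symm).trans (cyc_dvd_orderOf h w)))) b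
      rw [down, if_pos hb0] at h1
      exact h1
    have hbI : (b + fun l => if l ∈ I0 then (p : ℤ) else 0) = a := by funext l; simp [hb]
    rw [← add_sum_erase _ _ (mem_powersetCard.2 ⟨subset_univ I0, rfl⟩), hbI] at hrel
    rw [eq_neg_of_add_eq_zero_left hrel]
    refine Submodule.neg_mem _ (Submodule.sum_mem _ fun I hI => ?_)
    simp only [mem_erase, mem_powersetCard] at hI
    obtain ⟨hne, -, hcard⟩ := hI
    set a' : Fin N → ℤ := b + fun l => if l ∈ I then (p : ℤ) else 0 with ha'
    have hdiff : ∀ l, (p : ℤ) ∣ a' l - a l := fun l => by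
      simp only [ha', hb, Pi.add_apply]
      split_ifs <;> simp
    have hmod : ∀ l, ((p : ℤ) ∣ a' l) ↔ (p : ℤ) ∣ a l := fun l =>
      ⟨fun h => by simpa using dvd_sub h (hdiff l), fun h => by simpa using dvd_add h (hdiff l)⟩
    have hcts' : cts p a' = cts p c := by
      rw [← hcts]
      exact funext fun r => congrArg card (filter_congr fun l _ => by
        rw [Int.emod_eq_emod_iff_emod_sub_eq_zero.2 (Int.emod_eq_zero_of_dvd (hdiff l))])
    by_cases hv' : Function.Injective a' ∧ (∀ i, 0 ≤ a' i) ∧ ∑ i, a' i = base N + n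
    swap
    · rw [rv_eq_zero hv']; exact Submodule.zero_mem _
    have hrs : rsum p a' = rsum p a - p * (j - ((P0 ∩ I).card : ℤ)) := by
      have hs1 : ∑ l ∈ P0, (if l ∈ I0 then (p : ℤ) else 0) = p * j := by
        rw [sum_ite_mem, inter_eq_right.2 (filter_subset _ _), sum_const, nsmul_eq_mul, mul_comm]
      have hs2 : ∑ l ∈ P0, (if l ∈ I then (p : ℤ) else 0) = p * ((P0 ∩ I).card : ℤ) := by
        rw [sum_ite_mem, sum_const, nsmul_eq_mul, mul_comm]
      simp only [rsum]
      rw [show univ.filter (fun i => (p : ℤ) ∣ a' i) = P0 from filter_congr fun l _ => hmod l, ← hP0]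
      simp only [ha', hb, Pi.add_apply, sum_add_distrib, sum_sub_distrib, hs1, hs2]
      ring
    have hrs0 : 0 ≤ rsum p a' := sum_nonneg fun l _ => hv'.2.1 l
    rcases lt_or_eq_of_le (hcard ▸ card_le_card (inter_subset_right (s₁ := P0) (s₂ := I))) with hlt | heq
    · have : (p : ℤ) * ((P0 ∩ I).card + 1) ≤ p * j := mul_le_mul_of_nonneg_left (by omega) hpp.le
      refine ihR (rsum p a').toNat ?_ _ a' hcts' rfl rfl
      rw [hrs, mul_sub] at hrs0
      rw [← hR, hrs, mul_sub]
      rw [mul_add, mul_one] at this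
      omega
    have hIP : I ⊆ P0 := inter_eq_right.1 (eq_of_subset_of_card_le inter_subset_right (le_of_eq (hcard.trans heq.symm)))
    refine iht (gap p a') ?_ a' hcts' (by rw [hrs, heq, sub_self, mul_zero, sub_zero, hR]) rfl
    obtain ⟨i, hiI, hi0⟩ : ∃ i ∈ I, i ∉ I0 := by
      by_contra hall
      push Not at hall
      exact hne (eq_of_subset_of_card_le hall (by omega))
    obtain ⟨i', hi', hmin⟩ := exists_min_image (I.filter (· ∉ I0)) a ⟨i, by simp [hiI, hi0]⟩
    simp only [mem_filter] at hi'
    have hd' : (p : ℤ) ∣ a i' := by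
      have := hIP hi'.1
      simp only [hP0, mem_filter] at this
      exact this.2
    have hlt' : a i' < g := by
      have h' : ¬ g < a i' := fun h' => hi'.2 (by simp [hI0, hP0, hd', h'])
      have := gap_spec hp.pos a i'
      omega
    obtain ⟨q, hq⟩ := hd'
    have hq0 : 0 ≤ q := by
      by_contra hq0
      have : (p : ℤ) * q < 0 := mul_neg_of_pos_of_neg hpp (by omega)
      have := hnn i'
      omega
    have hqt : q.toNat < gap p a := by
      by_contra hle
      push Not at hle
      have h4 : (gap p a : ℤ) ≤ q := by omega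
      have : g ≤ a i' := by rw [hg, hq]; nlinarith
      omega
    rw [← ht]
    refine lt_of_le_of_lt (Nat.sInf_le fun l hl => ?_) hqt
    rw [Int.toNat_of_nonneg hq0, mul_comm, ← hq] at hl
    simp only [ha', hb, Pi.add_apply] at hl
    by_cases hl0 : l ∈ I0
    · have := hbig l hl0
      rw [if_pos hl0] at hl
      split at hl <;> omega
    · rw [if_neg hl0, sub_zero] at hl
      split at hl
      case isTrue hlI =>
        have := hmin l (by simp [hlI, hl0])
        omega
      case isFalse hlI =>
        rw [add_zero] at hl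
        exact hlI (hinj hl ▸ hi'.1)
  exact key _ _ a hcts rfl rfl

end CfsgLib.SymBeta
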