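import Cfsg.Agent.Lib.Char.SymBeta.Basic

/-!
# Invariant colourings, splitting off a cycle, orthogonality
-/

set_option autoImplicit false

namespace CfsgLib.SymBeta

open Finset Equiv

universe u

variable {N : ℕ}

theorem base_eq_sum (N : ℕ) : base N = ∑ x ∈ Finset.Ico (0 : ℤ) N, x :=
  Finset.sum_bij (fun (i : Fin N) _ => (i : ℤ)) (fun i _ => by simp [i.2])
    (fun i _ j _ h => Fin.ext (by exact_mod_cast h))
    (fun x hx => ⟨⟨x.toNat, by simp at hx; omega⟩, mem_univ _, by simp at hx ⊢; omega⟩)
    fun i _ => rfl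

/-- The Vandermonde coefficient. -/
def delta (N : ℕ) (a : Fin N → ℤ) : ℂ :=
  ∑ π : Perm (Fin N), if (fun i => ((π i : Fin N) : ℤ)) = a then ((Perm.sign π : ℤ) : ℂ) else 0

theorem anti_delta : Anti (delta N) := by
  intro π a
  unfold delta
  rw [mul_sum]
  refine Eq.trans ?_ (Equiv.sum_comp (Equiv.mulRight π⁻¹) fun ρ : Perm (Fin N) =>
    ((Perm.sign π : ℤ) : ℂ) * if (fun i => ((ρ i : Fin N) : ℤ)) = a then ((Perm.sign ρ : ℤ) : ℂ) else 0)
  refine sum_congr rfl fun ρ _ => ?_
  have hiff : (fun i => (((Equiv.mulRight π⁻¹ ρ) i : Fin N) : ℤ)) = a ↔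
      (fun i => ((ρ i : Fin N) : ℤ)) = a ∘ π := by
    constructor
    · intro h; funext i
      have := congrFun h (π i)
      simpa using this
    · intro h; funext i
      have := congrFun h (π⁻¹ i)
      simpa using this
  simp only [hiff]
  split
  · simp [Perm.sign_mul, Perm.sign_inv]
    rcases Int.units_eq_one_or (Perm.sign π) with h | h <;> simp [h]
  · simp

theorem exists_of_delta_ne_zero {a : Fin N → ℤ} (h : delta N a ≠ 0) :
    ∃ π : Perm (Fin N), (fun i => ((π i : Fin N) : ℤ)) = a := by
  obtain ⟨π, -, hπ⟩ := exists_ne_zero_of_sum_ne_zero h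
  exact ⟨π, by_contra fun hc => hπ (if_neg hc)⟩

theorem supp_delta : Supp 0 (delta N) := by
  intro a ha
  obtain ⟨π, rfl⟩ := exists_of_delta_ne_zero ha
  refine ⟨fun i j h => π.injective (Fin.ext (by simpa using h)), fun i => Int.natCast_nonneg _, ?_⟩
  rw [add_zero]
  exact Equiv.sum_comp π fun i : Fin N => (i : ℤ)

theorem down_delta {m : ℤ} {j : ℕ} (hm : 0 < m) (hj : 0 < j) (a : Fin N → ℤ) :
    down m j (delta N) a = 0 := by
  by_cases hinj : Function.Injective a
  swap
  · exact anti_delta.down.eq_zero hinj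
  unfold down
  split
  case isFalse => rfl
  case isTrue ha =>
    refine sum_eq_zero fun I hI => ?_
    by_contra hne
    obtain ⟨-, -, hs⟩ := supp_delta _ hne
    obtain ⟨π, hπ⟩ := exists_of_delta_ne_zero hne
    have hlt : ∀ i, a i < N := fun i => by
      have h1 := congrFun hπ i
      have h2 : ((π i : Fin N) : ℤ) < N := by exact_mod_cast (π i).2
      simp only [Pi.add_apply] at h1
      split at h1 <;> omega
    have himg : univ.image a = Finset.Ico (0 : ℤ) N := eq_of_subset_of_card_le
      (fun x hx => by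
        obtain ⟨i, -, rfl⟩ := mem_image.1 hx
        simp [ha i, hlt i])
      (by simp [card_image_of_injective _ hinj])
    have h1 : ∑ i, a i = base N := by
      rw [base_eq_sum, ← himg, sum_image fun x _ y _ h => hinj h]
    have h2 : ∑ l, (if l ∈ I then m else 0) = j * m := by
      simp [(mem_powersetCard.1 hI).2]
    simp only [Pi.add_apply, sum_add_distrib, h1, h2] at hs
    have : (0 : ℤ) < j * m := by positivity
    omega

section Val

variable {α β : Type u} [Fintype α] [DecidableEq α] [Fintype β] [DecidableEq β]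

/-- The load of a colouring. -/
def cnt (f : α → Fin N) (i : Fin N) : ℤ := ((univ.filter fun x => f x = i).card : ℤ)

/-- The value at exponents: a sum over invariant colourings. -/
def val (N : ℕ) (σ : Perm α) (a : Fin N → ℤ) : ℂ :=
  ∑ f ∈ (univ : Finset (α → Fin N)).filter (fun f => ∀ x, f (σ x) = f x), delta N (a - cnt f)

theorem val_congr (e : α ≃ β) {σ : Perm α} {τ : Perm β} (h : ∀ x, e (σ x) = τ (e x)) :
    val N σ = val N τ := by
  funext a
  unfold val
  refine sum_bij' (fun f _ => f ∘ e.symm) (fun g _ => g ∘ e) (fun f hf => ?_) (fun g hg => ?_)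
    (fun f _ => by funext x; simp) (fun g _ => by funext x; simp) fun f _ => ?_
  · simp only [mem_filter, mem_univ, true_and] at hf ⊢
    intro y
    obtain ⟨x, rfl⟩ := e.surjective y
    simp [← h, hf]
  · simp only [mem_filter, mem_univ, true_and] at hg ⊢
    intro x
    simp [h, hg]
  · congr 2
    funext i
    unfold cnt
    exact_mod_cast card_bij' (fun x _ => e x) (fun y _ => e.symm y) (fun x hx => by simpa using hx)
      (fun y hy => by simpa using hy) (fun x _ => by simp) fun y _ => by simp

variable (σ : Perm α) (x : α)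

/-- The cycle length. -/
def cyc : ℕ := (univ.filter fun y => σ.SameCycle x y).card

/-- The permutation outside a cycle. -/
def off : Perm {y // ¬ σ.SameCycle x y} :=
  σ.subtypePerm fun _ => not_congr Perm.sameCycle_apply_right

@[simp] theorem coe_off (y : {y // ¬ σ.SameCycle x y}) : ((off σ x y : {y // _}) : α) = σ y := rfl

theorem cyc_pos : 0 < cyc σ x := card_pos.2 ⟨x, by simp [Perm.SameCycle.refl]⟩

theorem card_off : Fintype.card {y // ¬ σ.SameCycle x y} + cyc σ x = Fintype.card α := by
  rw [Fintype.card_subtype, cyc, add_comm]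
  exact card_filter_add_card_filter_not _

variable {σ}

theorem eq_of_sameCycle {γ : Type*} {f : α → γ} (hf : ∀ y, f (σ y) = f y) {x y : α}
    (h : σ.SameCycle x y) : f y = f x := by
  obtain ⟨i, -, rfl⟩ := h.exists_pow_eq'
  clear h
  induction i with
  | zero => rfl
  | succ i ih => rw [pow_succ', Perm.mul_apply, hf, ih]

variable (σ)

theorem val_split : val N σ = up (cyc σ x) (val N (off σ x)) := by
  funext a
  unfold val up
  simp only []
  rw [← Finset.sum_product']
  refine sum_bij' (fun f _ => (f x, fun y => f y.1))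
    (fun q _ => fun y => if h : σ.SameCycle x y then q.1 else q.2 ⟨y, h⟩)
    (fun f hf => ?_) (fun q hq => ?_) (fun f hf => ?_) (fun q hq => ?_) fun f hf => ?_
  · simp only [mem_filter, mem_univ, true_and] at hf
    simp only [mem_product, mem_univ, mem_filter, true_and]
    exact fun y => hf y.1
  · simp only [mem_product, mem_univ, mem_filter, true_and] at hq
    simp only [mem_filter, mem_univ, true_and]
    intro y
    by_cases h : σ.SameCycle x y
    · simp [h, Perm.sameCycle_apply_right.2 h]
    · rw [dif_neg h, dif_neg (mt Perm.sameCycle_apply_right.1 h)]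
      exact hq ⟨y, h⟩
  · simp only [mem_filter, mem_univ, true_and] at hf
    funext y
    by_cases h : σ.SameCycle x y
    · simp [h, eq_of_sameCycle hf h]
    · simp [h]
  · refine Prod.ext ?_ (funext fun y => ?_)
    · simp [Perm.SameCycle.refl]
    · simp [y.2]
  · simp only [mem_filter, mem_univ, true_and] at hf
    congr 1
    funext i
    have hsplit : (univ.filter fun y => f y = i).card =
        (univ.filter fun y => σ.SameCycle x y ∧ f y = i).card +
          (univ.filter fun y : {y // ¬ σ.SameCycle x y} => f y.1 = i).card := by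
      rw [← card_filter_add_card_filter_not (s := univ.filter fun y => f y = i)
        (fun y => σ.SameCycle x y), filter_filter, filter_filter]
      congr 1
      · exact congrArg card (filter_congr fun y _ => and_comm)
      · refine (card_bij (fun y _ => y.1) (fun y hy => ?_) (fun _ _ _ _ h => Subtype.ext h)
          fun y hy => ?_).symm
        · simp only [mem_filter, mem_univ, true_and] at hy ⊢
          exact ⟨hy, y.2⟩
        · simp only [mem_filter, mem_univ, true_and] at hy
          exact ⟨⟨y, hy.2⟩, by simpa using hy.1, rfl⟩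
    have h1 : (univ.filter fun y => σ.SameCycle x y ∧ f y = i).card = if i = f x then cyc σ x else 0 := by
      split
      case isTrue h =>
        exact congrArg card (filter_congr fun y _ =>
          ⟨fun h' => h'.1, fun h' => ⟨h', (eq_of_sameCycle hf h').trans h.symm⟩⟩)
      case isFalse h =>
        rw [card_eq_zero, filter_eq_empty_iff]
        exact fun y _ ⟨h', h''⟩ => h (h''.symm.trans (eq_of_sameCycle hf h'))
    simp only [Pi.sub_apply, cnt, hsplit, h1, Pi.single_apply]
    split <;> push_cast <;> ring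

theorem val_of_isEmpty [IsEmpty α] : val N σ = delta N := by
  funext a
  unfold val
  rw [filter_true_of_mem fun f _ x => isEmptyElim x, Fintype.sum_unique]
  congr 1
  funext i
  simp [cnt]

end Val

/-- Induction on cycles. -/
theorem perm_induction {P : ∀ (α : Type u) [Fintype α] [DecidableEq α], Perm α → Prop}
    (h0 : ∀ (α : Type u) [Fintype α] [DecidableEq α] [IsEmpty α] (σ : Perm α), P α σ)
    (h1 : ∀ (α : Type u) [Fintype α] [DecidableEq α] (σ : Perm α) (x : α),
      P {y // ¬ σ.SameCycle x y} (off σ x) → P α σ)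
    (α : Type u) [Fintype α] [DecidableEq α] (σ : Perm α) : P α σ := by
  suffices H : ∀ n (β : Type u) [Fintype β] [DecidableEq β] (τ : Perm β), Fintype.card β = n → P β τ from
    H _ α σ rfl
  intro n
  induction n using Nat.strong_induction_on with
  | _ n ih =>
    intro β _ _ τ hn
    rcases isEmpty_or_nonempty β with h | ⟨⟨x⟩⟩
    · exact h0 β τ
    · refine h1 β τ x (ih _ ?_ _ _ rfl)
      have := card_off τ x
      have := cyc_pos τ x
      omega

theorem anti_val {α : Type u} [Fintype α] [DecidableEq α] (σ : Perm α) : Anti (val N σ) := by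
  refine perm_induction (P := fun β _ _ τ => Anti (val N τ)) (fun β _ _ _ τ => ?_) (fun β _ _ τ x h => ?_) α σ
  · rw [val_of_isEmpty]; exact anti_delta
  · rw [val_split τ x]; exact h.up

theorem supp_val {α : Type u} [Fintype α] [DecidableEq α] (σ : Perm α) :
    Supp (Fintype.card α : ℤ) (val N σ) := by
  refine perm_induction (P := fun β _ _ τ => Supp (Fintype.card β : ℤ) (val N τ)) (fun β _ _ _ τ => ?_)
    (fun β _ _ τ x h => ?_) α σ
  · rw [val_of_isEmpty, Fintype.card_eq_zero]; simpa using supp_delta
  · rw [val_split τ x]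
    have := h.up ((anti_val _).up (k := (cyc τ x : ℤ))) (Int.natCast_nonneg _)
    rwa [← Nat.cast_add, card_off] at this

theorem cyc_off {α : Type u} [Fintype α] [DecidableEq α] (σ : Perm α) (x : α)
    (y : {y // ¬ σ.SameCycle x y}) : cyc (off σ x) y = cyc σ y := by
  unfold cyc
  refine card_bij (fun z _ => z.1) (fun z hz => ?_) (fun _ _ _ _ h => Subtype.ext h) fun z hz => ?_
  · simp only [mem_filter, mem_univ, true_and] at hz ⊢
    exact Perm.sameCycle_subtypePerm.1 hz
  · simp only [mem_filter, mem_univ, true_and] at hz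
    have : ¬ σ.SameCycle x z := fun h => y.2 (h.trans hz.symm)
    exact ⟨⟨z, this⟩, mem_filter.2 ⟨mem_univ _, Perm.sameCycle_subtypePerm.2 hz⟩, rfl⟩

/-- Lowering by a multiple of a number dividing no cycle length gives zero. -/
theorem down_val_eq_zero {m : ℕ} {j : ℕ} (hm : 0 < m) (hj : 0 < j) {α : Type u} [Fintype α]
    [DecidableEq α] (σ : Perm α) (hN : (j + 1) * m + Fintype.card α ≤ N)
    (hσ : ∀ x, ∀ t : ℕ, 1 ≤ t → t ≤ j → cyc σ x ≠ t * m) : down (m : ℤ) j (val N σ) = 0 := by
  refine perm_induction (P := fun β _ _ τ => (j + 1) * m + Fintype.card β ≤ N →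
      (∀ x, ∀ t : ℕ, 1 ≤ t → t ≤ j → cyc τ x ≠ t * m) → down (m : ℤ) j (val N τ) = 0)
    (fun β _ _ _ τ _ _ => ?_) (fun β _ _ τ x ih hN hσ => ?_) α σ hN hσ
  · rw [val_of_isEmpty]
    exact funext fun a => down_delta (by exact_mod_cast hm) hj a
  · have hc := card_off τ x
    have h0 := ih (by omega) fun y t h1 h2 => by rw [cyc_off]; exact hσ _ t h1 h2
    funext a
    rw [val_split τ x, down_up (supp_val _) (anti_val _) (Int.natCast_nonneg _) (by exact_mod_cast hm)
      (Int.natCast_nonneg _) ?_ ?_ a, h0]
    · simp [up]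
    · rw [← hc] at hN
      push_cast
      exact_mod_cast (by linarith : (j + 1) * m + Fintype.card {y // ¬ τ.SameCycle x y} + cyc τ x ≤ N)
    · intro t h1 h2
      exact_mod_cast hσ x t h1 h2

/-- The number of bijections intertwining two permutations. -/
noncomputable def nint {α β : Type u} (σ : Perm α) (τ : Perm β) : ℕ :=
  Nat.card {e : α ≃ β // ∀ x, e (σ x) = τ (e x)}

/-- Lowering by `k` removes a cycle of length `k`. -/
theorem down_val {k : ℕ} (hk : 0 < k) {α : Type u} [Fintype α] [DecidableEq α] (σ : Perm α)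
    (hN : 2 * k + Fintype.card α ≤ N) : down (k : ℤ) 1 (val N σ) =
      ∑ y ∈ univ.filter (fun y => cyc σ y = k), val N (off σ y) := by
  refine perm_induction (P := fun β _ _ τ => 2 * k + Fintype.card β ≤ N → down (k : ℤ) 1 (val N τ) =
      ∑ y ∈ univ.filter (fun y => cyc τ y = k), val N (off τ y))
    (fun β _ _ _ τ _ => ?_) (fun β _ _ τ x ih hN => ?_) α σ hN
  · funext a
    rw [val_of_isEmpty, down_delta (by exact_mod_cast hk) one_pos]
    simp
  have hc := card_off τ x
  have h0 := ih (by omega)
  funext a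
  set l := cyc τ x with hl
  have hcongr : ∀ y : {y // ¬ τ.SameCycle x y}, val N (off τ y.1) =
      up (l : ℤ) (val N (off (off τ x) y)) := by
    intro y
    have hx : ¬ τ.SameCycle y.1 x := fun h => y.2 h.symm
    rw [val_split (off τ y.1) ⟨x, hx⟩, cyc_off]
    congr 1
    refine val_congr
      { toFun := fun z => ⟨⟨z.1.1, fun h => z.2 (Perm.sameCycle_subtypePerm.2 h)⟩,
          fun h => z.1.2 (Perm.sameCycle_subtypePerm.1 h)⟩
        invFun := fun z => ⟨⟨z.1.1, fun h => z.2 (Perm.sameCycle_subtypePerm.2 h)⟩,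
          fun h => z.1.2 (Perm.sameCycle_subtypePerm.1 h)⟩
        left_inv := fun z => rfl
        right_inv := fun z => rfl } fun z => rfl
  have hout : ∑ y ∈ (univ.filter fun y => cyc τ y = k).filter (fun y => ¬ τ.SameCycle x y),
      val N (off τ y) a = up (l : ℤ) (down (k : ℤ) 1 (val N (off τ x))) a := by
    rw [h0]
    simp only [up, Finset.sum_apply]
    rw [sum_comm]
    refine (sum_bij (fun y _ => y.1) (fun y hy => ?_) (fun _ _ _ _ h => Subtype.ext h)
      (fun y hy => ?_) fun y _ => ?_).symm
    · simp only [mem_filter, mem_univ, true_and, cyc_off] at hy ⊢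
      exact ⟨hy, y.2⟩
    · simp only [mem_filter, mem_univ, true_and] at hy
      exact ⟨⟨y, hy.2⟩, by simp [cyc_off, hy.1], rfl⟩
    · rw [hcongr y]; rfl
  rw [Finset.sum_apply, ← sum_filter_add_sum_filter_not _ (fun y => τ.SameCycle x y), hout,
    val_split τ x, add_comm]
  have hsup : Supp (Fintype.card {y // ¬ τ.SameCycle x y} : ℤ) (val N (off τ x)) := supp_val _
  have hNz : ((Fintype.card {y // ¬ τ.SameCycle x y} : ℤ)) + k + l ≤ N := by
    exact_mod_cast (show Fintype.card {y // ¬ τ.SameCycle x y} + k + l ≤ N by omega)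
  by_cases hkl : l = k
  · rw [← hkl] at hk ⊢
    rw [down_up_self hsup (anti_val _) (by exact_mod_cast hk) (Int.natCast_nonneg _) (by omega)]
    congr 1
    have hsame : ∀ y, τ.SameCycle x y → cyc τ y = l ∧ val N (off τ y) = val N (off τ x) := by
      intro y hy
      refine ⟨congrArg card (filter_congr fun z _ => ⟨fun h => hy.trans h, fun h => hy.symm.trans h⟩), ?_⟩
      refine val_congr
        { toFun := fun z => ⟨z.1, fun h => z.2 (hy.symm.trans h)⟩
          invFun := fun z => ⟨z.1, fun h => z.2 (hy.trans h)⟩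
          left_inv := fun z => rfl
          right_inv := fun z => rfl } fun z => rfl
    rw [filter_filter, sum_congr rfl (fun y hy => by
      rw [(hsame y (by simp only [mem_filter] at hy; exact hy.2.2)).2]), sum_const, nsmul_eq_mul]
    congr 1
    · rw [hl]
      unfold cyc
      refine congrArg (fun s : Finset β => (s.card : ℂ)) ?_
      ext y
      simp only [mem_filter, mem_univ, true_and]
      exact ⟨fun h => ⟨(hsame y h).1, h⟩, fun h => h.2⟩
  · rw [down_up hsup (anti_val _) (Int.natCast_nonneg _) (by exact_mod_cast hk) (Int.natCast_nonneg _)]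
    · rw [left_eq_add]
      refine sum_eq_zero fun y hy => ?_
      simp only [mem_filter, mem_univ, true_and] at hy
      exact absurd ((congrArg card (filter_congr fun z _ =>
        ⟨fun h => hy.2.symm.trans h, fun h => hy.2.trans h⟩)).trans hy.1) hkl
    · have : ((Fintype.card {y // ¬ τ.SameCycle x y} : ℤ)) + 2 * k + l ≤ N := by
        exact_mod_cast (show Fintype.card {y // ¬ τ.SameCycle x y} + 2 * k + l ≤ N by omega)
      push_cast; omega
    · intro t h1 h2
      obtain rfl : t = 1 := by omega
      push_cast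
      omega

theorem nint_eq_sum {α β : Type u} [Fintype α] [DecidableEq α] [Fintype β] [DecidableEq β]
    (σ : Perm α) (τ : Perm β) (x : α) :
    nint σ τ = ∑ y ∈ univ.filter (fun y => cyc τ y = cyc σ x), nint (off σ x) (off τ y) := by
  classical
  have hsame : ∀ (e : {e : α ≃ β // ∀ x, e (σ x) = τ (e x)}) (u v : α),
      σ.SameCycle u v ↔ τ.SameCycle (e.1 u) (e.1 v) := by
    intro e u v
    have hp : ∀ i : ℕ, ∀ w, e.1 ((σ ^ i) w) = (τ ^ i) (e.1 w) := by
      intro i
      induction i with
      | zero => simp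
      | succ i ih => intro w; simp [pow_succ', Perm.mul_apply, e.2, ih]
    constructor
    · intro h
      obtain ⟨i, -, rfl⟩ := h.exists_pow_eq'
      exact ⟨(i : ℤ), by rw [zpow_natCast, hp]⟩
    · intro h
      obtain ⟨i, -, hi⟩ := h.exists_pow_eq'
      exact ⟨(i : ℤ), by rw [zpow_natCast]; exact e.1.injective ((hp i u).trans hi)⟩
  have hcyc : ∀ e : {e : α ≃ β // ∀ x, e (σ x) = τ (e x)}, cyc τ (e.1 x) = cyc σ x := by
    intro e
    unfold cyc
    refine (card_bij' (fun z _ => e.1 z) (fun z _ => e.1.symm z) (fun z hz => ?_) (fun z hz => ?_)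
      (fun z _ => by simp) fun z _ => by simp).symm
    · simpa [← hsame e] using hz
    · simp only [mem_filter, mem_univ, true_and] at hz ⊢
      rw [hsame e]; simpa using hz
  unfold nint
  rw [Nat.card_eq_fintype_card, ← card_univ, card_eq_sum_card_fiberwise (f := fun e => e.1 x)
    (t := univ.filter fun y => cyc τ y = cyc σ x) (fun e _ => by simp [hcyc e])]
  refine sum_congr rfl fun y hy => ?_
  simp only [mem_filter, mem_univ, true_and] at hy
  rw [Nat.card_eq_fintype_card, ← card_univ]
  refine card_bij (fun e he => ⟨e.1.subtypeEquiv fun z => by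
      simp only [mem_filter, mem_univ, true_and] at he
      rw [not_iff_not, hsame e, he], fun z => Subtype.ext (e.2 z.1)⟩)
    (fun _ _ => mem_univ _) (fun e he e' he' h => ?_) fun d _ => ?_
  · simp only [mem_filter, mem_univ, true_and] at he he'
    refine Subtype.ext (Equiv.ext fun z => ?_)
    by_cases hz : σ.SameCycle x z
    · obtain ⟨i, -, rfl⟩ := hz.exists_pow_eq'
      clear hz
      induction i with
      | zero => simp [he, he']
      | succ i ih => rw [pow_succ', Perm.mul_apply, e.2, e'.2, ih]
    · exact congrArg Subtype.val (Equiv.congr_fun (congrArg Subtype.val h) ⟨z, hz⟩)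
  · -- glue a bijection of the two cycles
    have hex : ∀ z, σ.SameCycle x z → ∃ i : ℕ, (σ ^ i) x = z := fun z hz =>
      let ⟨i, _, h⟩ := hz.exists_pow_eq'; ⟨i, h⟩
    have hperiod : ∀ (γ : Type u) [Fintype γ] [DecidableEq γ] (ρ : Perm γ) (z : γ) (i : ℕ),
        (ρ ^ i) z = z ↔ cyc ρ z ∣ i := by
      intro γ _ _ ρ z i
      have hc : cyc ρ z = Function.minimalPeriod ρ z := by
        have hpp : z ∈ Function.periodicPts ρ :=
          ⟨orderOf ρ, orderOf_pos ρ, by
            show (⇑ρ)^[orderOf ρ] z = z
            rw [← Perm.coe_pow, pow_orderOf_eq_one]; rfl⟩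
        unfold cyc
        rw [← Finset.card_range (Function.minimalPeriod ρ z)]
        refine (card_bij (fun t _ => (ρ ^ t) z) (fun t _ => by simp [Perm.SameCycle.refl]) ?_ ?_).symm
        · intro s hs t ht h
          rw [Perm.coe_pow, Perm.coe_pow] at h
          exact Function.iterate_injOn_Iio_minimalPeriod (mem_range.1 hs) (mem_range.1 ht) h
        · intro w hw
          simp only [mem_filter, mem_univ, true_and] at hw
          obtain ⟨t, -, rfl⟩ := hw.exists_pow_eq'
          refine ⟨t % Function.minimalPeriod ρ z,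
            mem_range.2 (Nat.mod_lt _ (Function.minimalPeriod_pos_of_mem_periodicPts hpp)), ?_⟩
          rw [Perm.coe_pow, Perm.coe_pow, Function.iterate_mod_minimalPeriod_eq]
      rw [hc, ← Function.isPeriodicPt_iff_minimalPeriod_dvd]
      exact Iff.of_eq (by rw [Function.IsPeriodicPt, Function.IsFixedPt, Perm.coe_pow])
    let F : α → β := fun z => if hz : σ.SameCycle x z then (τ ^ (hex z hz).choose) y else (d.1 ⟨z, hz⟩).1
    have hF1 : ∀ i : ℕ, F ((σ ^ i) x) = (τ ^ i) y := by
      intro i
      have hz : σ.SameCycle x ((σ ^ i) x) := ⟨(i : ℤ), by rw [zpow_natCast]⟩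
      simp only [F, dif_pos hz]
      have hj := (hex _ hz).choose_spec
      set j := (hex _ hz).choose
      rcases le_total i j with hle | hle
      · obtain ⟨t, ht⟩ := Nat.exists_eq_add_of_le hle
        rw [ht] at hj ⊢
        rw [pow_add, Perm.mul_apply] at hj ⊢
        rw [(hperiod β τ y t).2 (hy ▸ (hperiod α σ x t).1 ((σ ^ i).injective hj))]
      · obtain ⟨t, ht⟩ := Nat.exists_eq_add_of_le hle
        rw [ht] at hj ⊢
        rw [pow_add, Perm.mul_apply] at hj ⊢
        rw [(hperiod β τ y t).2 (hy ▸ (hperiod α σ x t).1 ((σ ^ j).injective hj).symm)]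
    have hFcyc : ∀ z, σ.SameCycle x z → τ.SameCycle y (F z) := fun z hz => by
      obtain ⟨i, rfl⟩ := hex z hz
      exact ⟨(i : ℤ), by rw [zpow_natCast, hF1]⟩
    have hFoff : ∀ z (hz : ¬ σ.SameCycle x z), F z = (d.1 ⟨z, hz⟩).1 := fun z hz => dif_neg hz
    have hinj : Function.Injective F := by
      intro u v huv
      by_cases hu : σ.SameCycle x u <;> by_cases hv : σ.SameCycle x v
      · obtain ⟨i, rfl⟩ := hex u hu
        obtain ⟨j, rfl⟩ := hex v hv
        rw [hF1, hF1] at huv
        rcases le_total i j with hle | hle <;> obtain ⟨t, rfl⟩ := Nat.exists_eq_add_of_le hle <;>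
          rw [pow_add, Perm.mul_apply] at huv ⊢
        · rw [(hperiod α σ x t).2 (hy ▸ (hperiod β τ y t).1 ((τ ^ i).injective huv).symm)]
        · rw [(hperiod α σ x t).2 (hy ▸ (hperiod β τ y t).1 ((τ ^ j).injective huv))]
      · exact absurd (huv ▸ hFcyc u hu) (by rw [hFoff v hv]; exact (d.1 ⟨v, hv⟩).2)
      · exact absurd (huv.symm ▸ hFcyc v hv) (by rw [hFoff u hu]; exact (d.1 ⟨u, hu⟩).2)
      · rw [hFoff u hu, hFoff v hv] at huv
        exact congrArg Subtype.val (d.1.injective (Subtype.ext huv))
    have hcard : Fintype.card α = Fintype.card β := by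
      rw [← card_off σ x, ← card_off τ y, Fintype.card_congr d.1, hy]
    let E : α ≃ β := Equiv.ofBijective F ((Fintype.bijective_iff_injective_and_card F).2 ⟨hinj, hcard⟩)
    have hE : ∀ z, E (σ z) = τ (E z) := by
      intro z
      show F (σ z) = τ (F z)
      by_cases hz : σ.SameCycle x z
      · obtain ⟨i, rfl⟩ := hex z hz
        rw [← Perm.mul_apply, ← pow_succ', hF1, hF1, pow_succ', Perm.mul_apply]
      · rw [hFoff z hz, hFoff (σ z) (mt Perm.sameCycle_apply_right.1 hz)]
        exact congrArg Subtype.val (d.2 ⟨z, hz⟩)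
    refine ⟨⟨E, hE⟩, by simpa [E] using hF1 0, ?_⟩
    exact Subtype.ext (Equiv.ext fun z => Subtype.ext (hFoff z.1 z.2))

/-- Orthogonality of the colouring functions. -/
theorem pair_val {α β : Type u} [Fintype α] [DecidableEq α] [Fintype β] [DecidableEq β]
    (σ : Perm α) (τ : Perm β) (hN : 2 * Fintype.card α + Fintype.card β ≤ N) :
    pair (val N σ) (val N τ) = (nint σ τ : ℂ) * pair (delta N) (delta N) := by
  classical
  revert β
  refine perm_induction (P := fun α' _ _ σ' => ∀ {β : Type u} [Fintype β] [DecidableEq β] (τ : Perm β),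
      2 * Fintype.card α' + Fintype.card β ≤ N →
      pair (val N σ') (val N τ) = (nint σ' τ : ℂ) * pair (delta N) (delta N))
    (fun α' _ _ _ σ' β _ _ τ hN => ?_) (fun α' _ _ σ' x ih β _ _ τ hN => ?_) α σ
  · rw [val_of_isEmpty σ']
    rcases isEmpty_or_nonempty β with h | h
    · rw [val_of_isEmpty τ]
      have : nint σ' τ = 1 := by
        haveI : Unique {e : α' ≃ β // ∀ x, e (σ' x) = τ (e x)} :=
          { default := ⟨Equiv.equivOfIsEmpty _ _, fun x => isEmptyElim x⟩
            uniq := fun e => Subtype.ext (Equiv.ext fun x => isEmptyElim x) }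
        exact Nat.card_unique
      simp [this]
    · have : nint σ' τ = 0 := by
        haveI : IsEmpty {e : α' ≃ β // ∀ x, e (σ' x) = τ (e x)} :=
          ⟨fun e => isEmptyElim (e.1.symm (Classical.arbitrary β))⟩
        exact Nat.card_of_isEmpty
      rw [this, Nat.cast_zero, zero_mul]
      refine finsum_eq_zero_of_forall_eq_zero fun a => ?_
      by_contra hne
      obtain ⟨-, -, h1⟩ := supp_delta a (left_ne_zero_of_mul hne)
      obtain ⟨-, -, h2⟩ := supp_val τ a (right_ne_zero_of_mul hne)
      have := Fintype.card_pos (α := β)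
      omega
  · have hc := card_off σ' x
    have hcp := cyc_pos σ' x
    rw [val_split σ' x, pair_up (Int.natCast_nonneg _) (supp_val _), down_val hcp τ (by omega)]
    unfold pair
    simp only [Finset.sum_apply, mul_sum]
    rw [finsum_sum_comm _ _ (fun y _ => (supp_val (off σ' x)).finite.subset
      fun a ha => left_ne_zero_of_mul ha), nint_eq_sum σ' τ x, Nat.cast_sum, sum_mul]
    refine sum_congr rfl fun y hy => ?_
    have := card_off τ y
    exact ih (off τ y) (by omega)

end CfsgLib.SymBeta
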