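import Cfsg.Agent.Lib.Char.SymBeta.Runner

/-!
# Cores, weights and the number of tuples packed on one runner
-/

set_option autoImplicit false

namespace CfsgLib.SymBeta

open Finset Equiv

variable {N : ℕ} {p : ℕ}

theorem exists_rmajor (p : ℕ) {a : Fin N → ℤ} (hinj : Function.Injective a) :
    ∃ π : Perm (Fin N), RMajor p (a ∘ π) := by
  let key : Fin N → Lex (ℤ × ℤ) := fun l => toLex (a l % p, a l)
  have hk : Function.Injective key := fun u v h => hinj (congrArg Prod.snd (toLex.injective h))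
  refine ⟨Tuple.sort key, fun i j hij => ?_⟩
  exact Prod.Lex.toLex_lt_toLex.1
    ((Tuple.monotone_sort key).strictMono_of_injective (hk.comp (Tuple.sort key).injective) hij)

theorem exists_strictMono {a : Fin N → ℤ} (hinj : Function.Injective a) :
    ∃ π : Perm (Fin N), StrictMono (a ∘ π) :=
  ⟨Tuple.sort a, (Tuple.monotone_sort a).strictMono_of_injective (hinj.comp (Tuple.sort a).injective)⟩

theorem Packed.comp {a : Fin N → ℤ} (h : Packed p a) (π : Perm (Fin N)) : Packed p (a ∘ π) := fun i hi =>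
  let ⟨l, hl⟩ := h (π i) hi
  ⟨π.symm l, by simpa using hl⟩

theorem sum_eq_of_range_eq {a b : Fin N → ℤ} (ha : Function.Injective a) (hb : Function.Injective b)
    (h : Set.range a = Set.range b) : ∑ i, a i = ∑ i, b i := by
  classical
  have h' : univ.image a = univ.image b := Finset.coe_injective (by simpa using h)
  rw [← sum_image (f := fun x : ℤ => x) (fun x _ y _ e => ha e), h', sum_image fun x _ y _ e => hb e]

/-- The data of a core tuple. -/
structure IsCore (p : ℕ) (c : Fin N → ℤ) : Prop where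
  pos : 0 < p
  inj : Function.Injective c
  nonneg : ∀ i, 0 ≤ c i
  packed : Packed p c

theorem exists_core (hp : 0 < p) {a : Fin N → ℤ} (hinj : Function.Injective a) (hnn : ∀ i, 0 ≤ a i) :
    ∃ (c : Fin N → ℤ) (w : ℕ), IsCore p c ∧ cts p a = cts p c ∧ ∑ i, a i = ∑ i, c i + p * w := by
  obtain ⟨π, hπ⟩ := exists_rmajor p hinj
  obtain ⟨c, w, h1, h2, h3, h4, h5, -⟩ := exists_packed hp hπ fun i => hnn _
  refine ⟨c, w, ⟨hp, h1.injective, h2, h3⟩, ?_, by rw [← h5, sum_comp_perm]⟩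
  rw [h4]
  exact funext fun r => (cts_comp p a π r).symm

theorem IsCore.sum_eq {c c' : Fin N → ℤ} (hc : IsCore p c) (hc' : IsCore p c') (h : cts p c = cts p c') :
    ∑ i, c i = ∑ i, c' i :=
  sum_eq_of_range_eq hc.inj hc'.inj
    (Packed.range_eq hc.pos hc.packed hc'.packed hc.inj hc'.inj hc.nonneg hc'.nonneg h)

theorem IsCore.exists_weight {c a : Fin N → ℤ} (hc : IsCore p c) (hinj : Function.Injective a)
    (hnn : ∀ i, 0 ≤ a i) (h : cts p a = cts p c) : ∃ w : ℕ, ∑ i, a i = ∑ i, c i + p * w := by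
  obtain ⟨c', w, h1, h2, h3⟩ := exists_core hc.pos hinj hnn
  exact ⟨w, by rw [h3, IsCore.sum_eq h1 hc (h2.symm.trans h)]⟩

theorem cts_sub_single_mul (a : Fin N → ℤ) (i : Fin N) (j : ℤ) :
    cts p (a - Pi.single i (j * p)) = cts p a := by
  funext r
  refine congrArg card (filter_congr fun l _ => ?_)
  rcases eq_or_ne l i with rfl | h <;> simp [*]

theorem injective_sub_single {a : Fin N → ℤ} (hinj : Function.Injective a) {i : Fin N} {k : ℤ}
    (h : ∀ l, l ≠ i → a l ≠ a i - k) : Function.Injective (a - Pi.single i k : Fin N → ℤ) := by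
  intro u v huv
  simp only [Pi.sub_apply] at huv
  rcases eq_or_ne u i with rfl | hu <;> rcases eq_or_ne v u with rfl | hv
  · rfl
  · rw [Pi.single_eq_same, Pi.single_eq_of_ne hv, sub_zero] at huv
    exact absurd huv.symm (h v hv)
  · rfl
  · rcases eq_or_ne v i with rfl | hv'
    · rw [Pi.single_eq_same, Pi.single_eq_of_ne hu, sub_zero] at huv
      exact absurd huv (h u hu)
    · rw [Pi.single_eq_of_ne hu, Pi.single_eq_of_ne hv'] at huv; exact hinj (by omega)

theorem IsCore.range_eq_of_sum_eq {c a : Fin N → ℤ} (hc : IsCore p c) (hinj : Function.Injective a)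
    (hnn : ∀ i, 0 ≤ a i) (h : cts p a = cts p c) (hs : ∑ i, a i = ∑ i, c i) :
    Set.range a = Set.range c := by
  refine Packed.range_eq hc.pos (fun i hi => ?_) hc.packed hinj hc.inj hnn hc.nonneg h
  by_contra hne
  push Not at hne
  obtain ⟨w, hw⟩ := hc.exists_weight (injective_sub_single hinj fun l _ => hne l)
    (fun l => by rcases eq_or_ne l i with rfl | h' <;> simp [*]) ((cts_sub_single p a i).trans h)
  simp [sum_sub_distrib] at hw
  have : (0 : ℤ) ≤ p * w := by positivity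
  have := hc.pos
  omega

/-- Packed on the runner of zero. -/
def Pk (p : ℕ) (a : Fin N → ℤ) : Prop :=
  ∀ i, (p : ℤ) ∣ a i → (p : ℤ) ≤ a i → ∃ l, a l = a i - p

theorem Pk.comp {a : Fin N → ℤ} (h : Pk p a) (π : Perm (Fin N)) : Pk p (a ∘ π) := fun i hi hi' =>
  let ⟨l, hl⟩ := h (π i) hi hi'
  ⟨π.symm l, by simpa using hl⟩

/-- Sorted tuples with the residues of `c` and weight `w`, packed on the runner of zero. -/
noncomputable def T (p : ℕ) (c : Fin N → ℤ) (w : ℕ) : Finset (Fin N → ℤ) := by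
  classical
  exact (Idx N ((∑ i, c i + p * w - base N).toNat)).filter
    fun a => cts p a = cts p c ∧ Pk p a ∧ ∑ i, a i = ∑ i, c i + p * w

theorem base_le {a : Fin N → ℤ} (hinj : Function.Injective a) (hnn : ∀ i, 0 ≤ a i) :
    base N ≤ ∑ i, a i := by
  obtain ⟨c, w, hc, -, hs⟩ := exists_core (p := 1) one_pos hinj hnn
  have hid : IsCore 1 (fun i : Fin N => (i : ℤ)) := ⟨one_pos, fun i j h => Fin.ext (by exact_mod_cast h),
    fun i => Int.natCast_nonneg _, fun i hi => by
      simp only [Nat.cast_one] at hi ⊢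
      exact ⟨⟨i.1 - 1, by omega⟩, by simp; omega⟩⟩
  have := IsCore.sum_eq hc hid (by funext r; simp [cts])
  have hb : base N = ∑ i : Fin N, (i : ℤ) := rfl
  push_cast at hs
  omega

theorem mem_T {c : Fin N → ℤ} {w : ℕ} {a : Fin N → ℤ} :
    a ∈ T p c w ↔ StrictMono a ∧ (∀ i, 0 ≤ a i) ∧ cts p a = cts p c ∧ Pk p a ∧
      ∑ i, a i = ∑ i, c i + p * w := by
  simp only [T, mem_filter, mem_Idx]
  refine ⟨fun h => ⟨h.1.1, h.1.2.1, h.2.1, h.2.2.1, h.2.2.2⟩, fun h => ⟨⟨h.1, h.2.1, ?_⟩, h.2.2⟩⟩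
  have := base_le h.1.injective h.2.1
  rw [← h.2.2.2.2, Int.toNat_of_nonneg (by omega)]
  ring

/-- `v` is the top of the initial segment of its runner. -/
def Top (p : ℕ) (S : Set ℤ) (v : ℤ) : Prop :=
  v ∈ S ∧ v + p ∉ S ∧ ∀ t : ℕ, 0 ≤ v - t * p → v - t * p ∈ S

theorem Top.le {S : Set ℤ} {v v' : ℤ} (hv : Top p S v) (hv' : Top p S v') (hv0 : 0 ≤ v)
    (hmod : v % p = v' % p) : v' ≤ v := by
  by_contra hlt
  push Not at hlt
  obtain ⟨q, hq⟩ : (p : ℤ) ∣ v' - v :=
    Int.dvd_of_emod_eq_zero (Int.emod_eq_emod_iff_emod_sub_eq_zero.1 hmod.symm)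
  have hq1 : 1 ≤ q := by
    by_contra h
    have : (p : ℤ) * q ≤ 0 := mul_nonpos_of_nonneg_of_nonpos (Int.natCast_nonneg _) (by omega)
    omega
  obtain ⟨t, rfl⟩ : ∃ t : ℕ, q = t + 1 := ⟨(q - 1).toNat, by omega⟩
  have he : v' - t * p = v + p := by linarith [mul_comm (p : ℤ) t, mul_add (p : ℤ) t 1]
  exact hv.2.1 (he ▸ hv'.2.2 t (by omega))

/-- The lowest displaced entry of a runner slides down onto the initial segment. -/
theorem exists_slide_at (hp : 0 < p) {a : Fin N → ℤ} (hinj : Function.Injective a) (hnn : ∀ i, 0 ≤ a i)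
    {i₀ : Fin N} (hi₀p : (p : ℤ) ≤ a i₀) (hi₀m : ∀ m, a m ≠ a i₀ - p) :
    ∃ (i : Fin N) (j : ℕ), 1 ≤ j ∧ a i % p = a i₀ % p ∧
      (∀ t : ℕ, 1 ≤ t → t ≤ j → t * (p : ℤ) ≤ a i ∧ ∀ l, a l ≠ a i - t * p) ∧
      Top p (Set.range (a - Pi.single i (j * (p : ℤ)) : Fin N → ℤ)) (a i - j * p) := by
  classical
  set S := univ.filter fun i => (p : ℤ) ≤ a i ∧ ∀ l, a l ≠ a i - p
  have hi₀ : i₀ ∈ S := by simp only [S, mem_filter, mem_univ, true_and]; exact ⟨hi₀p, hi₀m⟩
  obtain ⟨i, hi, hmin⟩ := exists_min_image (S.filter fun l => a l % p = a i₀ % p) a ⟨i₀, by simp [hi₀]⟩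
  simp only [S, mem_filter, mem_univ, true_and] at hi hmin
  have hdown : ∀ (t : ℕ) (l : Fin N), a l < a i → a l % p = a i % p → 0 ≤ a l - t * p →
      ∃ m, a m = a l - t * p := by
    intro t
    induction t with
    | zero => exact fun l _ _ _ => ⟨l, by simp⟩
    | succ t ih =>
      intro l hl hmod h0
      have hpl : (p : ℤ) ≤ a l := by
        push_cast at h0
        have : (0 : ℤ) ≤ t * p := by positivity
        rw [add_mul] at h0
        omega
      obtain ⟨m, hm⟩ : ∃ m, a m = a l - p := by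
        by_contra hne
        push Not at hne
        have := hmin l ⟨⟨hpl, hne⟩, hmod.trans hi.2⟩
        omega
      obtain ⟨m', hm'⟩ := ih m (by omega) (by rw [hm, Int.sub_emod_right, hmod])
        (by push_cast at h0; rw [hm]; linarith)
      exact ⟨m', by rw [hm', hm]; push_cast; ring⟩
  have hex : ∃ j : ℕ, 1 ≤ j ∧ (a i < (j + 1) * p ∨ ∃ l, a l = a i - (j + 1) * p) :=
    ⟨(a i).toNat + 1, by omega, Or.inl (by
      have h1 : (1 : ℤ) ≤ p := by exact_mod_cast hp
      push_cast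
      nlinarith [hnn i, Int.toNat_of_nonneg (hnn i)])⟩
  obtain ⟨j, ⟨hj1, hj2⟩, hjmin⟩ : ∃ j : ℕ, (1 ≤ j ∧ (a i < (j + 1) * p ∨ ∃ l, a l = a i - (j + 1) * p)) ∧
      ∀ m < j, ¬ (1 ≤ m ∧ (a i < (m + 1) * p ∨ ∃ l, a l = a i - (m + 1) * p)) :=
    ⟨Nat.find hex, Nat.find_spec hex, fun m => Nat.find_min hex⟩
  clear hex
  have habs : ∀ t : ℕ, 1 ≤ t → t ≤ j → t * (p : ℤ) ≤ a i ∧ ∀ l, a l ≠ a i - t * p := by
    intro t
    induction t with
    | zero => omega
    | succ t ih =>
      intro _ ht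
      rcases Nat.eq_zero_or_pos t with rfl | ht0
      · simpa using hi.1
      have := hjmin t (by omega)
      push Not at this
      push_cast
      exact this ht0
  refine ⟨i, j, hj1, hi.2, habs, ?_, ?_, ?_⟩
  · exact ⟨i, by simp⟩
  · rintro ⟨l, hl⟩
    rcases eq_or_ne l i with rfl | hli
    · simp at hl; omega
    rw [Pi.sub_apply, Pi.single_eq_of_ne hli, sub_zero] at hl
    rcases Nat.eq_or_lt_of_le hj1 with h | h
    · rw [← h] at hl
      exact hli (hinj (by simpa using hl))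
    · obtain ⟨k, hk⟩ : ∃ k, j = k + 1 := ⟨j - 1, by omega⟩
      refine (habs k (by omega) (by omega)).2 l ?_
      rw [hl, hk]
      push_cast
      ring
  · intro t ht
    rcases Nat.eq_zero_or_pos t with rfl | ht0
    · exact ⟨i, by simp⟩
    obtain ⟨k, rfl⟩ : ∃ k, t = k + 1 := ⟨t - 1, by omega⟩
    push_cast at ht ⊢
    rcases hj2 with hlt | ⟨l, hl⟩
    · have : (0 : ℤ) ≤ k * p := by positivity
      simp only [add_mul, one_mul] at ht hlt
      omega
    · simp only [add_mul, one_mul] at hl ht ⊢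
      have hj0 : (0 : ℤ) ≤ j * p := by positivity
      obtain ⟨m, hm⟩ := hdown k l (by omega)
        (by rw [hl, show a i - ((j : ℤ) * p + p) = a i + (-(j : ℤ) - 1) * p by ring, Int.add_mul_emod_self_right])
        (by rw [hl]; linarith)
      have hmi : m ≠ i := fun e => by
        have : (0 : ℤ) ≤ k * p := by positivity
        rw [e] at hm
        omega
      refine ⟨m, ?_⟩
      simp [hmi, hm, hl]
      ring

/-- Some runner slides when the tuple is not packed. -/
theorem exists_slide (hp : 0 < p) {a : Fin N → ℤ} (hinj : Function.Injective a) (hnn : ∀ i, 0 ≤ a i)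
    (hP : ¬ Packed p a) : ∃ (i : Fin N) (j : ℕ), 1 ≤ j ∧ j * (p : ℤ) ≤ a i ∧
      (∀ l, l ≠ i → a l ≠ a i - j * p) ∧
      Top p (Set.range (a - Pi.single i (j * (p : ℤ)) : Fin N → ℤ)) (a i - j * p) ∧
      ∃ l, a l = a i ∧ (p : ℤ) ≤ a l ∧ ∀ m, a m ≠ a l - p := by
  simp only [Packed, not_forall, not_exists] at hP
  obtain ⟨i₀, h1, h2⟩ := hP
  obtain ⟨i, j, hj, -, habs, htop⟩ := exists_slide_at hp hinj hnn h1 h2
  refine ⟨i, j, hj, (habs j hj le_rfl).1, fun l _ => (habs j hj le_rfl).2 l, htop, i, rfl,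
    by simpa using (habs 1 le_rfl hj).1, fun m => by simpa using (habs 1 le_rfl hj).2 m⟩

theorem sum_geom_le (p : ℕ) (hp : 1 ≤ p) (w : ℕ) : (p - 1) * ∑ i ∈ range w, p ^ i + 1 = p ^ w := by
  induction w with
  | zero => simp
  | succ w ih =>
    rw [sum_range_succ, mul_add, add_right_comm, ih, pow_succ, Nat.sub_mul, one_mul, mul_comm (p ^ w) p]
    have : p ^ w ≤ p * p ^ w := Nat.le_mul_of_pos_left _ hp
    omega

/-- The recursion for tuples packed on one runner. -/
theorem card_T_rec {c : Fin N → ℤ} (hc : IsCore p c) {w : ℕ} (hw : 0 < w) :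
    (T p c w).card ≤ (p - 1) * ∑ i ∈ range w, (T p c i).card := by
  classical
  set U := (Finset.Ioo (0 : ℤ) p) ×ˢ ((range w).sigma fun i => T p c i)
  have hmap : ∀ a ∈ T p c w, ∃ q : ℤ × (_ : ℕ) × (Fin N → ℤ), q ∈ U ∧ ∃ v : ℤ,
      Top p (Set.range q.2.2) v ∧ 0 ≤ v ∧ v % p = q.1 ∧
      Set.range a = insert (v + ((w - q.2.1 : ℕ) : ℤ) * p) (Set.range q.2.2 \ {v}) := by
    intro a ha
    obtain ⟨ha1, ha2, ha3, ha4, ha5⟩ := mem_T.1 ha
    have hP : ¬ Packed p a := fun h => by
      have h' := Packed.range_eq hc.pos h hc.packed ha1.injective hc.inj ha2 hc.nonneg ha3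
      rw [sum_eq_of_range_eq ha1.injective hc.inj h', left_eq_add, mul_eq_zero] at ha5
      have := hc.pos
      omega
    obtain ⟨i, j, hj1, hj2, hj3, hj4, l, hl, hl1, hl2⟩ := exists_slide hc.pos ha1.injective ha2 hP
    have hndvd : ¬ (p : ℤ) ∣ a i := fun hd => by
      obtain ⟨m, hm⟩ := ha4 l (hl ▸ hd) hl1
      exact hl2 m hm
    set b : Fin N → ℤ := a - Pi.single i (j * (p : ℤ)) with hb
    have hbinj : Function.Injective b := injective_sub_single ha1.injective hj3
    have hbnn : ∀ l, 0 ≤ b l := fun l => by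
      rcases eq_or_ne l i with rfl | h' <;> simp [hb, *]
    have hbc : cts p b = cts p c := (cts_sub_single_mul a i j).trans ha3
    have hbs : ∑ l, b l = ∑ l, c l + p * w - j * p := by
      simp [hb, sum_sub_distrib, ha5]
    obtain ⟨w', hw'⟩ := hc.exists_weight hbinj hbnn hbc
    have hww : w = w' + j := by
      have h' : (p : ℤ) * w = p * ((w' + j : ℕ) : ℤ) := by push_cast; linarith
      exact_mod_cast mul_left_cancel₀ (show (p : ℤ) ≠ 0 by have := hc.pos; omega) h'
    obtain ⟨π, hπ⟩ := exists_strictMono hbinj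
    have hbpk : Pk p b := by
      intro u hu hu'
      have hui : u ≠ i := fun e => by
        rw [e] at hu
        simp [hb] at hu
        exact hndvd (by simpa using dvd_add hu (Dvd.intro_left (j : ℤ) rfl : (p : ℤ) ∣ j * p))
      simp [hb, hui] at hu hu' ⊢
      obtain ⟨m, hm⟩ := ha4 u hu hu'
      have hmi : m ≠ i := fun e => by
        rw [e] at hm
        exact hndvd (hm ▸ dvd_sub hu (dvd_refl _))
      exact ⟨m, by simp [hmi, hm]⟩
    have hrange : Set.range (b ∘ π) = Set.range b := π.surjective.range_comp b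
    refine ⟨⟨a i % p, w', b ∘ π⟩, ?_, a i - j * p, ?_, by omega, ?_, ?_⟩
    · simp only [U, mem_product, mem_sigma, Finset.mem_Ioo, mem_range]
      refine ⟨⟨?_, Int.emod_lt_of_pos _ (by have := hc.pos; omega)⟩, by omega,
        mem_T.2 ⟨hπ, fun l => hbnn _, ?_, hbpk.comp π, by rw [sum_comp_perm, hw']⟩⟩
      · exact lt_of_le_of_ne (Int.emod_nonneg _ (by have := hc.pos; omega))
          fun e => hndvd (Int.dvd_of_emod_eq_zero e.symm)
      · rw [← hbc]
        exact funext fun r => cts_comp p b π r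
    · rw [hrange]; exact hj4
    · simp
    · rw [hrange]
      show _ = insert (a i - j * p + ((w - w' : ℕ) : ℤ) * p) _
      rw [show w - w' = j by omega, sub_add_cancel]
      ext x
      simp only [Set.mem_range, Set.mem_insert_iff, Set.mem_diff, Set.mem_singleton_iff]
      constructor
      · rintro ⟨m, rfl⟩
        rcases eq_or_ne m i with rfl | hm
        · exact Or.inl rfl
        · exact Or.inr ⟨⟨m, by simp [hb, hm]⟩, hj3 m hm⟩
      · rintro (rfl | ⟨⟨m, rfl⟩, hm⟩)
        · exact ⟨i, rfl⟩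
        · rcases eq_or_ne m i with rfl | hm'
          · simp [hb] at hm
          · exact ⟨m, by simp [hb, hm']⟩
  choose! f hfU v hv1 hv2 hv3 hv4 using hmap
  refine (card_le_card_of_injOn f (fun a ha => hfU a ha) fun a ha b hb h => ?_).trans ?_
  · simp only [mem_coe] at ha hb
    have hva := hv1 a ha
    have hvb := hv1 b hb
    have hma := hv3 a ha
    have hmb := hv3 b hb
    rw [h] at hva hma
    have hvv : v a = v b := le_antisymm (hvb.le hva (hv2 b hb) (hmb.trans hma.symm))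
      (hva.le hvb (hv2 a ha) (hma.trans hmb.symm))
    refine ((mem_T.1 ha).1.range_inj (mem_T.1 hb).1).1 ?_
    rw [hv4 a ha, hv4 b hb, h, hvv]
  · rw [card_product, card_sigma, Int.card_Ioo]
    exact Nat.mul_le_mul (by omega) le_rfl

theorem card_T_zero {c : Fin N → ℤ} (hc : IsCore p c) : (T p c 0).card ≤ 1 := by
  rw [card_le_one]
  intro a ha b hb
  obtain ⟨ha1, ha2, ha3, -, ha5⟩ := mem_T.1 ha
  obtain ⟨hb1, hb2, hb3, -, hb5⟩ := mem_T.1 hb
  exact (ha1.range_inj hb1).1 ((hc.range_eq_of_sum_eq ha1.injective ha2 ha3 (by simpa using ha5)).trans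
    (hc.range_eq_of_sum_eq hb1.injective hb2 hb3 (by simpa using hb5)).symm)

theorem card_T_sharp {c : Fin N → ℤ} (hc : IsCore p c) (m : ℕ) :
    (T p c (m + 1)).card + p ^ m ≤ p * p ^ m := by
  have hpm : p ^ m ≤ p * p ^ m := Nat.le_mul_of_pos_left _ hc.pos
  suffices H : (T p c (m + 1)).card ≤ (p - 1) * p ^ m by
    rw [Nat.sub_mul, one_mul] at H
    omega
  induction m using Nat.strong_induction_on with
  | _ m ih =>
    refine (card_T_rec hc (Nat.succ_pos m)).trans (Nat.mul_le_mul_left _ ?_)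
    rw [sum_range_succ' (fun i => (T p c i).card), ← sum_geom_le p hc.pos m, mul_sum]
    exact add_le_add (sum_le_sum fun i hi => ih i (mem_range.1 hi) (Nat.le_mul_of_pos_left _ hc.pos))
      (card_T_zero hc)

/-- Fewer than `p ^ w` tuples are packed on one runner. -/
theorem card_T {c : Fin N → ℤ} (hc : IsCore p c) (w : ℕ) :
    (T p c w).card ≤ p ^ w ∧ (0 < w → (T p c w).card < p ^ w) := by
  rcases w with _ | m
  · exact ⟨by simpa using card_T_zero hc, fun h => absurd h (lt_irrefl 0)⟩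
  · have h := card_T_sharp hc m
    have h' : 0 < p ^ m := pow_pos hc.pos m
    rw [pow_succ']
    exact ⟨by omega, fun _ => by omega⟩

end CfsgLib.SymBeta
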