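import Cfsg.Agent.Lib.Char.SymBeta.Class
import Mathlib.GroupTheory.Perm.Fin

/-!
# Mirrored complements and the sign twist
-/

set_option autoImplicit false

namespace CfsgLib.SymBeta

open Finset Equiv

universe u

variable {N : ℕ}

/-- The increasing enumeration of a set. -/
noncomputable def srt (N : ℕ) (S : Finset ℤ) : Fin N → ℤ :=
  if h : S.card = N then S.orderEmbOfFin h else 0

theorem srt_strictMono {S : Finset ℤ} (h : S.card = N) : StrictMono (srt N S) := by
  rw [srt, dif_pos h]; exact OrderEmbedding.strictMono _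

theorem image_srt {S : Finset ℤ} (h : S.card = N) : univ.image (srt N S) = S := by
  rw [srt, dif_pos h]; exact image_orderEmbOfFin_univ S h

theorem srt_eq {a : Fin N → ℤ} (ha : StrictMono a) : srt N (univ.image a) = a := by
  have h : (univ.image a).card = N := by rw [card_image_of_injective _ ha.injective, card_univ, Fintype.card_fin]
  rw [srt, dif_pos h]
  exact (orderEmbOfFin_unique h (fun x => mem_image_of_mem a (mem_univ x)) ha).symm

theorem sum_image_eq {a : Fin N → ℤ} (ha : Function.Injective a) : ∑ v ∈ univ.image a, v = ∑ i, a i :=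
  sum_image fun _ _ _ _ e => ha e

theorem lt_card_filter_iff {a : Fin N → ℤ} (ha : StrictMono a) (v : ℤ) (l : Fin N) :
    (l : ℕ) < (univ.filter fun m => a m < v).card ↔ a l < v := by
  constructor
  · intro h
    by_contra hle
    push Not at hle
    have : (univ.filter fun m => a m < v) ⊆ Finset.Iio l := fun m hm => by
      simp only [mem_filter, mem_univ, true_and] at hm
      exact mem_Iio.2 (ha.lt_iff_lt.1 (hm.trans_le hle))
    have := card_le_card this
    rw [Fin.card_Iio] at this
    omega
  · intro h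
    have : Finset.Iic l ⊆ univ.filter fun m => a m < v := fun m hm => by
      simp only [mem_filter, mem_univ, true_and]
      exact (ha.monotone (mem_Iic.1 hm)).trans_lt h
    have := card_le_card this
    rw [Fin.card_Iic] at this
    omega

/-- Sorting a tuple with one entry lowered. -/
theorem apply_sub_single {F : (Fin N → ℤ) → ℂ} (hF : Anti F) {a : Fin N → ℤ} (ha : StrictMono a)
    (i : Fin N) {k : ℕ} (hk : 0 < k) (h : ∀ l, a l ≠ a i - k) :
    F (a - Pi.single i (k : ℤ)) =
      (-1) ^ ((univ.image a).filter fun u => a i - k < u ∧ u < a i).card *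
        F (srt N (insert (a i - k) ((univ.image a).erase (a i)))) := by
  haveI : NeZero N := ⟨by have := i.2; omega⟩
  set m := (univ.filter fun l => a l < a i - k).card with hm
  have hmle : m ≤ (i : ℕ) := by
    by_contra hlt
    push Not at hlt
    have := (lt_card_filter_iff ha (a i - k) i).1 hlt
    omega
  set i0 : Fin N := ⟨m, by omega⟩
  have hii : i0 ≤ i := hmle
  set π := Fin.cycleIcc i0 i
  have hval : ∀ u : Fin N, ((π u : Fin N) : ℕ) =
      if (u : ℕ) < m ∨ (i : ℕ) < u then (u : ℕ) else if (u : ℕ) = i then m else u + 1 := by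
    intro u
    by_cases h1 : (u : ℕ) < m
    · rw [if_pos (Or.inl h1)]
      exact congrArg Fin.val (Fin.cycleIcc_of_lt (show u < i0 from h1))
    by_cases h2 : (i : ℕ) < u
    · rw [if_pos (Or.inr h2)]
      exact congrArg Fin.val (Fin.cycleIcc_of_gt (show i < u from h2))
    rw [if_neg (by omega), Fin.cycleIcc_of_le_of_le (show i0 ≤ u by show m ≤ (u : ℕ); omega)
      (show u ≤ i by show (u : ℕ) ≤ i; omega)]
    by_cases h3 : u = i
    · simp [h3, i0]
    · have h3' : (u : ℕ) ≠ i := fun e => h3 (Fin.ext e)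
      have hui : (u : ℕ) < i := by omega
      rw [if_neg h3, if_neg h3', Fin.val_add_one_of_lt' (show u.1 + 1 < N by have := i.2; omega)]
  set b := a - Pi.single i (k : ℤ) with hb
  have hbi : b i = a i - k := by simp [hb]
  have hbne : ∀ l, l ≠ i → b l = a l := fun l hl => by simp [hb, hl]
  set s := b ∘ π.symm with hs
  have hsm : StrictMono s := by
    intro x y hxy
    obtain ⟨u, rfl⟩ := π.surjective x
    obtain ⟨v, rfl⟩ := π.surjective y
    simp only [hs, Function.comp, Equiv.symm_apply_apply]
    have hxy' : ((π u : Fin N) : ℕ) < ((π v : Fin N) : ℕ) := hxy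
    rw [hval, hval] at hxy'
    rcases eq_or_ne u i with rfl | hu <;> rcases eq_or_ne v u with rfl | hvu
    · omega
    · rw [hbi, hbne v hvu]
      have hv : (v : ℕ) ≠ u := fun e => hvu (Fin.ext e)
      have : ¬ a v < a u - k := fun h' => by
        have h'' := (lt_card_filter_iff ha _ v).2 h'
        rw [← hm] at h''
        split_ifs at hxy' <;> omega
      exact lt_of_le_of_ne (not_lt.1 this) (h v).symm
    · omega
    · rcases eq_or_ne v i with rfl | hv
      · rw [hbi, hbne u hu]
        refine (lt_card_filter_iff ha _ u).1 ?_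
        rw [← hm]
        have hu' : (u : ℕ) ≠ v := fun e => hu (Fin.ext e)
        split_ifs at hxy' <;> omega
      · rw [hbne u hu, hbne v hv]
        refine ha (show (u : ℕ) < v from ?_)
        have hu' : (u : ℕ) ≠ i := fun e => hu (Fin.ext e)
        have hv' : (v : ℕ) ≠ i := fun e => hv (Fin.ext e)
        split_ifs at hxy' <;> omega
  have himg : univ.image s = insert (a i - k) ((univ.image a).erase (a i)) := by
    ext v
    simp only [mem_image, mem_univ, true_and, mem_insert, mem_erase]
    constructor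
    · rintro ⟨x, rfl⟩
      rcases eq_or_ne (π.symm x) i with hx | hx
      · exact Or.inl (by simp [hs, hx, hbi])
      · exact Or.inr ⟨by simp [hs, hbne _ hx, ha.injective.ne hx],
          π.symm x, by simp [hs, hbne _ hx]⟩
    · rintro (rfl | ⟨hv, l, rfl⟩)
      · exact ⟨π i, by simp [hs, hbi]⟩
      · exact ⟨π l, by simp [hs, hbne l fun e => hv (by rw [e])]⟩
  have hcnt : ((univ.image a).filter fun u => a i - k < u ∧ u < a i).card = (i : ℕ) - m := by
    rw [filter_image, card_image_of_injective _ ha.injective,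
      show (i : ℕ) - m = (Finset.Ico i0 i).card by simp [i0]]
    refine congrArg card ?_
    ext l
    simp only [mem_filter, mem_univ, true_and, Finset.mem_Ico]
    constructor
    · rintro ⟨h1, h2⟩
      refine ⟨show m ≤ (l : ℕ) from ?_, ha.lt_iff_lt.1 h2⟩
      by_contra hlt
      push Not at hlt
      have := (lt_card_filter_iff ha _ l).1 hlt
      omega
    · rintro ⟨h1, h2⟩
      refine ⟨?_, ha h2⟩
      have h3 : ¬ a l < a i - k := fun h' => absurd ((lt_card_filter_iff ha _ l).2 h')
        (not_lt.2 (show m ≤ (l : ℕ) from h1))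
      exact lt_of_le_of_ne (not_lt.1 h3) (h l).symm
  rw [← himg, srt_eq hsm, hcnt]
  have hbs : b = s ∘ π := by funext x; simp [hs]
  rw [hbs, hF π s, show π = Fin.cycleIcc i0 i from rfl, Fin.sign_cycleIcc_of_le hii]
  simp [i0]

/-- Raising evaluated at a set. -/
theorem up_srt {d : ℤ} {F : (Fin N → ℤ) → ℂ} (hFs : Supp d F) (hF : Anti F) {S : Finset ℤ}
    (hS : S.card = N) {k : ℕ} (hk : 0 < k) :
    up (k : ℤ) F (srt N S) = ∑ x ∈ S.filter (fun x => (k : ℤ) ≤ x ∧ x - k ∉ S),
      (-1) ^ (S.filter fun u => x - k < u ∧ u < x).card * F (srt N (insert (x - k) (S.erase x))) := by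
  classical
  set a := srt N S with ha
  have hm : StrictMono a := srt_strictMono hS
  have himg : univ.image a = S := image_srt hS
  clear_value a
  subst himg
  rw [filter_image, sum_image fun _ _ _ _ e => hm.injective e, up]
  refine (sum_subset (subset_univ _) fun i _ hi => ?_).symm.trans (sum_congr rfl fun i hi => ?_)
  · by_contra hne
    obtain ⟨hinj, hnn, -⟩ := hFs _ hne
    refine hi (mem_filter.2 ⟨mem_univ i, ?_, ?_⟩)
    · simpa using hnn i
    · intro hmem
      obtain ⟨l, -, hl⟩ := mem_image.1 hmem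
      have hli : l ≠ i := fun e => by rw [e] at hl; omega
      exact hli (hinj (by simp [hli, hl]))
  · simp only [mem_filter, mem_univ, true_and] at hi
    exact apply_sub_single hF hm i hk fun l hl => hi.2 (mem_image.2 ⟨l, mem_univ l, hl⟩)

/-- The window. -/
noncomputable def win (N : ℕ) : Finset ℤ := Finset.Ico 0 (2 * (N : ℤ))

/-- The mirrored complement in the window. -/
noncomputable def dual (N : ℕ) (S : Finset ℤ) : Finset ℤ := (win N \ S).image fun v => 2 * (N : ℤ) - 1 - v

theorem mem_dual {S : Finset ℤ} {v : ℤ} :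
    v ∈ dual N S ↔ (0 ≤ v ∧ v < 2 * N) ∧ 2 * (N : ℤ) - 1 - v ∉ S := by
  simp only [dual, win, mem_image, mem_sdiff, Finset.mem_Ico]
  exact ⟨fun ⟨w, hw, e⟩ => e ▸ ⟨by omega, by simpa using hw.2⟩,
    fun h => ⟨2 * (N : ℤ) - 1 - v, ⟨by omega, h.2⟩, by ring⟩⟩

theorem dual_subset (S : Finset ℤ) : dual N S ⊆ win N := fun v hv => by
  have := (mem_dual.1 hv).1
  simp only [win, Finset.mem_Ico]
  exact this

theorem dual_dual {S : Finset ℤ} (h : S ⊆ win N) : dual N (dual N S) = S := by
  ext v
  simp only [mem_dual, sub_sub_cancel]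
  constructor
  · rintro ⟨h1, h2⟩
    by_contra h3
    exact h2 ⟨by omega, h3⟩
  · intro hv
    have := h hv
    simp only [win, Finset.mem_Ico] at this
    exact ⟨this, fun h' => h'.2 hv⟩

theorem card_dual {S : Finset ℤ} (h : S ⊆ win N) (hS : S.card = N) : (dual N S).card = N := by
  rw [dual, card_image_of_injective _ sub_right_injective, card_sdiff_of_subset h, hS, win, Int.card_Ico]
  omega

theorem dual_move {S : Finset ℤ} {x : ℤ} {k : ℕ} (hx : x ∈ S) (hxw : x < 2 * N) (hkx : (k : ℤ) ≤ x)
    (hni : x - k ∉ S) :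
    dual N (insert (x - k) (S.erase x)) =
      insert (2 * (N : ℤ) - 1 - x) ((dual N S).erase (2 * (N : ℤ) - 1 - (x - k))) := by
  ext v
  simp only [mem_dual, mem_insert, mem_erase, not_or, not_and]
  constructor
  · rintro ⟨h1, h2, h3⟩
    by_cases hv : v = 2 * (N : ℤ) - 1 - x
    · exact Or.inl hv
    · exact Or.inr ⟨fun e => h2 (by omega), h1, h3 (by omega)⟩
  · rintro (rfl | ⟨h1, h2, h3⟩)
    · refine ⟨by omega, fun e => hni ?_, fun h => absurd (by ring) h⟩
      have e' : x = x - k := by linarith
      exact e' ▸ hx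
    · exact ⟨h2, fun e => h1 (by omega), fun _ => h3⟩

theorem card_between {S : Finset ℤ} {x : ℤ} {k : ℕ} (hxw : x < 2 * N) (hkx : (k : ℤ) ≤ x) :
    ((dual N S).filter fun u => (2 * (N : ℤ) - 1 - (x - k)) - k < u ∧
      u < 2 * (N : ℤ) - 1 - (x - k)).card + (S.filter fun u => x - k < u ∧ u < x).card = k - 1 := by
  have h : ((dual N S).filter fun u => (2 * (N : ℤ) - 1 - (x - k)) - k < u ∧
      u < 2 * (N : ℤ) - 1 - (x - k)).card = ((Finset.Ioo (x - k) x).filter fun u => u ∉ S).card := by
    refine card_bij' (fun u _ => 2 * (N : ℤ) - 1 - u) (fun u _ => 2 * (N : ℤ) - 1 - u)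
      (fun u hu => ?_) (fun u hu => ?_) (fun u _ => by ring) fun u _ => by ring
    · simp only [mem_filter, mem_dual, Finset.mem_Ioo] at hu ⊢
      exact ⟨⟨by omega, by omega⟩, hu.1.2⟩
    · simp only [mem_filter, mem_dual, Finset.mem_Ioo] at hu ⊢
      exact ⟨⟨by omega, by simpa using hu.2⟩, by omega, by omega⟩
  have h2 : (S.filter fun u => x - k < u ∧ u < x) = (Finset.Ioo (x - k) x).filter (· ∈ S) := by
    ext u; simp [and_comm]
  rw [h, h2, add_comm, card_filter_add_card_filter_not, Int.card_Ioo]
  omega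

theorem sign_eq_off {α : Type u} [Fintype α] [DecidableEq α] (σ : Perm α) (x : α) :
    ((Perm.sign σ : ℤ) : ℂ) = (-1) ^ (cyc σ x - 1) * ((Perm.sign (off σ x) : ℤ) : ℂ) := by
  have hdec : σ = σ.cycleOf x * Perm.ofSubtype (off σ x) := Equiv.ext fun z => by
    rw [Perm.mul_apply]
    by_cases hz : σ.SameCycle x z
    · rw [Perm.ofSubtype_apply_of_not_mem (p := fun y => ¬ σ.SameCycle x y) _ (not_not.2 hz), hz.cycleOf_apply]
    · rw [Perm.ofSubtype_apply_of_mem (p := fun y => ¬ σ.SameCycle x y) _ hz, coe_off, Perm.cycleOf_apply_of_not_sameCycle]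
      exact mt Perm.sameCycle_apply_right.1 hz
  conv_lhs => rw [hdec]
  rw [Perm.sign_mul, Perm.sign_ofSubtype]
  push_cast
  congr 1
  by_cases hx : σ x = x
  · have hc : cyc σ x = 1 := by
      have := (pow_apply_eq_iff σ x 1).1 (by simpa using hx)
      exact Nat.dvd_one.1 this
    rw [(Perm.cycleOf_eq_one_iff σ).2 hx, hc]
    simp
  · have hs : (σ.cycleOf x).support.card = cyc σ x := congrArg card (by
      ext z
      rw [Perm.mem_support_cycleOf_iff' hx]
      simp)
    rw [(Perm.isCycle_cycleOf σ hx).sign, hs]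
    obtain ⟨j, hj⟩ : ∃ j, cyc σ x = j + 1 := ⟨cyc σ x - 1, by have := cyc_pos σ x; omega⟩
    rw [hj]
    push_cast
    simp [pow_succ]

theorem srt_delta (S : Finset ℤ) (hS : S.card = N) :
    delta N (srt N S) = if S = Finset.Ico 0 (N : ℤ) then 1 else 0 := by
  have hid : StrictMono fun i : Fin N => (i : ℤ) := fun i j h => by simpa using h
  have himg : univ.image (fun i : Fin N => (i : ℤ)) = Finset.Ico 0 (N : ℤ) := by
    refine eq_of_subset_of_card_le (fun v hv => ?_) (by simp [card_image_of_injective _ hid.injective])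
    obtain ⟨i, -, rfl⟩ := mem_image.1 hv
    simp [i.2]
  split
  case isTrue h => rw [h, ← himg, srt_eq hid, delta_id]
  case isFalse h =>
    by_contra hne
    obtain ⟨π, hπ⟩ := exists_of_delta_ne_zero hne
    refine h ?_
    rw [← image_srt hS, ← hπ, ← himg]
    ext v
    simp only [mem_image, mem_univ, true_and]
    exact ⟨fun ⟨i, e⟩ => ⟨π i, e⟩, fun ⟨i, e⟩ => ⟨π.symm i, by simpa using e⟩⟩

/-- The mirrored complement twists by the sign. -/
theorem val_dual {α : Type u} [Fintype α] [DecidableEq α] (σ : Perm α) :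
    ∀ {S : Finset ℤ}, S ⊆ win N → S.card = N →
      val N σ (srt N (dual N S)) = ((Perm.sign σ : ℤ) : ℂ) * val N σ (srt N S) := by
  refine perm_induction (P := fun β _ _ τ => ∀ {S : Finset ℤ}, S ⊆ win N → S.card = N →
      val N τ (srt N (dual N S)) = ((Perm.sign τ : ℤ) : ℂ) * val N τ (srt N S))
    (fun β _ _ _ τ S hSw hS => ?_) (fun β _ _ τ x ih S hSw hS => ?_) α σ
  · rw [val_of_isEmpty, srt_delta _ (card_dual hSw hS), srt_delta _ hS, show τ = 1 from Subsingleton.elim _ _]
    have hI : dual N (Finset.Ico 0 (N : ℤ)) = Finset.Ico 0 (N : ℤ) := by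
      ext v; simp only [mem_dual, Finset.mem_Ico]; omega
    have : dual N S = Finset.Ico 0 (N : ℤ) ↔ S = Finset.Ico 0 (N : ℤ) :=
      ⟨fun h => by rw [← dual_dual hSw, h, hI], fun h => by rw [h, hI]⟩
    simp [this]
  · set k := cyc τ x with hk
    have hk0 : 0 < k := cyc_pos τ x
    rw [val_split τ x, up_srt (supp_val _) (anti_val _) (card_dual hSw hS) hk0,
      up_srt (supp_val _) (anti_val _) hS hk0, sign_eq_off τ x, mul_sum]
    set C : ℤ := 2 * (N : ℤ) - 1 with hC
    refine sum_bij' (fun y _ => C - (y - k)) (fun y _ => C - (y - k)) (fun y hy => ?_) (fun y hy => ?_)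
      (fun y _ => by ring) (fun y _ => by ring) fun y hy => ?_
    · simp only [mem_filter, mem_dual, ← hC] at hy ⊢
      obtain ⟨⟨h1, h2⟩, h3, h4⟩ := hy
      refine ⟨?_, by omega, ?_⟩
      · by_contra h5
        exact h4 ⟨by omega, h5⟩
      · rwa [show C - (y - k) - k = C - y by ring]
    · simp only [mem_filter, mem_dual, ← hC] at hy ⊢
      obtain ⟨h1, h3, h4⟩ := hy
      have := hSw h1
      simp only [win, Finset.mem_Ico] at this
      refine ⟨⟨by omega, by rwa [sub_sub_cancel]⟩, by omega, fun h5 => h5.2 ?_⟩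
      rwa [show C - (C - (y - k) - k) = y by ring]
    · simp only [mem_filter, mem_dual, ← hC] at hy
      obtain ⟨⟨h1, h2⟩, h3, h4⟩ := hy
      set z := C - (y - k) with hz
      have hzS : z ∈ S := by
        by_contra h5
        exact h4 ⟨by omega, h5⟩
      have hzw := hSw hzS
      simp only [win, Finset.mem_Ico] at hzw
      have hkz : (k : ℤ) ≤ z := by omega
      have hzn : z - k ∉ S := by rwa [show z - k = C - y by rw [hz]; ring]
      have hmove := dual_move (N := N) hzS hzw.2 hkz hzn
      rw [← hC, show C - z = y - k by rw [hz]; ring, show C - (z - k) = y by rw [hz]; ring] at hmove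
      have hsub : insert (z - k) (S.erase z) ⊆ win N := fun v hv => by
        rcases mem_insert.1 hv with rfl | hv
        · simp only [win, Finset.mem_Ico]; omega
        · exact hSw (erase_subset _ _ hv)
      have hcard : (insert (z - k) (S.erase z)).card = N := by
        rw [card_insert_of_notMem (fun h => hzn (erase_subset _ _ h)), card_erase_add_one hzS, hS]
      rw [← hmove, ih hsub hcard]
      have hb := card_between (N := N) (S := S) hzw.2 hkz
      rw [← hC, show C - (z - k) = y by rw [hz]; ring] at hb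
      have hpow : ((-1 : ℂ)) ^ ((dual N S).filter fun u => y - k < u ∧ u < y).card =
          (-1) ^ (k - 1) * (-1) ^ (S.filter fun u => z - k < u ∧ u < z).card := by
        rw [← hb, pow_add, mul_assoc, ← pow_add, ← two_mul, pow_mul, neg_one_sq, one_pow, mul_one]
      rw [hpow]
      ring

end CfsgLib.SymBeta
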