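import Cfsg.Agent.Lib.Char.SymBeta.SymBlock
import Cfsg.Agent.Lib.Char.SymBeta.BlockTools
import Cfsg.Agent.Lib.Char.SymBeta.Dual
import Cfsg.Agent.Lib.Blocks.Cyclic.Chart

/-!
# A residue class is a single block (Nakayama)
-/

set_option autoImplicit false

namespace CfsgLib.SymBeta

open Finset Equiv Cfsg CfsgLib.Char

universe u

variable {N n p : ℕ}

theorem exists_perm_of_range_eq {a c : Fin N → ℤ} (ha : Function.Injective a) (hc : Function.Injective c)
    (h : Set.range a = Set.range c) : ∃ π : Perm (Fin N), a = c ∘ π := by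
  refine ⟨((Equiv.ofInjective a ha).trans (Equiv.setCongr h)).trans (Equiv.ofInjective c hc).symm,
    funext fun i => ?_⟩
  show a i = c ((Equiv.ofInjective c hc).symm ⟨a i, _⟩)
  rw [Equiv.apply_ofInjective_symm hc]

/-- The value only depends on the part outside the core up to the core factor. -/
theorem val_split_core {c : Fin N → ℤ} (hc : IsCore p c) :
    ∀ (m : ℕ) (α : Type u) [Fintype α] [DecidableEq α] (Q : α → Prop) [DecidablePred Q] (σ σ' : Perm α)
      (hσ : ∀ z, Q (σ z) ↔ Q z) (hσ' : ∀ z, Q (σ' z) ↔ Q z), Fintype.card α = m →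
      (∀ z, ¬ Q z → σ z = σ' z) → (∀ z, ¬ Q z → p ∣ cyc σ z) →
      ∑ i, c i = base N + Fintype.card {z // Q z} →
      ∀ a : Fin N → ℤ, Function.Injective a → (∀ i, 0 ≤ a i) → cts p a = cts p c →
      ∑ i, a i = base N + Fintype.card α →
      val N σ a * val N (σ'.subtypePerm hσ') c = val N σ' a * val N (σ.subtypePerm hσ) c := by
  intro m
  induction m using Nat.strong_induction_on with
  | _ m ih =>
    intro α _ _ Q _ σ σ' hσ hσ' hm hag hdiv hcs a hinj hnn hcts hsum
    by_cases hall : ∀ z, Q z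
    · have hcard : Fintype.card {z // Q z} = Fintype.card α :=
        Fintype.card_congr (Equiv.subtypeUnivEquiv hall)
      have hv : ∀ (τ : Perm α) (hτ : ∀ z, Q (τ z) ↔ Q z), val N τ = val N (τ.subtypePerm hτ) := fun τ hτ =>
        (val_congr (Equiv.subtypeUnivEquiv hall) (σ := τ.subtypePerm hτ) (τ := τ) fun z => rfl).symm
      obtain ⟨π, rfl⟩ := exists_perm_of_range_eq hinj hc.inj
        (hc.range_eq_of_sum_eq hinj hnn hcts (by rw [hsum, hcs, hcard]))
      rw [anti_val σ π c, anti_val σ' π c, hv σ hσ, hv σ' hσ']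
      ring
    push Not at hall
    obtain ⟨z, hz⟩ := hall
    have hiter : ∀ i : ℕ, ¬ Q ((σ ^ i) z) ∧ (σ ^ i) z = (σ' ^ i) z := by
      intro i
      induction i with
      | zero => exact ⟨hz, rfl⟩
      | succ i ih' =>
        rw [pow_succ', pow_succ', Perm.mul_apply, Perm.mul_apply, ← ih'.2]
        exact ⟨fun h => ih'.1 ((hσ _).1 h), hag _ ih'.1⟩
    have hsame : ∀ y, σ.SameCycle z y ↔ σ'.SameCycle z y := fun y => by
      constructor
      · intro h
        obtain ⟨i, -, rfl⟩ := h.exists_pow_eq'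
        exact ⟨(i : ℤ), by rw [zpow_natCast, (hiter i).2]⟩
      · intro h
        obtain ⟨i, -, rfl⟩ := h.exists_pow_eq'
        exact ⟨(i : ℤ), by rw [zpow_natCast, (hiter i).2]⟩
    have hQout : ∀ y, Q y → ¬ σ.SameCycle z y := fun y hy h => by
      obtain ⟨i, -, rfl⟩ := h.exists_pow_eq'
      exact (hiter i).1 hy
    have hcyc : cyc σ' z = cyc σ z := congrArg card (filter_congr fun y _ => (hsame y).symm)
    have hiff : ∀ y, ¬ σ.SameCycle z (σ' y) ↔ ¬ σ.SameCycle z y := fun y => by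
      rw [hsame, hsame, Perm.sameCycle_apply_right]
    set τ' : Perm {y // ¬ σ.SameCycle z y} := σ'.subtypePerm hiff with hτ'
    have hoff' : val N (off σ' z) = val N τ' :=
      val_congr (Equiv.subtypeEquivRight fun y => not_congr (hsame y).symm) fun y => rfl
    have hcore : ∀ (ρ : Perm {y // ¬ σ.SameCycle z y}) (ρ₀ : Perm α) (hρ₀ : ∀ y, Q (ρ₀ y) ↔ Q y)
        (hρ : ∀ y : {y // ¬ σ.SameCycle z y}, Q (ρ y).1 ↔ Q y.1), (∀ y, (ρ y).1 = ρ₀ y.1) →
        val N (ρ.subtypePerm (p := fun y => Q y.1) hρ) = val N (ρ₀.subtypePerm hρ₀) :=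
      fun ρ ρ₀ hρ₀ hρ h => val_congr
        { toFun := fun y => ⟨y.1.1, y.2⟩
          invFun := fun y => ⟨⟨y.1, hQout y.1 y.2⟩, y.2⟩
          left_inv := fun y => rfl
          right_inv := fun y => rfl } fun y => Subtype.ext (h y.1)
    have hcardQ : Fintype.card {y : {y // ¬ σ.SameCycle z y} // Q y.1} = Fintype.card {y // Q y} :=
      Fintype.card_congr
        { toFun := fun y => ⟨y.1.1, y.2⟩
          invFun := fun y => ⟨⟨y.1, hQout y.1 y.2⟩, y.2⟩
          left_inv := fun y => rfl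
          right_inv := fun y => rfl }
    obtain ⟨q, hq⟩ := hdiv z hz
    have hco := card_off σ z
    have hcp := cyc_pos σ z
    have h1 : val N σ a = ∑ i, val N (off σ z) (a - Pi.single i (cyc σ z : ℤ)) := by rw [val_split σ z]; rfl
    have h2 : val N σ' a = ∑ i, val N τ' (a - Pi.single i (cyc σ z : ℤ)) := by
      rw [val_split σ' z, hcyc, hoff']; rfl
    rw [h1, h2, sum_mul, sum_mul]
    refine sum_congr rfl fun i _ => ?_
    set b : Fin N → ℤ := a - Pi.single i (cyc σ z : ℤ) with hb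
    by_cases hgood : Function.Injective b ∧ (∀ l, 0 ≤ b l)
    swap
    · have h0 : ∀ τ : Perm {y // ¬ σ.SameCycle z y}, val N τ b = 0 := fun τ => by
        by_contra hne
        obtain ⟨h3, h4, -⟩ := supp_val τ b hne
        exact hgood ⟨h3, h4⟩
      rw [h0, h0, zero_mul, zero_mul]
    have hρσ : ∀ y : {y // ¬ σ.SameCycle z y}, Q (off σ z y).1 ↔ Q y.1 := fun y => hσ y.1
    have hρσ' : ∀ y : {y // ¬ σ.SameCycle z y}, Q (τ' y).1 ↔ Q y.1 := fun y => hσ' y.1
    have := ih (Fintype.card {y // ¬ σ.SameCycle z y}) (by omega) {y // ¬ σ.SameCycle z y} (fun y => Q y.1)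
      (off σ z) τ' hρσ hρσ' rfl (fun y hy => Subtype.ext (hag y.1 hy))
      (fun y hy => by rw [cyc_off]; exact hdiv y.1 hy) (by rw [hcs, hcardQ]) b hgood.1 hgood.2
      (by rw [hb, show ((cyc σ z : ℕ) : ℤ) = (q : ℤ) * p by rw [hq]; push_cast; ring, cts_sub_single_mul, hcts])
      (by
        rw [hb]
        simp only [Pi.sub_apply]
        rw [sum_sub_distrib, hsum, Fintype.sum_pi_single', ← hco]
        push_cast
        ring)
    rw [hcore _ σ' hσ' hρσ' (fun y => rfl), hcore _ σ hσ hρσ (fun y => rfl)] at this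
    exact this

theorem cycleOf_mem_cycGroup {α : Type u} [Fintype α] [DecidableEq α] (x : Perm α) (z : α) :
    x.cycleOf z ∈ cycGroup x := by
  refine ⟨Equiv.ext fun w => ?_, fun w => ?_⟩
  · by_cases h : x.SameCycle z w
    · simp [Perm.cycleOf_apply, h, Perm.sameCycle_apply_right.2 h]
    · simp [Perm.cycleOf_apply, h, mt Perm.sameCycle_apply_right.1 h]
  · by_cases h : x.SameCycle z w
    · rw [h.cycleOf_apply]; exact Perm.sameCycle_apply_right.2 (Perm.SameCycle.refl _ _)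
    · rw [Perm.cycleOf_apply_of_not_sameCycle h]

theorem apply_of_fixed {α : Type u} {x ρ : Perm α} (hρ : ρ ∈ cycGroup x) {z : α} (hz : x z = z) :
    ρ z = z := by
  obtain ⟨i, hi⟩ := hρ.2 z
  rw [Perm.zpow_apply_eq_self_of_apply_eq_self hz] at hi
  exact hi.symm

theorem isCore_srt {c : Fin N → ℤ} (hc : IsCore p c) :
    IsCore p (srt N (univ.image c)) ∧ StrictMono (srt N (univ.image c)) ∧
      cts p (srt N (univ.image c)) = cts p c ∧ ∑ i, srt N (univ.image c) i = ∑ i, c i := by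
  have hcard : (univ.image c).card = N := by
    rw [card_image_of_injective _ hc.inj, card_univ, Fintype.card_fin]
  have hm := srt_strictMono hcard
  have hr : Set.range (srt N (univ.image c)) = Set.range c := by
    have h := image_srt hcard
    ext v
    have := Finset.ext_iff.1 h v
    simpa using this
  obtain ⟨π, hπ⟩ := exists_perm_of_range_eq hm.injective hc.inj hr
  rw [hπ]
  exact ⟨⟨hc.pos, hc.inj.comp π.injective, fun i => hc.nonneg _, hc.packed.comp π⟩, hπ ▸ hm,
    funext fun r => cts_comp p c π r, sum_comp_perm c π⟩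

/-- Nakayama: the characters of one residue class form one block. -/
theorem sameBlock_of_mem_cls [Fact p.Prime] {M : Ideal AlgInt} [M.IsPrime] (hM : IsPModular p M)
    (hN : 3 * n ≤ N) {c₀ : Fin N → ℤ} {w : ℕ} (h₀ : Data N n p c₀ w)
    {χ₁ χ₂ : IrrCharacter (Perm (Fin n))} (hχ₁ : χ₁ ∈ clsSet N n p (cts p c₀))
    (hχ₂ : χ₂ ∈ clsSet N n p (cts p c₀)) :
    SameBlock M (χ₁ : Perm (Fin n) → ℂ) (χ₂ : Perm (Fin n) → ℂ) := by
  classical
  obtain ⟨hcore, hsm, hcts, hsumc⟩ := isCore_srt h₀.core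
  set c := srt N (univ.image c₀)
  have h : Data N n p c w := ⟨hcore, by rw [hsumc]; exact h₀.sum_eq⟩
  rw [← hcts] at hχ₁ hχ₂
  clear_value c
  have hp := hM.1
  obtain ⟨x, hx, hfix, -⟩ := exists_cycles hp h.mul_le
  set r := n - p * w with hr
  have hpw := h.mul_le
  have hcs : ∑ i, c i = base N + (r : ℤ) := by
    have h1 := h.sum_eq
    rw [hr, Nat.cast_sub hpw]
    push_cast
    linarith
  let ψ₀ : IrrCharacter (Perm (Fin r)) :=
    ⟨chi N r c, exists_irr (by omega) (mem_Idx.2 ⟨hsm, hcore.nonneg, hcs⟩)⟩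
  have hψ1 : (ψ₀ : Perm (Fin r) → ℂ) 1 ≠ 0 := IsIrr.apply_one_ne_zero ψ₀.2
  have hcardF : Fintype.card {z : Fin n // x z = z} = r := by rw [Fintype.card_subtype, hfix]
  let e : Fin r ≃ {z : Fin n // x z = z} := (Fintype.equivFinOfCardEq hcardF).symm
  let ι : Perm (Fin r) →* Perm (Fin n) :=
    (Perm.ofSubtype (p := fun z : Fin n => x z = z)).comp e.permCongrHom.toMonoidHom
  have hιin : ∀ (t : Perm (Fin r)) i, ι t (e i).1 = (e (t i)).1 := fun t i => by
    show Perm.ofSubtype (e.permCongr t) (e i).1 = _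
    rw [Perm.ofSubtype_apply_coe]
    simp [Equiv.permCongr_apply]
  have hιout : ∀ (t : Perm (Fin r)) z, x z ≠ z → ι t z = z := fun t z hz =>
    Perm.ofSubtype_apply_of_not_mem (p := fun z : Fin n => x z = z) _ hz
  have hιfix : ∀ (t : Perm (Fin r)) z, x z = z → x (ι t z) = ι t z := fun t z hz => by
    obtain ⟨i, hi⟩ := e.surjective ⟨z, hz⟩
    rw [show z = (e i).1 from (congrArg Subtype.val hi).symm, hιin]
    exact (e (t i)).2
  have hιmem : ∀ t, ι t ∈ Subgroup.centralizer ({x} : Set (Perm (Fin n))) := fun t =>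
    Blocks.mem_centralizer_singleton.2 (Equiv.ext fun z => by
      by_cases hz : x z = z
      · rw [Perm.mul_apply, Perm.mul_apply, hz, hιfix t z hz]
      · rw [Perm.mul_apply, Perm.mul_apply, hιout t z hz, hιout t _ fun h' => hz (x.injective h')])
  set C := Subgroup.centralizer ({x} : Set (Perm (Fin n))) with hC
  let ιC : Perm (Fin r) →* C := ι.codRestrict C hιmem
  have hιinj : Function.Injective ιC := fun s t h' => Equiv.ext fun i => by
    have h1 := congrArg (fun k : C => (k : Perm (Fin n)) (e i).1) h'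
    simp only [ιC, MonoidHom.codRestrict_apply, hιin] at h1
    exact e.injective (Subtype.ext h1)
  have hCfix : ∀ (y : C) z, x ((y : Perm (Fin n)) z) = (y : Perm (Fin n)) z ↔ x z = z := fun y z => by
    have h1 : x ((y : Perm (Fin n)) z) = (y : Perm (Fin n)) (x z) := by
      rw [← Perm.mul_apply, ← (Blocks.mem_centralizer_singleton.1 y.2).eq, Perm.mul_apply]
    rw [h1]
    exact (y : Perm (Fin n)).injective.eq_iff
  let rF : C → Perm (Fin r) := fun y => e.symm.permCongr ((y : Perm (Fin n)).subtypePerm (hCfix y))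
  have hrF : ∀ y i, (e (rF y i)).1 = (y : Perm (Fin n)) (e i).1 := fun y i => by
    simp [rF, Equiv.permCongr_apply]
  have hrFmul : ∀ y t, rF (y * ιC t) = rF y * t := fun y t => Equiv.ext fun i => e.injective (Subtype.ext (by
    rw [hrF, Perm.mul_apply, hrF, Subgroup.coe_mul, Perm.mul_apply]
    simp [ιC, hιin]))
  let c0 : C → C := fun y => y * (ιC (rF y))⁻¹
  have hc0mul : ∀ y t, c0 (y * ιC t) = c0 y := fun y t => by
    simp only [c0, hrFmul, map_mul, mul_inv_rev]
    group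
  have hc0fix : ∀ y z, x z = z → (c0 y : Perm (Fin n)) z = z := fun y z hz => by
    obtain ⟨i, hi⟩ := e.surjective ⟨z, hz⟩
    rw [show z = (e i).1 from (congrArg Subtype.val hi).symm]
    simp only [c0, Subgroup.coe_mul, Subgroup.coe_inv, Perm.mul_apply, ← map_inv, ιC,
      MonoidHom.codRestrict_apply, hιin]
    rw [← hrF, ← Perm.mul_apply, mul_inv_cancel]
    rfl
  have hc0out : ∀ y z, x z ≠ z → (c0 y : Perm (Fin n)) z = (y : Perm (Fin n)) z := fun y z hz => by
    simp only [c0, Subgroup.coe_mul, Subgroup.coe_inv, Perm.mul_apply, ← map_inv, ιC,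
      MonoidHom.codRestrict_apply, hιout _ z hz]
  let EC : Subgroup C := (cycGroup x).subgroupOf C
  haveI : EC.Normal := ⟨fun ρ hρ g => conj_mem_cycGroup (Blocks.mem_centralizer_singleton.1 g.2) hρ⟩
  have hEp : IsPGroup p EC := fun ρ =>
    ⟨1, by rw [pow_one]; exact Subtype.ext (Subtype.ext (cycGroup_pow hx ρ.2))⟩
  have hEcomm : ∀ a ∈ EC, ∀ b ∈ EC, a * b = b * a := fun a ha b hb => Subtype.ext (cycGroup_comm ha hb)
  set K := ιC.range with hK
  let eK : Perm (Fin r) ≃* K := MonoidHom.ofInjective hιinj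
  let ξ : IrrCharacter K := Blocks.pullEquiv eK.symm ψ₀
  have hKN : K ≤ Subgroup.centralizer (EC : Set C) := by
    rintro _ ⟨t, rfl⟩
    refine Subgroup.mem_centralizer_iff.2 fun ρ hρ => Subtype.ext (Equiv.ext fun z => ?_)
    show (ρ : Perm (Fin n)) (ι t z) = ι t ((ρ : Perm (Fin n)) z)
    by_cases hz : x z = z
    · rw [apply_of_fixed (ρ := (ρ : Perm (Fin n))) hρ hz, apply_of_fixed (ρ := (ρ : Perm (Fin n))) hρ (hιfix t z hz)]
    · rw [hιout t z hz, hιout t _ fun h' => hz ((hCfix ρ z).1 h')]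
  have hfac : ∀ m ∈ Subgroup.centralizer (EC : Set C), ∃ ρ ∈ EC, ∃ k ∈ K, m = ρ * k := by
    intro m hm
    refine ⟨c0 m, ?_, ιC (rF m), ⟨_, rfl⟩, by simp [c0]⟩
    refine ⟨Blocks.mem_centralizer_singleton.1 (c0 m).2, fun z => ?_⟩
    show x.SameCycle z ((c0 m : Perm (Fin n)) z)
    by_cases hz : x z = z
    · rw [hc0fix m z hz]
    rw [hc0out m z hz]
    have hρC : x.cycleOf z ∈ C := Blocks.mem_centralizer_singleton.2 (cycleOf_mem_cycGroup x z).1
    have h1 := congrArg (fun k : C => (k : Perm (Fin n)) z)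
      (Subgroup.mem_centralizer_iff.1 hm ⟨x.cycleOf z, hρC⟩ (cycleOf_mem_cycGroup x z))
    simp only [Subgroup.coe_mul, Perm.mul_apply, Perm.cycleOf_apply_self] at h1
    by_contra hns
    rw [Perm.cycleOf_apply_of_not_sameCycle hns] at h1
    exact hz ((m : Perm (Fin n)).injective h1.symm)
  have hdis : EC ⊓ K = ⊥ := by
    rw [Subgroup.eq_bot_iff_forall]
    rintro k ⟨hk, t, rfl⟩
    refine Subtype.ext (Equiv.ext fun z => ?_)
    by_cases hz : x z = z
    · exact apply_of_fixed hk hz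
    · exact hιout t z hz
  -- every member of the class has its block induced from one block of `C`
  have key : ∀ χ : IrrCharacter (Perm (Fin n)), χ ∈ clsSet N n p (cts p c) →
      ∃ (b : Set (IrrCharacter C)) (η : IrrCharacter C), η ∈ b ∧
        IsInducedBlock M C b (blockOf M (χ : Perm (Fin n) → ℂ)) ∧
        classInner (fun u : K => (η : C → ℂ) u) (ξ : K → ℂ) ≠ 0 := by
    rintro χ ⟨a, ha, hχa⟩
    obtain ⟨haI, hact⟩ := mem_Cls.1 ha
    obtain ⟨hm, hnn, hs⟩ := mem_Idx.1 haI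
    have hne : (χ : Perm (Fin n) → ℂ) x ≠ 0 := by
      rw [hχa]; exact exists_chi_cycles_ne_zero hp hN h ha hx hfix
    letI : Fintype {b : Set (IrrCharacter C) // IsPBlock M b} := Fintype.ofFinite _
    haveI := Fintype.ofFinite (IrrCharacter C)
    let θ : C → ℂ := fun y => (χ : Perm (Fin n) → ℂ) (x * (y : Perm (Fin n)))
    let θ' : C → ℂ := fun y => θ (c0 y) * (ψ₀ : Perm (Fin r) → ℂ) (rF y) / (ψ₀ : Perm (Fin r) → ℂ) 1
    have hθ : IsClassFunction C θ := fun y d => by
      show (χ : Perm (Fin n) → ℂ) (x * ((d : Perm (Fin n)) * y * (d : Perm (Fin n))⁻¹)) = _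
      rw [show x * ((d : Perm (Fin n)) * y * (d : Perm (Fin n))⁻¹) = d * (x * y) * (d : Perm (Fin n))⁻¹ by
        rw [← mul_assoc, ← mul_assoc, ← (Blocks.mem_centralizer_singleton.1 d.2).eq]; group]
      exact IsIrr.isClassFunction χ.2 _ _
    have hreg : ∀ y : C, ¬ p ∣ orderOf y → θ y = θ' y := by
      intro y hy
      rw [eq_div_iff hψ1]
      set σ : Perm (Fin n) := x * (y : Perm (Fin n)) with hσdef
      set σ' : Perm (Fin n) := x * (c0 y : Perm (Fin n)) with hσ'def
      have hQ : ∀ (u : C) z, x ((x * (u : Perm (Fin n))) z) = (x * (u : Perm (Fin n))) z ↔ x z = z := fun u z => by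
        rw [Perm.mul_apply, x.injective.eq_iff, hCfix]
      have hdiv : ∀ z, ¬ x z = z → p ∣ cyc σ z := fun z hz => by
        have h1 : (σ ^ cyc σ z) z = z := (pow_apply_eq_iff σ z _).2 dvd_rfl
        have h2 : (σ ^ (cyc σ z * orderOf y)) z = z :=
          (pow_apply_eq_iff σ z _).2 (dvd_mul_right _ _)
        have hcomm : Commute x (y : Perm (Fin n)) := (Blocks.mem_centralizer_singleton.1 y.2).symm
        have hy1 : (y : Perm (Fin n)) ^ (cyc σ z * orderOf y) = 1 := by
          rw [← Subgroup.orderOf_coe, mul_comm, pow_mul, pow_orderOf_eq_one, one_pow]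
        rw [hσdef, hcomm.mul_pow, ← hσdef, hy1, mul_one, pow_apply_eq_iff] at h2
        have hxc : cyc x z = p := by
          rcases (Nat.dvd_prime hp).1 ((pow_apply_eq_iff x z p).1 (by rw [hx]; rfl)) with h3 | h3
          · exact absurd (by simpa using (pow_apply_eq_iff x z 1).2 (h3 ▸ dvd_rfl)) hz
          · exact h3
        rw [hxc] at h2
        exact (hp.dvd_mul.1 h2).resolve_right hy
      have hk := val_split_core hcore n (Fin n) (fun z => x z = z) σ σ' (hQ y) (hQ (c0 y))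
        (Fintype.card_fin n) (fun z hz => by
          show x ((y : Perm (Fin n)) z) = x ((c0 y : Perm (Fin n)) z)
          rw [hc0out y z hz])
        hdiv (by rw [hcardF]; exact hcs) a hm.injective hnn hact (by rw [hs, Fintype.card_fin])
      have hr' : ∀ (u : C) (t : Perm (Fin r)), (∀ i, (u : Perm (Fin n)) (e i).1 = (e (t i)).1) →
          val N ((x * (u : Perm (Fin n))).subtypePerm (hQ u)) c = (ψ₀ : Perm (Fin r) → ℂ) t := fun u t ht => by
        show _ = val N t c
        rw [val_congr e (σ := t) (τ := (x * (u : Perm (Fin n))).subtypePerm (hQ u)) fun i => Subtype.ext ?_]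
        show (e (t i)).1 = x ((u : Perm (Fin n)) (e i).1)
        rw [ht, (e (t i)).2]
      rw [hr' y (rF y) fun i => (hrF y i).symm,
        hr' (c0 y) 1 fun i => hc0fix y _ (e i).2] at hk
      show (χ : Perm (Fin n) → ℂ) σ * _ = (χ : Perm (Fin n) → ℂ) σ' * _
      rw [hχa]
      exact hk
    have hsumθ := Blocks.sum_blockPart (M := M) hθ 1
    obtain ⟨b, -, hb⟩ := exists_ne_zero_of_sum_ne_zero (s := univ) (by
      rw [hsumθ]; simpa [θ] using hne :
        ∑ b : {b : Set (IrrCharacter C) // IsPBlock M b}, blockPart b.1 θ 1 ≠ 0)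
    have hind : IsInducedBlock M C b.1 (blockOf M (χ : Perm (Fin n) → ℂ)) := by
      by_contra hnot
      exact hb (Blocks.blockPart_eq_zero_of_not_induced hM (exists_pow_order hp hx)
        (Blocks.isPBlock_blockOf χ) (Blocks.mem_blockOf_self χ) b.2 hnot (by simp [hp.ne_one]))
    rw [Blocks.Cyclic.blockPart_congr_regular hM b.2 hreg (by simp [hp.ne_one]), Blocks.blockPart_eq] at hb
    obtain ⟨η, hη, hη0⟩ := exists_ne_zero_of_finsum_mem_ne_zero hb
    refine ⟨b.1, η, hη, hind, fun hzero => left_ne_zero_of_mul hη0 ?_⟩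
    unfold classInner
    rw [mul_eq_zero]
    right
    have hzero' : ∀ y : C, ∑ t : Perm (Fin r), θ' (y * ιC t) * (starRingEnd ℂ) ((η : C → ℂ) (y * ιC t)) = 0 := by
      intro y
      have h1 := sum_apply_mul_eq_zero η ξ hzero (c0 y)⁻¹
      rw [← Fintype.sum_equiv eK.toEquiv (fun t => (η : C → ℂ) ((c0 y)⁻¹ * (ιC t)⁻¹) * (ψ₀ : Perm (Fin r) → ℂ) t)
        _ fun t => by simp [ξ, eK]; exact Or.inl rfl] at h1
      rw [← Equiv.sum_comp (Equiv.mulLeft (rF y)⁻¹)]
      refine Eq.trans (Fintype.sum_congr _ (fun t => θ (c0 y) / (ψ₀ : Perm (Fin r) → ℂ) 1 *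
        ((η : C → ℂ) ((c0 y)⁻¹ * (ιC t)⁻¹) * (ψ₀ : Perm (Fin r) → ℂ) t)) fun t => ?_)
        (by rw [← mul_sum, h1, mul_zero])
      simp only [Equiv.coe_mulLeft, θ', hc0mul, hrFmul, mul_inv_cancel_left]
      rw [show y * ιC ((rF y)⁻¹ * t) = c0 y * ιC t by simp only [c0, map_mul, map_inv, mul_assoc],
        ← IsIrr.map_inv η.2, mul_inv_rev,
        show (η : C → ℂ) ((ιC t)⁻¹ * (c0 y)⁻¹) = (η : C → ℂ) ((c0 y)⁻¹ * (ιC t)⁻¹) from by
          have := IsIrr.isClassFunction η.2 ((c0 y)⁻¹ * (ιC t)⁻¹) (ιC t)⁻¹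
          rw [← this]; group]
      ring
    have h2 : ∑ y : C, ∑ t : Perm (Fin r), θ' (y * ιC t) * (starRingEnd ℂ) ((η : C → ℂ) (y * ιC t)) = 0 :=
      sum_eq_zero fun y _ => hzero' y
    have hsub : ∀ t : Perm (Fin r), ∑ y : C, θ' (y * ιC t) * (starRingEnd ℂ) ((η : C → ℂ) (y * ιC t)) =
        ∑ y : C, θ' y * (starRingEnd ℂ) ((η : C → ℂ) y) := fun t =>
      Equiv.sum_comp (Equiv.mulRight (ιC t)) fun y => θ' y * (starRingEnd ℂ) ((η : C → ℂ) y)
    rw [sum_comm, sum_congr rfl (fun t _ => hsub t), sum_const, nsmul_eq_mul, mul_eq_zero] at h2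
    exact h2.resolve_left (Nat.cast_ne_zero.2 (card_ne_zero.2 ⟨1, mem_univ _⟩))
  obtain ⟨b₁, η₁, hη₁, hi₁, hn₁⟩ := key χ₁ hχ₁
  obtain ⟨b₂, η₂, hη₂, hi₂, hn₂⟩ := key χ₂ hχ₂
  have hb : b₁ = b₂ := by
    have hs := sameBlock_of_factor hM hEp hEcomm hKN hfac hdis ξ hn₁ hn₂
    refine Blocks.IsPBlock.eq_of_mem hi₁.1 hi₂.1 (χ := η₂) ?_ hη₂
    rw [Blocks.IsPBlock.eq_blockOf hi₁.1 hη₁]
    exact hs
  rw [hb] at hi₁
  have hB := Blocks.IsInducedBlock.eq hi₁ hi₂
  exact (Set.ext_iff.1 hB χ₂).2 (Blocks.mem_blockOf_self χ₂)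

end CfsgLib.SymBeta
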