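import Cfsg.Agent.Lib.Char.SymBeta.Wreath
import Cfsg.Agent.Lib.Char.SymBeta.Nakayama

/-!
# Defect numbers and defect groups of the blocks of the symmetric groups
-/

set_option autoImplicit false

namespace CfsgLib.SymBeta

open Finset Equiv Cfsg CfsgLib.Char

variable {N n p : ℕ}

/-- A residue class lies in the block of any of its members. -/
theorem clsSet_subset_block [Fact p.Prime] {M : Ideal AlgInt} [M.IsPrime] (hM : IsPModular p M)
    (hN : 3 * n ≤ N) {c : Fin N → ℤ} {w : ℕ} (h : Data N n p c w)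
    {B : Set (IrrCharacter (Perm (Fin n)))} (hB : IsPBlock M B) (hsub : B ⊆ clsSet N n p (cts p c)) :
    clsSet N n p (cts p c) ⊆ B := by
  obtain ⟨χ, hχ⟩ := Blocks.IsPBlock.nonempty hB
  intro ψ hψ
  rw [Blocks.IsPBlock.eq_blockOf hB hχ]
  exact sameBlock_of_mem_cls hM hN h (hsub hχ) hψ

/-- The defect number. -/
theorem blockDefect_eq_weight [Fact p.Prime] {M : Ideal AlgInt} [M.IsPrime] (hM : IsPModular p M)
    (hN : 3 * n ≤ N) (hNp : 2 * p + n < N) {c : Fin N → ℤ} {w : ℕ} (h : Data N n p c w)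
    {B : Set (IrrCharacter (Perm (Fin n)))} (hB : IsPBlock M B) (hsub : B ⊆ clsSet N n p (cts p c)) :
    blockDefect p B = w + vf p w := by
  obtain ⟨a, ha, hrem⟩ := exists_height_zero_member h hNp
  let ψ : IrrCharacter (Perm (Fin n)) := ⟨_, exists_irr hN (mem_Cls.1 ha).1⟩
  have hψ : ψ ∈ B := clsSet_subset_block hM hN h hB hsub ⟨a, ha, rfl⟩
  have h1 := factorization_degree hM.1 h ha (ψ := ψ) rfl
  rw [hrem] at h1
  have hmin : sInf ((fun χ : IrrCharacter (Perm (Fin n)) =>
      (charDegree (χ : Perm (Fin n) → ℂ)).factorization p) '' B) =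
      (charDegree (ψ : Perm (Fin n) → ℂ)).factorization p := by
    refine le_antisymm (Nat.sInf_le ⟨ψ, hψ, rfl⟩) (le_csInf ⟨_, ψ, hψ, rfl⟩ ?_)
    rintro _ ⟨η, hη, rfl⟩
    obtain ⟨a', ha', he⟩ := hsub hη
    have h2 := factorization_degree hM.1 h ha' he
    have h3 := rem'_le hM.1 h ha'
    simp only [vf] at h1
    show _ ≤ (charDegree (η : Perm (Fin n) → ℂ)).factorization p
    omega
  rw [blockDefect, hmin, Nat.card_perm, Nat.card_fin, ← h1]
  omega

/-- Permutations of the moved points as permutations of everything. -/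
theorem exists_embedding {w : ℕ} [NeZero p] {x : Perm (Fin n)} (hw : p * w ≤ n)
    (hfix : (univ.filter fun z => x z = z).card = n - p * w) :
    ∃ f : Perm (Fin w × ZMod p) →* Perm (Fin n), Function.Injective f ∧
      (∀ σ, Perm.sign (f σ) = Perm.sign σ) ∧ ∀ σ z, x z = z → f σ z = z := by
  classical
  have hcard : Fintype.card (Fin w × ZMod p) = Fintype.card {z // ¬ x z = z} := by
    rw [Fintype.card_subtype_compl, Fintype.card_fin, Fintype.card_subtype, hfix, Fintype.card_prod,
      Fintype.card_fin, ZMod.card, mul_comm]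
    omega
  let e : Fin w × ZMod p ≃ {z // ¬ x z = z} := Fintype.equivOfCardEq hcard
  refine ⟨(Perm.ofSubtype (p := fun z : Fin n => ¬ x z = z)).comp e.permCongrHom.toMonoidHom,
    fun a b h => e.permCongrHom.injective (Perm.ofSubtype_injective h), fun σ => ?_, fun σ z hz =>
      Perm.ofSubtype_apply_of_not_mem (p := fun z : Fin n => ¬ x z = z) _ (not_not.2 hz)⟩
  show Perm.sign (Perm.ofSubtype (e.permCongr σ)) = _
  rw [Perm.sign_ofSubtype, Perm.sign_permCongr]

/-- An element of order prime to `p` centralizing the cycles of `x` fixes their points. -/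
theorem apply_eq_self_of_commute [hp : Fact p.Prime] {α : Type} [Fintype α] [DecidableEq α] {x g : Perm α}
    (hx : x ^ p = 1) (hg : ¬ p ∣ orderOf g) (hcomm : ∀ e ∈ cycGroup x, Commute g e) {z : α} (hz : x z ≠ z) :
    g z = z := by
  have hgx : Commute g x := hcomm x ⟨Commute.refl x, fun y => Perm.sameCycle_apply_right.2 (Perm.SameCycle.refl _ _)⟩
  obtain ⟨i, hi⟩ : x.SameCycle z (g z) := by
    by_contra hns
    have h1 := congrArg (fun k : Perm α => k z) (hcomm _ (cycleOf_mem_cycGroup x z)).eq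
    simp only [Perm.mul_apply, Perm.cycleOf_apply_self] at h1
    rw [Perm.cycleOf_apply_of_not_sameCycle hns] at h1
    exact hz (g.injective h1)
  have hpow : ∀ m : ℕ, (g ^ m) z = (x ^ (i * m)) z := by
    intro m
    induction m with
    | zero => simp
    | succ m ih =>
      rw [pow_succ', Perm.mul_apply, ih, commute_zpow_apply hgx, ← hi, ← Perm.mul_apply, ← zpow_add]
      push_cast
      rw [mul_add, mul_one]
  have h1 := hpow (orderOf g)
  rw [pow_orderOf_eq_one] at h1
  obtain ⟨a, b, hab⟩ : IsCoprime ((orderOf g : ℕ) : ℤ) (p : ℤ) :=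
    Int.isCoprime_iff_nat_coprime.2 (by simpa using (Nat.Prime.coprime_iff_not_dvd hp.out).2 hg |>.symm)
  rw [← hi]
  have h2 : x ^ i = (x ^ (i * (orderOf g : ℤ))) ^ a * ((x ^ (p : ℤ)) ^ (i * b)) := by
    rw [← zpow_mul, ← zpow_mul, ← zpow_add]
    congr 1
    linear_combination -i * hab
  rw [h2, zpow_natCast, hx, one_zpow, mul_one]
  exact Perm.zpow_apply_eq_self_of_apply_eq_self h1.symm a

/-- The defect groups are images of the wreath model, parity preserved. -/
theorem exists_model [Fact p.Prime] {M : Ideal AlgInt} [M.IsPrime] (hM : IsPModular p M)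
    (hN : 3 * n ≤ N) (hNp : 2 * p + n < N) {c : Fin N → ℤ} {w : ℕ} (h : Data N n p c w)
    {B : Set (IrrCharacter (Perm (Fin n)))} (hB : IsPBlock M B) (hsub : B ⊆ clsSet N n p (cts p c))
    {P : Subgroup (Perm (Fin n))} (hP : IsDefectGroup p M B P) :
    ∃ (T : Sylow p (Perm (Fin w))) (f : Perm (Fin w × ZMod p) →* Perm (Fin n)), Function.Injective f ∧
      (∀ σ, Perm.sign (f σ) = Perm.sign σ) ∧ (wreath p (T : Subgroup (Perm (Fin w)))).map f = P := by
  classical
  have hp := hM.1
  have hd := blockDefect_eq_weight hM hN hNp h hB hsub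
  obtain ⟨x, hx, hfix, -⟩ := exists_cycles hp h.mul_le
  obtain ⟨χ, hχ⟩ := Blocks.IsPBlock.nonempty hB
  obtain ⟨a, ha, hχa⟩ := hsub hχ
  have hne : (χ : Perm (Fin n) → ℂ) x ≠ 0 := by
    rw [hχa]; exact exists_chi_cycles_ne_zero hp hN h ha hx hfix
  obtain ⟨g₀, hg₀⟩ := exists_conj_le_defect hM hB hP hχ (exists_pow_order hp hx) hne
    (E := cycGroup x) (fun e he => he.1) (fun g hg e he => conj_mem_cycGroup hg he)
    (fun e => ⟨1, by rw [pow_one]; exact Subtype.ext (cycGroup_pow hx e.2)⟩)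
  obtain ⟨g, hg, hle, hs⟩ := Blocks.isDefectGroup_iff.1 hP
  have hreg := Blocks.IsDefectClass.not_dvd_orderOf hM hB hg
  obtain ⟨f₀, hf₀i, hf₀s, hf₀f⟩ := exists_embedding (p := p) h.mul_le hfix
  -- the pulled back class representative fixes the moved points
  set g' := MulAut.conj g₀⁻¹ g with hg'
  have hgfix : ∀ z, x z ≠ z → g' z = z := fun z hz => by
    refine apply_eq_self_of_commute hx (by rwa [hg', MulEquiv.orderOf_eq]) (fun e he => ?_) hz
    have h1 : Commute g (MulAut.conj g₀ e) :=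
      (Blocks.mem_centralizer_singleton.1 (hle (hg₀ ⟨e, he, rfl⟩))).symm
    have h2 := h1.map (MulAut.conj g₀⁻¹).toMonoidHom
    simpa [hg', MulAut.conj_apply, mul_assoc] using h2
  have hcomm : ∀ σ, Commute (f₀ σ) g' := fun σ => Equiv.ext fun z => by
    rw [Perm.mul_apply, Perm.mul_apply]
    by_cases hz : x z = z
    · by_cases hz' : x (g' z) = g' z
      · rw [hf₀f σ z hz, hf₀f σ _ hz']
      · have e : g' z = z := g'.injective (hgfix _ hz')
        rw [e, hf₀f σ z hz, e]
    · by_cases hz' : x (f₀ σ z) = f₀ σ z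
      · have e : f₀ σ z = z := (f₀ σ).injective (hf₀f σ _ hz')
        rw [hgfix z hz, e, hgfix z hz]
      · rw [hgfix z hz, hgfix _ hz']
  let T : Sylow p (Perm (Fin w)) := default
  let f₁ := (MulAut.conj g₀).toMonoidHom.comp f₀
  have hf₁C : ∀ σ, f₁ σ ∈ Subgroup.centralizer ({g} : Set (Perm (Fin n))) := fun σ => by
    refine Blocks.mem_centralizer_singleton.2 ?_
    have h2 := (hcomm σ).map (MulAut.conj g₀).toMonoidHom
    simpa [f₁, hg', MulAut.conj_apply, mul_assoc] using h2
  have hf₁i : Function.Injective f₁ := (MulAut.conj g₀).injective.comp hf₀i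
  set W := (wreath p (T : Subgroup (Perm (Fin w)))).map f₁ with hW
  have hWc : Nat.card W = p ^ (w + vf p w) := by
    rw [hW, Subgroup.card_map_of_injective hf₁i, card_wreath_sylow]
  obtain ⟨k, -, hk⟩ := hs.exists_conj_mem (X := W) (by rintro _ ⟨σ, -, rfl⟩; exact hf₁C σ)
    (IsPGroup.of_card hWc)
  refine ⟨T, (MulAut.conj k).toMonoidHom.comp f₁, (MulAut.conj k).injective.comp hf₁i, fun σ => ?_, ?_⟩
  · simp [f₁, MulAut.conj_apply, hf₀s, mul_comm, mul_left_comm]
    rw [← mul_assoc, Int.units_mul_self, one_mul, ← mul_assoc, Int.units_mul_self, one_mul]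
  · refine Subgroup.eq_of_le_of_card_ge ?_ ?_
    · rintro _ ⟨σ, hσ, rfl⟩
      exact hk _ ⟨σ, hσ, rfl⟩
    · rw [Subgroup.card_map_of_injective ((MulAut.conj k).injective.comp hf₁i), card_wreath_sylow,
        Blocks.IsDefectGroup.card_eq hM hB hP, hd]

end CfsgLib.SymBeta
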