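import Cfsg.Agent.Lib.Char.SymBeta.Dual
import Mathlib.LinearAlgebra.Vandermonde
import Mathlib.RingTheory.Polynomial.Pochhammer

/-!
# The value at the identity as a quotient by a product over the gaps
-/

set_option autoImplicit false

namespace CfsgLib.SymBeta

open Finset Equiv Polynomial

variable {N : ℕ}

/-- The number of pairs of a gap below an element. -/
def gapNum (T : Finset ℕ) : ℕ := ∑ v ∈ T, (range v \ T).card

/-- The product of the distances down to the gaps. -/
def hookProd (T : Finset ℕ) : ℕ := ∏ v ∈ T, ∏ u ∈ range v \ T, (v - u)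

theorem hookProd_pos (T : Finset ℕ) : 0 < hookProd T :=
  prod_pos fun v _ => prod_pos fun u hu => by
    simp only [mem_sdiff, mem_range] at hu
    omega

/-- The natural numbers of a tuple. -/
def nset (q : Fin N → ℤ) : Finset ℕ := univ.image fun i => (q i).toNat

theorem toNat_strictMono {q : Fin N → ℤ} (hq : StrictMono q) (h0 : ∀ i, 0 ≤ q i) :
    StrictMono fun i => (q i).toNat := fun i j h => by
  have := hq h
  have := h0 i
  show (q i).toNat < (q j).toNat
  omega

theorem nset_below {q : Fin N → ℤ} (hq : StrictMono q) (h0 : ∀ i, 0 ≤ q i) (j : Fin N) :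
    nset q ∩ range (q j).toNat = (Iio j).image fun i => (q i).toNat := by
  have hm := toNat_strictMono hq h0
  ext v
  simp only [nset, mem_inter, mem_image, mem_univ, true_and, mem_range, mem_Iio]
  constructor
  · rintro ⟨⟨i, rfl⟩, h⟩
    exact ⟨i, hm.lt_iff_lt.1 h, rfl⟩
  · rintro ⟨i, hi, rfl⟩
    exact ⟨⟨i, rfl⟩, hm hi⟩

/-- The sum of a set of naturals. -/
theorem sum_eq_base_add_gapNum (T : Finset ℕ) :
    ∑ v ∈ T, (v : ℤ) = base T.card + gapNum T := by
  have h : ∀ v ∈ T, (v : ℤ) = ((T ∩ range v).card : ℤ) + ((range v \ T).card : ℤ) := fun v _ => by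
    rw [← Nat.cast_add, inter_comm, card_inter_add_card_sdiff, card_range]
  rw [sum_congr rfl h, sum_add_distrib, gapNum, Nat.cast_sum]
  congr 1
  set e := T.orderEmbOfFin rfl
  have himg : univ.image e = T := image_orderEmbOfFin_univ T rfl
  conv_lhs => arg 1; rw [← himg]
  rw [sum_image fun i _ j _ hij => e.injective hij]
  refine sum_congr rfl fun i _ => ?_
  have : univ.image e ∩ range (e i) = (Iio i).image e := by
    ext v
    simp only [mem_inter, mem_image, mem_univ, true_and, mem_range, mem_Iio]
    constructor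
    · rintro ⟨⟨l, rfl⟩, h⟩
      exact ⟨l, e.lt_iff_lt.1 h, rfl⟩
    · rintro ⟨l, hl, rfl⟩
      exact ⟨⟨l, rfl⟩, e.lt_iff_lt.2 hl⟩
  rw [himg] at this
  rw [this, card_image_of_injective _ e.injective, Fin.card_Iio]

/-- The difference product. -/
def dlt (q : Fin N → ℤ) : ℤ := (Matrix.vandermonde q).det

theorem dlt_eq_det (q : Fin N → ℤ) :
    dlt q = (Matrix.of fun i j : Fin N => (descPochhammer ℤ j).eval (q i)).det :=
  Matrix.det_eval_matrixOfPolynomials_eq_det_vandermonde q (fun j : Fin N => descPochhammer ℤ j)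
    (fun j => descPochhammer_natDegree ℤ _) fun j => monic_descPochhammer ℤ _

theorem eval_desc_sub_one (j : ℕ) (x : ℤ) :
    x * (descPochhammer ℤ j).eval (x - 1) = (descPochhammer ℤ j).eval x * (x - j) := by
  rw [← descPochhammer_succ_eval, descPochhammer_succ_left, eval_mul, eval_X, eval_comp, eval_sub,
    eval_X, eval_one]

/-- Lowering one entry of the difference product. -/
theorem sum_mul_dlt_sub (q : Fin N → ℤ) :
    ∑ i, q i * dlt (q - Pi.single i 1) = (∑ i, q i - base N) * dlt q := by
  simp only [dlt_eq_det, Matrix.det_apply', Matrix.of_apply, mul_sum]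
  rw [sum_comm]
  refine sum_congr rfl fun π _ => ?_
  have key : ∀ i, q i * ∏ k : Fin N, (descPochhammer ℤ k).eval ((q - Pi.single i 1 : Fin N → ℤ) (π k)) =
      (q i - ((π.symm i : Fin N) : ℤ)) * ∏ k : Fin N, (descPochhammer ℤ k).eval (q (π k)) := by
    intro i
    rw [← mul_prod_erase univ _ (mem_univ (π.symm i)), ← mul_prod_erase univ _ (mem_univ (π.symm i))]
    simp only [Equiv.apply_symm_apply, Pi.sub_apply, Pi.single_eq_same]
    rw [← mul_assoc, eval_desc_sub_one, ← mul_assoc, mul_comm (q i - _)]
    refine congrArg (_ * ·) (prod_congr rfl fun k hk => ?_)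
    rw [Pi.single_eq_of_ne (fun h => (ne_of_mem_erase hk) (by simp [← h])), sub_zero]
  have hb : ∑ i, ((π.symm i : Fin N) : ℤ) = base N := Equiv.sum_comp π.symm fun i : Fin N => (i : ℤ)
  calc ∑ i, q i * (((Perm.sign π : ℤˣ) : ℤ) *
        ∏ k : Fin N, (descPochhammer ℤ k).eval ((q - Pi.single i 1 : Fin N → ℤ) (π k)))
      = ∑ i, (q i - ((π.symm i : Fin N) : ℤ)) *
          (((Perm.sign π : ℤˣ) : ℤ) * ∏ k : Fin N, (descPochhammer ℤ k).eval (q (π k))) :=
        sum_congr rfl fun i _ => by rw [mul_left_comm, key]; ring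
    _ = (∑ i, q i - base N) *
          (((Perm.sign π : ℤˣ) : ℤ) * ∏ k : Fin N, (descPochhammer ℤ k).eval (q (π k))) := by
        rw [← sum_mul, sum_sub_distrib, hb]

theorem dlt_eq_zero {q : Fin N → ℤ} (h : ¬ Function.Injective q) : dlt q = 0 := by
  rw [dlt, Matrix.det_vandermonde_eq_zero_iff]
  simp only [Function.Injective, not_forall] at h
  obtain ⟨i, j, hij, hne⟩ := h
  exact ⟨i, j, hij, hne⟩

theorem dlt_pos {q : Fin N → ℤ} (hq : StrictMono q) : 0 < dlt q := by
  rw [dlt, Matrix.det_vandermonde]
  exact prod_pos fun i _ => prod_pos fun j hj => sub_pos.2 (hq (mem_Ioi.1 hj))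

/-- The product of the factorials. -/
def fprod (q : Fin N → ℤ) : ℕ := ∏ i, (q i).toNat.factorial

theorem prod_range_sub (v : ℕ) : ∏ u ∈ range v, (v - u) = v.factorial := by
  rw [← Nat.descFactorial_eq_prod_range, Nat.descFactorial_self]

theorem fprod_eq {q : Fin N → ℤ} (hq : StrictMono q) (h0 : ∀ i, 0 ≤ q i) :
    (fprod q : ℤ) = dlt q * hookProd (nset q) := by
  have hm := toNat_strictMono hq h0
  rw [dlt, Matrix.det_vandermonde, prod_comm' (t' := univ) (s' := fun j : Fin N => Iio j) (by simp),
    hookProd, nset, prod_image fun i _ j _ h => hm.injective h, Nat.cast_prod, ← prod_mul_distrib,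
    fprod, Nat.cast_prod]
  refine prod_congr rfl fun j _ => ?_
  rw [← prod_range_sub, ← prod_inter_mul_prod_diff (range (q j).toNat) (nset q), Nat.cast_mul,
    inter_comm, nset_below hq h0, prod_image fun i _ l _ h => hm.injective h]
  congr 1
  rw [Nat.cast_prod]
  refine prod_congr rfl fun i hi => ?_
  have := hm (mem_Iio.1 hi)
  simp only at this
  rw [Nat.cast_sub this.le, Int.toNat_of_nonneg (h0 j), Int.toNat_of_nonneg (h0 i)]

/-- Iterated raising of the delta function, times the factorials. -/
theorem fprod_mul_up (m : ℕ) : ∀ q : Fin N → ℤ, StrictMono q → (∀ i, 0 ≤ q i) →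
    ∑ i, q i = base N + m →
    (fprod q : ℂ) * (up (1 : ℤ))^[m] (delta N) q = (m.factorial : ℂ) * (dlt q : ℂ) := by
  induction m with
  | zero =>
    intro q hq h0 hs
    have hmem : q ∈ Idx N 0 := mem_Idx.2 ⟨hq, h0, by simpa using hs⟩
    rw [Idx_zero, mem_singleton] at hmem
    have hg : gapNum (nset q) = 0 := by
      have h1 := sum_eq_base_add_gapNum (nset q)
      have hinj := (toNat_strictMono hq h0).injective
      rw [nset, sum_image fun i _ j _ h => hinj h, card_image_of_injective _ hinj, card_univ,
        Fintype.card_fin, sum_congr rfl fun i _ => Int.toNat_of_nonneg (h0 i), hs] at h1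
      simpa [nset] using h1.symm
    have hh : hookProd (nset q) = 1 := by
      refine prod_eq_one fun v hv => ?_
      rw [card_eq_zero.1 (Finset.sum_eq_zero_iff.1 hg v hv), prod_empty]
    have h2 := fprod_eq hq h0
    rw [hh, Nat.cast_one, mul_one] at h2
    rw [Function.iterate_zero_apply, hmem, delta_id, ← hmem, Nat.factorial_zero, Nat.cast_one, one_mul,
      mul_one, ← h2]
    norm_cast
  | succ m ih =>
    intro q hq h0 hs
    rw [Function.iterate_succ_apply', up, mul_sum]
    have hF := (supp_up_iterate (p := 1) (supp_delta (N := N)) anti_delta m).1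
    have hterm : ∀ i, (fprod q : ℂ) * (up (1 : ℤ))^[m] (delta N) (q - Pi.single i 1) =
        (m.factorial : ℂ) * ((q i * dlt (q - Pi.single i 1) : ℤ) : ℂ) := by
      intro i
      by_cases hgood : Function.Injective (q - Pi.single i 1 : Fin N → ℤ) ∧ 1 ≤ q i
      · obtain ⟨hinj, hqi⟩ := hgood
        have hmono : StrictMono (q - Pi.single i 1 : Fin N → ℤ) := by
          refine Monotone.strictMono_of_injective (fun u v huv => ?_) hinj
          rcases huv.lt_or_eq with h | rfl
          · have := hq h
            simp only [Pi.sub_apply, Pi.single_apply]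
            split_ifs <;> omega
          · exact le_rfl
        have hnn : ∀ l, 0 ≤ (q - Pi.single i 1 : Fin N → ℤ) l := fun l => by
          have := h0 l
          rcases eq_or_ne l i with rfl | h <;> simp [*]
        have hsum : ∑ l, (q - Pi.single i 1 : Fin N → ℤ) l = base N + m := by
          simp [sum_sub_distrib]
          push_cast at hs
          linarith
        have hfp : fprod q = (q i).toNat * fprod (q - Pi.single i 1 : Fin N → ℤ) := by
          unfold fprod
          rw [← mul_prod_erase univ (fun l => (q l).toNat.factorial) (mem_univ i)]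
          conv_rhs => rw [← mul_prod_erase univ _ (mem_univ i), ← mul_assoc]
          congr 1
          · simp only [Pi.sub_apply, Pi.single_eq_same]
            rw [show (q i).toNat = (q i - 1).toNat + 1 by omega, Nat.factorial_succ]
          · exact prod_congr rfl fun l hl => by simp [Pi.single_eq_of_ne (ne_of_mem_erase hl)]
        have hqc : (((q i).toNat : ℕ) : ℂ) = (q i : ℂ) := by
          rw [← Int.cast_natCast, Int.toNat_of_nonneg (h0 i)]
        rw [hfp, Nat.cast_mul, mul_assoc, ih _ hmono hnn hsum, hqc]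
        push_cast
        ring
      · have hzero : (up (1 : ℤ))^[m] (delta N) (q - Pi.single i 1 : Fin N → ℤ) = 0 := by
          by_contra hne
          obtain ⟨h1, h2, -⟩ := hF _ (by simpa using hne)
          have := h2 i
          simp at this
          exact hgood ⟨h1, by omega⟩
        rw [hzero, mul_zero]
        rcases not_and_or.1 hgood with h | h
        · rw [dlt_eq_zero h]; simp
        · rw [show q i = 0 by have := h0 i; omega]; simp
    rw [sum_congr rfl fun i _ => hterm i, ← mul_sum, ← Int.cast_sum, sum_mul_dlt_sub, hs,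
      Nat.factorial_succ]
    push_cast
    ring

/-- The degree times the gap product is a factorial. -/
theorem exists_degree {m : ℕ} {q : Fin N → ℤ} (hq : q ∈ Idx N m) :
    ∃ M : ℕ, (up (1 : ℤ))^[m] (delta N) q = M ∧ M * hookProd (nset q) = m.factorial := by
  obtain ⟨hm, h0, hs⟩ := mem_Idx.1 hq
  have hmaj : RMajor 1 q := fun i j h => Or.inr ⟨by simp, hm h⟩
  obtain ⟨c, w, hc1, hc2, hc3, -, hc5, hc6⟩ := exists_packed one_pos hmaj h0
  have hid : Packed 1 (fun i : Fin N => (i : ℤ)) := fun i hi => by
    simp only [Nat.cast_one] at hi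
    exact ⟨⟨i.1 - 1, by omega⟩, by simp; omega⟩
  have hid' : StrictMono fun i : Fin N => (i : ℤ) := fun i j h => by simpa using h
  have hc' : StrictMono c := fun i j h => (hc1 i j h).elim (fun h' => absurd h' (by simp)) (·.2)
  have hr := Packed.range_eq one_pos hc3 hid hc1.injective hid'.injective hc2
    (fun i => Int.natCast_nonneg _) (by funext r; simp [cts])
  obtain rfl := (hc'.range_inj hid').1 hr
  have hw : w = m := by
    have : ∑ i : Fin N, (i : ℤ) = base N := rfl
    rw [this, hs] at hc5
    simpa using hc5.symm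
  subst hw
  obtain ⟨M, -, hMeq⟩ := hc6 supp_delta anti_delta
  rw [delta_id, mul_one, Nat.cast_one] at hMeq
  refine ⟨M, hMeq, ?_⟩
  have h := fprod_mul_up w q hm h0 hs
  rw [hMeq, ← Int.cast_natCast (fprod q), fprod_eq hm h0] at h
  have h2 : dlt q * hookProd (nset q) * (M : ℤ) = (w.factorial : ℤ) * dlt q := by exact_mod_cast h
  have h3 : ((M * hookProd (nset q) : ℕ) : ℤ) = (w.factorial : ℤ) :=
    mul_left_cancel₀ (dlt_pos hm).ne' (by push_cast; linarith)
  exact_mod_cast h3

theorem hookProd_dvd (T : Finset ℕ) : hookProd T ∣ (gapNum T).factorial := by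
  set e := T.orderEmbOfFin rfl
  let q : Fin T.card → ℤ := fun i => (e i : ℤ)
  have himg : univ.image e = T := image_orderEmbOfFin_univ T rfl
  have hq : q ∈ Idx T.card (gapNum T) := mem_Idx.2 ⟨fun i j h => by simpa [q] using e.strictMono h,
    fun i => Int.natCast_nonneg _, by
      rw [← sum_eq_base_add_gapNum, ← sum_image (f := fun v : ℕ => (v : ℤ)) (fun i _ j _ hij => e.injective hij),
        himg]⟩
  obtain ⟨M, -, hM⟩ := exists_degree hq
  refine ⟨M, ?_⟩
  have : nset q = T := by simp [nset, q, himg]
  rw [← hM, this, mul_comm]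

end CfsgLib.SymBeta
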