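import Cfsg.Agent.Lib.Char.SymBeta.Class
import Cfsg.Prelude.Def_CaseTheorems

/-!
# A product of disjoint cycles of prime length, and the group it spans
-/

set_option autoImplicit false

namespace CfsgLib.SymBeta

open Finset Equiv

universe u

variable {N p : ℕ}

/-- The permutations commuting with `x` and preserving its cycles. -/
def cycGroup {α : Type u} (x : Perm α) : Subgroup (Perm α) where
  carrier := {ρ | Commute ρ x ∧ ∀ z, x.SameCycle z (ρ z)}
  one_mem' := ⟨Commute.one_left x, fun _ => Perm.SameCycle.refl _ _⟩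
  mul_mem' := fun {a b} ha hb => ⟨ha.1.mul_left hb.1, fun z => (hb.2 z).trans (ha.2 (b z))⟩
  inv_mem' := fun {a} ha => ⟨ha.1.inv_left, fun z => by
    have := ha.2 (a⁻¹ z)
    rw [show a (a⁻¹ z) = z by simp] at this
    exact this.symm⟩

theorem commute_zpow_apply {α : Type u} {x ρ : Perm α} (h : Commute ρ x) (i : ℤ) (z : α) :
    ρ ((x ^ i) z) = (x ^ i) (ρ z) := by
  rw [← Perm.mul_apply, (h.zpow_right i).eq, Perm.mul_apply]

theorem cycGroup_comm {α : Type u} {x : Perm α} {a b : Perm α} (ha : a ∈ cycGroup x)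
    (hb : b ∈ cycGroup x) : a * b = b * a := by
  refine Equiv.ext fun z => ?_
  obtain ⟨i, hi⟩ := ha.2 z
  obtain ⟨j, hj⟩ := hb.2 z
  rw [Perm.mul_apply, Perm.mul_apply, ← hj, commute_zpow_apply ha.1, ← hi, commute_zpow_apply hb.1, ← hj,
    ← Perm.mul_apply, ← Perm.mul_apply, ← zpow_add, ← zpow_add, add_comm]

theorem cycGroup_pow {α : Type u} {x : Perm α} (hx : x ^ p = 1) {a : Perm α} (ha : a ∈ cycGroup x) :
    a ^ p = 1 := by
  refine Equiv.ext fun z => ?_
  obtain ⟨i, hi⟩ := ha.2 z
  have h : ∀ m : ℕ, (a ^ m) z = (x ^ (i * m)) z := by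
    intro m
    induction m with
    | zero => simp
    | succ m ih =>
      rw [pow_succ', Perm.mul_apply, ih, commute_zpow_apply ha.1, ← hi, ← Perm.mul_apply, ← zpow_add]
      push_cast
      rw [mul_add, mul_one]
  rw [h, mul_comm, zpow_mul, zpow_natCast, hx, one_zpow]

theorem conj_mem_cycGroup {α : Type u} {x g ρ : Perm α} (hg : Commute g x) (hρ : ρ ∈ cycGroup x) :
    g * ρ * g⁻¹ ∈ cycGroup x := by
  refine ⟨(hg.mul_left hρ.1).mul_left hg.inv_left, fun z => ?_⟩
  obtain ⟨i, hi⟩ := hρ.2 (g⁻¹ z)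
  refine ⟨i, ?_⟩
  rw [Perm.mul_apply, Perm.mul_apply, ← hi, commute_zpow_apply hg]
  simp

theorem val_pow_prime (hp : p.Prime) {α : Type} [Fintype α] [DecidableEq α] {σ : Perm α}
    (hσ : σ ^ p = 1) {r : ℕ} (w : ℕ) (hr : (univ.filter fun z => σ z = z).card = r)
    (hα : Fintype.card α = r + p * w) :
    val N σ = (up (p : ℤ))^[w] ((up (1 : ℤ))^[r] (delta N)) := by
  induction w generalizing α with
  | zero =>
    have h1 : σ = 1 := Equiv.ext fun z => by
      have := eq_univ_of_card _ (hr.trans (by omega : r = Fintype.card α))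
      simpa using (Finset.ext_iff.1 this z).2 (mem_univ z)
    subst h1
    rw [val_one_eq, hα, mul_zero, add_zero, Function.iterate_zero_apply]
  | succ w ih =>
    obtain ⟨z, hz⟩ : ∃ z, σ z ≠ z := by
      by_contra hall
      push Not at hall
      rw [filter_true_of_mem fun z _ => hall z, card_univ, hα, mul_add] at hr
      have := hp.pos
      omega
    have hc : cyc σ z = p := by
      rcases (Nat.dvd_prime hp).1 ((pow_apply_eq_iff σ z p).1 (by rw [hσ]; rfl)) with h | h
      · exact absurd ((pow_apply_eq_iff σ z 1).2 (h ▸ dvd_rfl)) (by simpa using hz)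
      · exact h
    have hcard := card_off σ z
    rw [val_split σ z, hc, ih (σ := off σ z) ?_ ?_ ?_, Function.iterate_succ_apply']
    · rw [off, Perm.subtypePerm_pow]
      exact Equiv.ext fun y => Subtype.ext (show (σ ^ p) y.1 = y.1 by rw [hσ]; rfl)
    · rw [← hr]
      refine card_bij (fun y _ => y.1) (fun y hy => ?_) (fun _ _ _ _ h => Subtype.ext h) fun y hy => ?_
      · simp only [mem_filter, mem_univ, true_and] at hy ⊢
        exact congrArg Subtype.val hy
      · simp only [mem_filter, mem_univ, true_and] at hy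
        refine ⟨⟨y, fun h => hz ?_⟩, by simp [Subtype.ext_iff, hy], rfl⟩
        obtain ⟨i, rfl⟩ := h
        rw [← Perm.mul_apply, ← zpow_one_add, add_comm, zpow_add_one, Perm.mul_apply] at hy
        exact (σ ^ i).injective hy
    · rw [mul_add, mul_one] at hα
      omega

/-- A product of `w` disjoint `p`-cycles. -/
theorem exists_cycles (hp : p.Prime) {n w : ℕ} (hn : p * w ≤ n) :
    ∃ x : Perm (Fin n), x ^ p = 1 ∧ (univ.filter fun z => x z = z).card = n - p * w ∧
      p ^ w ≤ Nat.card (cycGroup x) := by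
  classical
  haveI := Fact.mk hp
  haveI := Fact.mk hp.one_lt
  let β := (Fin w × ZMod p) ⊕ Fin (n - p * w)
  let e : β ≃ Fin n := Fintype.equivFinOfCardEq (by
    simp only [β, Fintype.card_sum, Fintype.card_prod, Fintype.card_fin, ZMod.card]
    rw [mul_comm]; omega)
  let tr : (Fin w → ZMod p) → Perm β := fun f =>
    Equiv.sumCongr
      { toFun := fun q => (q.1, q.2 + f q.1)
        invFun := fun q => (q.1, q.2 - f q.1)
        left_inv := fun q => by simp
        right_inv := fun q => by simp } 1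
  have trl : ∀ f k i, tr f (Sum.inl (k, i)) = Sum.inl (k, i + f k) := fun _ _ _ => rfl
  have trr : ∀ f l, tr f (Sum.inr l) = Sum.inr l := fun _ _ => rfl
  have htr : ∀ f g, tr f * tr g = tr (f + g) := fun f g => Equiv.ext fun q => by
    rcases q with ⟨k, i⟩ | l
    · simp [trl, add_assoc, add_comm (g k)]
    · rfl
  let ψ : (Fin w → ZMod p) → Perm (Fin n) := fun f => e.permCongrHom (tr f)
  have hψ : ∀ f g, ψ f * ψ g = ψ (f + g) := fun f g => by simp only [ψ, ← map_mul, htr]
  have hψ0 : ψ 0 = 1 := mul_right_cancel (b := ψ 0) (by rw [hψ, add_zero, one_mul])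
  set x := ψ 1 with hx
  have hxk : ∀ m : ℕ, x ^ m = ψ (m • 1) := fun m => by
    induction m with
    | zero => simp [hψ0]
    | succ m ih => rw [pow_succ, ih, hx, hψ, succ_nsmul]
  have happ : ∀ f q, ψ f (e q) = e (tr f q) := fun f q => by simp [ψ, Equiv.permCongr_apply]
  refine ⟨x, ?_, ?_, ?_⟩
  · rw [hxk, show p • (1 : Fin w → ZMod p) = 0 from funext fun k => by simp, hψ0]
  · refine Eq.trans ?_ (Fintype.card_fin (n - p * w))
    rw [← card_univ (α := Fin (n - p * w))]
    refine (card_bij (fun l _ => e (Sum.inr l)) (fun l _ => ?_) (fun _ _ _ _ h => Sum.inr.inj (e.injective h))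
      fun z hz => ?_).symm
    · simp [hx, happ, trr]
    · simp only [mem_filter, mem_univ, true_and] at hz
      obtain ⟨⟨k, i⟩ | l, rfl⟩ := e.surjective z
      · rw [hx, happ] at hz
        simp [trl] at hz
        exact absurd (congrArg Prod.snd (Sum.inl.inj hz)) (by simp)
      · exact ⟨l, mem_univ _, rfl⟩
  · have hmem : ∀ f, ψ f ∈ cycGroup x := fun f => ⟨by
        show ψ f * ψ 1 = ψ 1 * ψ f
        rw [hψ, hψ, add_comm], fun z => by
      obtain ⟨⟨k, i⟩ | l, rfl⟩ := e.surjective z
      · refine ⟨((f k).val : ℤ), ?_⟩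
        rw [zpow_natCast, hxk, happ, happ]
        simp [trl, -ZMod.natCast_val, ZMod.natCast_zmod_val]
      · exact ⟨0, by simp [happ, trr]⟩⟩
    have hinj : Function.Injective fun f => (⟨ψ f, hmem f⟩ : cycGroup x) := fun f g h => by
      funext k
      have := congrArg (fun ρ : Perm (Fin n) => ρ (e (Sum.inl (k, 0)))) (congrArg Subtype.val h)
      simp only [happ, trl, zero_add] at this
      exact congrArg Prod.snd (Sum.inl.inj (e.injective this))
    refine le_trans (le_of_eq ?_) (Nat.card_le_card_of_injective _ hinj)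
    simp [Nat.card_eq_fintype_card]

/-- An elementary abelian subgroup bounds the sectional rank from below. -/
theorem pow_le_of_sectional {G : Type u} [Group G] [Finite G] {D E : Subgroup G} {s : ℕ}
    (hED : E ≤ D) (hcomm : ∀ a ∈ E, ∀ b ∈ E, a * b = b * a) (hexp : ∀ a ∈ E, a ^ p = 1)
    (hs : Cfsg.SectionalPRankLE p s D) : Nat.card E ≤ p ^ s := by
  haveI : (⊥ : Subgroup (E.subgroupOf D)).Normal := inferInstance
  have h := hs (E.subgroupOf D) ⊥ ⊤ ⟨⟨fun a b => by
    obtain ⟨a, -⟩ := a
    obtain ⟨b, -⟩ := b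
    induction a using QuotientGroup.induction_on with | _ a =>
    induction b using QuotientGroup.induction_on with | _ b =>
    exact Subtype.ext (congrArg QuotientGroup.mk (Subtype.ext (Subtype.ext (hcomm _ a.2 _ b.2))))⟩⟩
    fun a _ => by
      induction a using QuotientGroup.induction_on with | _ a =>
      rw [← QuotientGroup.mk_pow, show a ^ p = 1 from Subtype.ext (Subtype.ext (hexp _ a.2))]
      rfl
  rwa [Subgroup.card_top, Nat.card_congr (QuotientGroup.quotientBot).toEquiv,
    Nat.card_congr (Subgroup.subgroupOfEquivOfLe hED).toEquiv] at h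

end CfsgLib.SymBeta
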