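import Cfsg.Agent.Lib.Char.SymBeta.Quotient
import Mathlib.NumberTheory.Padics.PadicVal.Basic

/-!
# Members of a residue class of largest and next to largest exponent
-/

set_option autoImplicit false

namespace CfsgLib.SymBeta

open Finset Equiv

variable {N n p : ℕ}

/-- The exponent of `p` in a factorial. -/
def vf (p m : ℕ) : ℕ := m.factorial.factorization p

theorem vf_mul_add [hp : Fact p.Prime] (q : ℕ) {d : ℕ} (hd : d < p) : vf p (p * q + d) = q + vf p q := by
  simp only [vf, Nat.factorization_def _ hp.out]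
  rw [padicValNat_factorial_mul_add q hd, padicValNat_factorial_mul q, add_comm]

theorem vf_small [Fact p.Prime] {d : ℕ} (hd : d < p) : vf p d = 0 := by
  rw [vf]
  exact Nat.factorization_factorial_eq_zero_of_lt hd

theorem vf_succ (p q : ℕ) : vf p (q + 1) = vf p q + (q + 1).factorization p := by
  rw [vf, vf, Nat.factorial_succ, Nat.factorization_mul (Nat.succ_ne_zero q) q.factorial_ne_zero,
    Finsupp.add_apply, add_comm]

/-- A binomial coefficient divisible by `p` exactly once. -/
theorem exists_split [hp : Fact p.Prime] : ∀ w, p ≤ w → w % p + 1 < p ∨ p ∣ w / p →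
    ∃ y ≤ w, vf p y + vf p (w - y) + 1 = vf p w := by
  intro w
  induction w using Nat.strong_induction_on with
  | _ w ih =>
    intro hpw hcase
    have hp2 := hp.out.two_le
    have hw := Nat.mod_add_div w p
    have hd := Nat.mod_lt w (by omega : 0 < p)
    have hq : 1 ≤ w / p := Nat.div_pos hpw (by omega)
    set q := w / p
    set d := w % p
    have hwv : vf p w = q + vf p q := by
      rw [← vf_mul_add q hd]; congr 1; omega
    by_cases hdvd : p ∣ q
    · have hqw : q < w := by
        have : 2 * q ≤ p * q := Nat.mul_le_mul_right q hp2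
        omega
      obtain ⟨y, hy, he⟩ := ih q hqw (Nat.le_of_dvd hq hdvd)
        (Or.inl (by rw [Nat.mod_eq_zero_of_dvd hdvd] <;> omega))
      have hyq : p * y + p * (q - y) = p * q := by rw [← mul_add, Nat.add_sub_cancel' hy]
      refine ⟨p * y + d, by omega, ?_⟩
      rw [vf_mul_add y hd, show w - (p * y + d) = p * (q - y) + 0 by omega,
        vf_mul_add (q - y) (by omega : 0 < p), hwv, ← he]
      omega
    · have hlt : d + 1 < p := hcase.resolve_right hdvd
      obtain ⟨m, hm⟩ : ∃ m, q = m + 1 := ⟨q - 1, by omega⟩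
      rw [hm, mul_add, mul_one] at hw
      refine ⟨d + 1, by omega, ?_⟩
      rw [vf_small hlt, show w - (d + 1) = p * m + (p - 1) by omega, vf_mul_add m (by omega : p - 1 < p),
        hwv, hm, vf_succ, Nat.factorization_eq_zero_of_not_dvd (hm ▸ hdvd)]
      omega

theorem two_le_cts {c : Fin N → ℤ} {w : ℕ} (h : Data N n p c w) (hN : 2 * p + n < N) {r : ℕ} (hr : r < p) :
    2 ≤ cts p c r := by
  have hle : ∑ i, c i ≤ base N + (n : ℤ) := by
    have := h.sum_eq
    have : (0 : ℤ) ≤ (p : ℤ) * w := by positivity
    linarith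
  obtain ⟨i, hi⟩ := exists_eq h.core.inj h.core.nonneg hle (Int.natCast_nonneg n)
    (Int.natCast_nonneg r) (by omega)
  obtain ⟨j, hj⟩ := exists_eq h.core.inj h.core.nonneg hle (Int.natCast_nonneg n)
    (Int.natCast_nonneg (r + p)) (by omega)
  refine one_lt_card.2 ⟨i, ?_, j, ?_, fun e => ?_⟩
  · simp only [mem_filter, mem_univ, true_and, hi]
    exact Int.emod_eq_of_lt (by omega) (by omega)
  · simp only [mem_filter, mem_univ, true_and, hj, Nat.cast_add, Int.add_emod_right]
    exact Int.emod_eq_of_lt (by omega) (by omega)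
  · rw [e, hj] at hi
    omega

/-- A function supported on three small arguments. -/
def three (A B C : ℕ) (r : ℕ) : ℕ := if r = 0 then A else if r = 1 then B else if r = 2 then C else 0

theorem sum_three {g : ℕ → ℕ} (hg : g 0 = 0) (hp : 2 ≤ p) (A B C : ℕ) (hC : p = 2 → C = 0) :
    ∑ r ∈ range p, g (three A B C r) = g A + g B + g C := by
  rcases eq_or_lt_of_le hp with rfl | h3
  · rw [sum_range_succ, sum_range_one, hC rfl, hg]
    simp [three]
  rw [← sum_subset (range_subset_range.2 h3 : range 3 ⊆ range p) fun r _ hr => by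
      simp only [mem_range] at hr
      rw [three, if_neg (by omega), if_neg (by omega), if_neg (by omega), hg],
    sum_range_succ, sum_range_succ, sum_range_one]
  simp [three]

theorem exists_row_member [Fact p.Prime] {c : Fin N → ℤ} {w : ℕ} (h : Data N n p c w) (hN : 2 * p + n < N)
    {A B C : ℕ} (hC : p = 2 → C = 0) (hs : A + B + C = w) :
    ∃ a ∈ Cls N n p (cts p c), rem' p a = vf p A + vf p B + vf p C ∧
      ∀ r < p, run p r (nset a) = rowRun (cts p c r) (three A B C r) := by
  have hp2 := (Fact.out : p.Prime).two_le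
  have hk : ∀ r < p, 1 ≤ cts p c r := fun r hr => le_of_lt (two_le_cts h hN hr)
  obtain ⟨a, ha, hrun⟩ := exists_of_runs h (fun r => rowRun (cts p c r) (three A B C r))
    (fun r hr => (rowRun_props (hk r hr) _).1) (by
      rw [sum_congr rfl fun r hr => (rowRun_props (hk r (mem_range.1 hr)) _).2.1,
        sum_three (g := fun x => x) rfl hp2 A B C hC, hs])
  refine ⟨a, ha, ?_, hrun⟩
  rw [rem', sum_congr rfl fun r hr => by
      rw [hrun r (mem_range.1 hr), (rowRun_props (hk r (mem_range.1 hr)) _).2.2],
    sum_three (g := fun x => x.factorial.factorization p) (by simp) hp2 A B C hC]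
  rfl

theorem cts_add_cts {a : Fin N → ℤ} : cts 2 a 0 + cts 2 a 1 = N := by
  rw [cts, cts, show univ.filter (fun i => a i % (2 : ℕ) = 1) = univ.filter (fun i => ¬ a i % (2 : ℕ) = 0) from
    filter_congr fun i _ => by omega, card_filter_add_card_filter_not, card_univ, Fintype.card_fin]

/-- Two low gaps on one runner and a single high bead on the other: not its own mirror. -/
theorem star_ne_of_runs (hn : n ≤ N) {c : Fin N → ℤ} {a : Fin N → ℤ} (ha : a ∈ Cls N n 2 (cts 2 c))
    (hk1 : 1 ≤ cts 2 c 1) {g g' : ℕ} (hgg : g ≠ g') (hg : g ≤ cts 2 c 0) (hg' : g' ≤ cts 2 c 0)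
    (hmg : g ∉ run 2 0 (nset a)) (hmg' : g' ∉ run 2 0 (nset a))
    (h1 : ((run 2 1 (nset a)).filter fun t => cts 2 c 1 - 1 ≤ t).card ≤ 1) : star N a ≠ a := by
  intro e
  obtain ⟨haI, hcts⟩ := mem_Cls.1 ha
  have h0 := (mem_Idx.1 haI).2.1
  have hsd := sd_of_star_eq hn haI e
  have hN' := cts_add_cts (a := a)
  rw [hcts] at hN'
  have key : ∀ t : ℕ, t ≤ cts 2 c 0 → t ∉ run 2 0 (nset a) →
      N - 1 - t ∈ (run 2 1 (nset a)).filter fun t => cts 2 c 1 - 1 ≤ t := by
    intro t ht hnot
    rw [mem_filter, mem_run (by norm_num : 1 < 2), mem_nset h0]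
    refine ⟨?_, by omega⟩
    rw [mem_run (by norm_num : 0 < 2), mem_nset h0] at hnot
    by_contra hne
    have h2 := (hsd.2 (((0 + 2 * t : ℕ) : ℤ)) (by positivity) (by omega)).not.1 hnot
    rw [not_not] at h2
    refine hne ?_
    obtain ⟨i, hi⟩ := h2
    exact ⟨i, by rw [hi]; push_cast; omega⟩
  have := card_le_one.1 h1 _ (key g hg hmg) _ (key g' hg' hmg')
  omega

theorem card_rowRun_filter (k x : ℕ) : ((rowRun k x).filter fun t => k - 1 ≤ t).card ≤ 1 := by
  refine card_le_one.2 fun u hu v hv => ?_
  simp only [rowRun, mem_filter, mem_insert, mem_range] at hu hv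
  omega

/-- The exponent one below the largest is attained. -/
theorem exists_height_one [hp : Fact p.Prime] {c : Fin N → ℤ} {w : ℕ} (h : Data N n p c w)
    (hN : 2 * p + n < N) (hpw : p ≤ w) (hw2 : p = 2 → 3 ≤ w) :
    ∃ a ∈ Cls N n p (cts p c), rem' p a + 1 = vf p w ∧ (p = 2 → star N a ≠ a) := by
  have hp2 := hp.out.two_le
  have hw := Nat.mod_add_div w p
  have hd := Nat.mod_lt w (by omega : 0 < p)
  by_cases hcase : w % p + 1 < p ∨ p ∣ w / p
  · obtain ⟨y, hy, he⟩ := exists_split w hpw hcase
    obtain ⟨a, ha, hrem, hrun⟩ := exists_row_member h hN (A := max y (w - y)) (B := min y (w - y)) (C := 0)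
      (fun _ => rfl) (by omega)
    refine ⟨a, ha, ?_, fun h2 => ?_⟩
    · rw [hrem, vf_small (p := p) (d := 0) (by omega), add_zero]
      rcases le_total y (w - y) with hle | hle
      · rw [max_eq_right hle, min_eq_left hle]; omega
      · rw [max_eq_left hle, min_eq_right hle]; omega
    subst h2
    have hA : 2 ≤ max y (w - y) := by have := hw2 rfl; omega
    have hk0 := two_le_cts h hN (show 0 < 2 by norm_num)
    have hk1 := two_le_cts h hN (show 1 < 2 by norm_num)
    simp only [Nat.cast_zero, Nat.cast_one] at hk0 hk1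
    refine star_ne_of_runs (g := cts 2 c 0 - 1) (g' := cts 2 c 0) (by omega) ha (by omega) (by omega)
      (by omega) le_rfl ?_ ?_ ?_
    · have := hrun 0 (by norm_num)
      simp only [Nat.cast_zero] at this
      rw [this]
      simp [rowRun, three]
      omega
    · have := hrun 0 (by norm_num)
      simp only [Nat.cast_zero] at this
      rw [this]
      simp [rowRun, three]
      omega
    · have := hrun 1 (by norm_num)
      simp only [Nat.cast_one] at this
      rw [this]
      exact card_rowRun_filter _ _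
  simp only [not_or, not_lt] at hcase
  obtain ⟨hd', hndvd⟩ := hcase
  obtain ⟨m, hm⟩ : ∃ m, w / p = m + 1 := ⟨w / p - 1, by have := Nat.div_pos hpw (by omega : 0 < p); omega⟩
  rw [hm, mul_add, mul_one] at hw
  have hwv : vf p w = m + 1 + vf p m := by
    conv_lhs => rw [show w = p * (m + 1) + (p - 1) by rw [mul_add, mul_one]; omega]
    rw [vf_mul_add _ (by omega : p - 1 < p), vf_succ, Nat.factorization_eq_zero_of_not_dvd (hm ▸ hndvd), add_zero]
  rcases eq_or_lt_of_le hp2 with hp2' | hp3
  · subst hp2'
    have hw3 := hw2 rfl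
    have hk0 := two_le_cts h hN (show 0 < 2 by norm_num)
    have hk1 := two_le_cts h hN (show 1 < 2 by norm_num)
    simp only [Nat.cast_zero, Nat.cast_one] at hk0 hk1
    obtain ⟨a, ha, hrun⟩ := exists_of_runs h
      (fun r => if r = 0 then hookRun (cts 2 c 0) w else range (cts 2 c r))
      (fun r hr => by
        split
        case isTrue e => subst e; simpa using (hookRun_props hk0 hw3).1
        case isFalse => exact card_range _)
      (by
        rw [sum_range_succ, sum_range_one, if_pos rfl, if_neg (by norm_num), (hookRun_props hk0 hw3).2.1,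
          gapNum_range, add_zero])
    have hr0 := hrun 0 (by norm_num)
    have hr1 := hrun 1 (by norm_num)
    simp only [if_true] at hr0
    rw [if_neg (by norm_num)] at hr1
    simp only [Nat.cast_one] at hr1
    refine ⟨a, ha, ?_, fun _ => ?_⟩
    · have hh1 : hookProd (range (cts 2 c 1)) = 1 := prod_eq_one fun v hv => by
        rw [sdiff_eq_empty_iff_subset.2 (range_subset_range.2 (mem_range.1 hv).le), prod_empty]
      rw [rem', sum_range_succ, sum_range_one, hr0, hr1, hh1, (hookRun_props hk0 hw3).2.2,
        Nat.factorization_mul (by omega) (Nat.factorial_ne_zero _), Finsupp.add_apply, Nat.factorization_one,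
        Finsupp.coe_zero, Pi.zero_apply, add_zero, Nat.factorization_eq_zero_of_not_dvd (by omega), zero_add]
      show vf 2 (w - 2) + 1 = vf 2 w
      rw [hwv, show w - 2 = 2 * m + 1 by omega, vf_mul_add m (by norm_num)]
      ring
    · refine star_ne_of_runs (g := cts 2 c 0 - 2) (g' := cts 2 c 0) (by omega) ha (by omega) (by omega)
        (by omega) le_rfl ?_ ?_ ?_
      · rw [hr0]; simp [hookRun]; omega
      · rw [hr0]; simp [hookRun]; omega
      · rw [hr1]
        refine card_le_one.2 fun u hu v hv => ?_
        simp only [mem_filter, mem_range] at hu hv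
        omega
  · obtain ⟨a, ha, hrem, -⟩ := exists_row_member h hN (A := p * m + (p - 1)) (B := p - 1) (C := 1)
      (fun e => by omega) (by omega)
    refine ⟨a, ha, ?_, fun e => by omega⟩
    rw [hrem, vf_mul_add m (by omega : p - 1 < p), vf_small (p := p) (d := p - 1) (by omega),
      vf_small (p := p) (d := 1) (by omega), hwv]
    ring

/-- The largest exponent is attained. -/
theorem exists_height_zero_member [hp : Fact p.Prime] {c : Fin N → ℤ} {w : ℕ} (h : Data N n p c w)
    (hN : 2 * p + n < N) : ∃ a ∈ Cls N n p (cts p c), rem' p a = vf p w := by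
  have hp0 := hp.out.pos
  obtain ⟨a, ha, hrem, -⟩ := exists_row_member h hN (A := w) (B := 0) (C := 0) (fun _ => rfl) (by simp)
  exact ⟨a, ha, by rw [hrem, vf_small hp0]; simp⟩

end CfsgLib.SymBeta
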