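import Cfsg.Agent.Lib.Char.SymBeta.Dual

/-!
# The sign twist on index tuples
-/

set_option autoImplicit false

namespace CfsgLib.SymBeta

open Finset Equiv

variable {N n p : ℕ}

/-- The mirrored tuple. -/
noncomputable def star (N : ℕ) (a : Fin N → ℤ) : Fin N → ℤ := srt N (dual N (univ.image a))

/-- A set is its own mirrored complement. -/
def SD (N : ℕ) (S : Set ℤ) : Prop :=
  (∀ v ∈ S, 0 ≤ v ∧ v < 2 * (N : ℤ)) ∧
    ∀ v : ℤ, 0 ≤ v → v < 2 * (N : ℤ) → (v ∈ S ↔ 2 * (N : ℤ) - 1 - v ∉ S)

theorem lt_of_mem_Idx {a : Fin N → ℤ} (ha : a ∈ Idx N n) (i : Fin N) : a i < (N : ℤ) + n := by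
  obtain ⟨hm, hnn, hs⟩ := mem_Idx.1 ha
  have hge : ∀ l : Fin N, ((l : ℕ) : ℤ) ≤ a l := by
    suffices H : ∀ (t : ℕ) (ht : t < N), (t : ℤ) ≤ a ⟨t, ht⟩ from fun l => H l.1 l.2
    intro t
    induction t with
    | zero => exact fun _ => by simpa using hnn _
    | succ t ih =>
      intro ht
      have h1 := ih (by omega)
      have h2 := hm (show (⟨t, by omega⟩ : Fin N) < ⟨t + 1, ht⟩ from Nat.lt_succ_self t)
      push_cast
      omega
  have h1 := single_le_sum (f := fun l : Fin N => a l - ((l : ℕ) : ℤ)) (fun l _ => by linarith [hge l]) (mem_univ i)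
  simp only [sum_sub_distrib, hs] at h1
  have : base N = ∑ l : Fin N, ((l : ℕ) : ℤ) := rfl
  have hi : ((i : ℕ) : ℤ) < N := by exact_mod_cast i.2
  linarith

theorem image_subset_win (hn : n ≤ N) {a : Fin N → ℤ} (ha : a ∈ Idx N n) : univ.image a ⊆ win N := by
  intro v hv
  obtain ⟨i, -, rfl⟩ := mem_image.1 hv
  have h1 := lt_of_mem_Idx ha i
  have h2 := (mem_Idx.1 ha).2.1 i
  simp only [win, Finset.mem_Ico]
  omega

theorem image_star (hn : n ≤ N) {a : Fin N → ℤ} (ha : a ∈ Idx N n) :
    univ.image (star N a) = dual N (univ.image a) :=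
  image_srt (card_dual (image_subset_win hn ha)
    (by rw [card_image_of_injective _ (mem_Idx.1 ha).1.injective, card_univ, Fintype.card_fin]))

theorem star_mem_Idx (hn : n ≤ N) {a : Fin N → ℤ} (ha : a ∈ Idx N n) : star N a ∈ Idx N n := by
  have hw := image_subset_win hn ha
  have hm := (mem_Idx.1 ha).1
  have hcard : (univ.image a).card = N := by rw [card_image_of_injective _ hm.injective, card_univ, Fintype.card_fin]
  have hsm : StrictMono (star N a) := srt_strictMono (card_dual hw hcard)
  refine mem_Idx.2 ⟨hsm, fun i => ?_, ?_⟩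
  · have := dual_subset (N := N) (univ.image a) (image_star hn ha ▸ mem_image_of_mem _ (mem_univ i))
    simp only [win, Finset.mem_Ico] at this
    exact this.1
  · rw [← sum_image_eq hsm.injective, image_star hn ha, dual, sum_image fun _ _ _ _ e => sub_right_injective e,
      sum_sub_distrib, sum_const, nsmul_eq_mul, card_sdiff_of_subset hw, hcard, sum_sdiff_eq_sub hw,
      sum_image_eq hm.injective, (mem_Idx.1 ha).2.2]
    have h2 : 2 * ∑ v ∈ win N, v = ((win N).card : ℤ) * (2 * (N : ℤ) - 1) := by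
      have h3 : ∑ v ∈ win N, v = ∑ v ∈ win N, (2 * (N : ℤ) - 1 - v) := by
        refine sum_bij' (fun v _ => 2 * (N : ℤ) - 1 - v) (fun v _ => 2 * (N : ℤ) - 1 - v)
          (fun v hv => ?_) (fun v hv => ?_) (fun v _ => by ring) (fun v _ => by ring) fun v _ => by ring
        all_goals simp only [win, Finset.mem_Ico] at hv ⊢; omega
      rw [sum_sub_distrib, sum_const, nsmul_eq_mul] at h3
      linarith
    have hc : (win N).card = 2 * N := by rw [win, Int.card_Ico]; omega
    rw [hc] at h2 ⊢
    push_cast at h2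
    rw [show 2 * N - N = N by omega]
    linarith

theorem star_star (hn : n ≤ N) {a : Fin N → ℤ} (ha : a ∈ Idx N n) : star N (star N a) = a := by
  rw [star, image_star hn ha, dual_dual (image_subset_win hn ha), srt_eq (mem_Idx.1 ha).1]

/-- The sign twist. -/
theorem chi_star (hn : n ≤ N) {a : Fin N → ℤ} (ha : a ∈ Idx N n) (σ : Perm (Fin n)) :
    chi N n (star N a) σ = ((Perm.sign σ : ℤ) : ℂ) * chi N n a σ := by
  have hm := (mem_Idx.1 ha).1
  rw [chi, chi, star, val_dual σ (image_subset_win hn ha)
    (by rw [card_image_of_injective _ hm.injective, card_univ, Fintype.card_fin]), srt_eq hm]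

theorem sd_of_star_eq (hn : n ≤ N) {a : Fin N → ℤ} (ha : a ∈ Idx N n) (h : star N a = a) :
    SD N (Set.range a) := by
  have himg := image_star hn ha
  rw [h] at himg
  have hmem : ∀ v, v ∈ Set.range a ↔ v ∈ univ.image a := by simp
  refine ⟨fun v hv => ?_, fun v h0 h1 => ?_⟩
  · have := image_subset_win hn ha ((hmem v).1 hv)
    simpa [win] using this
  · rw [hmem, hmem]
    conv_lhs => rw [himg, mem_dual]
    exact ⟨fun h => h.2, fun h => ⟨⟨h0, h1⟩, h⟩⟩

theorem cts_star_congr (hp : 0 < p) (hn : n ≤ N) {a b : Fin N → ℤ} (ha : a ∈ Idx N n) (hb : b ∈ Idx N n)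
    (h : cts p a = cts p b) : cts p (star N a) = cts p (star N b) := by
  classical
  funext r
  have key : ∀ c ∈ Idx N n, cts p (star N c) r =
      ((win N).filter fun v => (2 * (N : ℤ) - 1 - v) % p = r).card -
        if 0 ≤ r ∧ r < p then cts p c ((2 * (N : ℤ) - 1 - r) % p) else 0 := by
    intro c hc
    have hcm := (mem_Idx.1 hc).1
    have hsm := (mem_Idx.1 (star_mem_Idx hn hc)).1
    have h1 : cts p (star N c) r = ((univ.image (star N c)).filter fun v => v % p = r).card := by
      rw [filter_image, card_image_of_injective _ hsm.injective]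
      rfl
    have h2 : (univ.filter fun i => (2 * (N : ℤ) - 1 - c i) % p = r).card =
        if 0 ≤ r ∧ r < p then cts p c ((2 * (N : ℤ) - 1 - r) % p) else 0 := by
      split
      case isTrue hr =>
        refine congrArg card (filter_congr fun i _ => ?_)
        rw [Int.emod_eq_emod_iff_emod_sub_eq_zero]
        constructor
        · intro h
          rw [← Int.dvd_iff_emod_eq_zero]
          have : (p : ℤ) ∣ (2 * (N : ℤ) - 1 - c i) - r := by
            rw [← h]; exact Int.dvd_self_sub_emod
          obtain ⟨q, hq⟩ := this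
          exact ⟨-q, by linarith⟩
        · intro h
          rw [← Int.dvd_iff_emod_eq_zero] at h
          obtain ⟨q, hq⟩ := h
          rw [show 2 * (N : ℤ) - 1 - c i = r + p * (-q) by linarith, Int.add_mul_emod_self_left,
            Int.emod_eq_of_lt hr.1 hr.2]
      case isFalse hr =>
        rw [card_eq_zero, filter_eq_empty_iff]
        intro i _ e
        exact hr ⟨e ▸ Int.emod_nonneg _ (by omega), e ▸ Int.emod_lt_of_pos _ (by omega)⟩
    rw [h1, image_star hn hc, dual, filter_image, card_image_of_injective _ sub_right_injective,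
      ← h2, show ((win N \ univ.image c).filter fun v => (2 * (N : ℤ) - 1 - v) % p = r) = (win N).filter (fun v => (2 * (N : ℤ) - 1 - v) % p = r) \ (univ.image c).filter (fun v => (2 * (N : ℤ) - 1 - v) % p = r) by ext v; simp; tauto]
    rw [card_sdiff_of_subset (filter_subset_filter _ (image_subset_win hn hc)), filter_image,
      card_image_of_injective _ hcm.injective]
  rw [key a ha, key b hb, h]

theorem pk_star (hn : n ≤ N) (hC : (p : ℤ) ∣ 2 * (N : ℤ) - 1) {a : Fin N → ℤ} (ha : a ∈ Idx N n) (h : Pk p a) :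
    Pk p (star N a) := by
  intro i hi hi'
  by_contra hne
  push Not at hne
  have himg := image_star hn ha
  have h1 := mem_dual.1 (himg ▸ mem_image_of_mem (star N a) (mem_univ i))
  have h2 : star N a i - p ∉ univ.image (star N a) := fun hmem => by
    obtain ⟨l, -, hl⟩ := mem_image.1 hmem
    exact hne l hl
  rw [himg, mem_dual, not_and, not_not] at h2
  obtain ⟨l, -, hl⟩ := mem_image.1 (h2 ⟨by omega, by omega⟩)
  obtain ⟨l', hl'⟩ := h l (by
    rw [hl]
    exact dvd_sub hC (dvd_sub hi dvd_rfl)) (by rw [hl]; omega)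
  exact h1.2 (mem_image.2 ⟨l', mem_univ _, by rw [hl', hl]; ring⟩)

end CfsgLib.SymBeta
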