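import Cfsg.Agent.Lib.Char.SymBeta.Elementary
import Cfsg.Agent.Lib.Blocks.SecondMain
import Cfsg.Agent.Lib.Blocks.Induced
import Cfsg.Agent.Lib.Blocks.DefectNumber
import Cfsg.Agent.Lib.Blocks.Principal

/-!
# Rank and defect of the blocks of the symmetric groups
-/

set_option autoImplicit false

namespace CfsgLib.SymBeta

open Finset Equiv Cfsg CfsgLib.Char

variable {N n p : ℕ}

/-- The core and weight of a residue class. -/
structure Data (N n p : ℕ) (c : Fin N → ℤ) (w : ℕ) : Prop where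
  core : IsCore p c
  sum_eq : base N + (n : ℤ) = ∑ i, c i + p * w

theorem Data.mul_le {c : Fin N → ℤ} {w : ℕ} (h : Data N n p c w) : p * w ≤ n := by
  have h1 := base_le h.core.inj h.core.nonneg
  have h2 := h.sum_eq
  have h3 : ((p * w : ℕ) : ℤ) ≤ n := by push_cast; omega
  exact_mod_cast h3

/-- Every block lies in a residue class. -/
theorem exists_data {M : Ideal AlgInt} [M.IsPrime] (hM : IsPModular p M) (hN : 3 * n ≤ N)
    {B : Set (IrrCharacter (Perm (Fin n)))} (hB : IsPBlock M B) :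
    ∃ (c : Fin N → ℤ) (w : ℕ), Data N n p c w ∧ B ⊆ clsSet N n p (cts p c) := by
  obtain ⟨χ, rfl⟩ := hB
  obtain ⟨a, ha, hχ⟩ := exists_eq_chi hN χ
  obtain ⟨hm, hnn, hs⟩ := mem_Idx.1 ha
  obtain ⟨c, w, hc, hcts, hsum⟩ := exists_core hM.1.pos hm.injective hnn
  exact ⟨c, w, ⟨hc, by rw [← hs, hsum]⟩,
    fun ψ hψ => block_subset hM hN ⟨a, mem_Cls.2 ⟨ha, hcts⟩, hχ⟩ hψ⟩

theorem rank_le (hp : p.Prime) (hNp : ∀ j ≤ n, (j + 1) * p + n ≤ N) {c : Fin N → ℤ} {w : ℕ}
    (h : Data N n p c w) {B : Set (IrrCharacter (Perm (Fin n)))} (hB : B ⊆ clsSet N n p (cts p c)) :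
    blockRank p B ≤ (T p c w).card := by
  classical
  unfold blockRank
  have hle : Submodule.span ℂ ((fun χ : IrrCharacter (Perm (Fin n)) => pRegularPart p (χ : _ → ℂ)) '' B) ≤
      Submodule.span ℂ ((T p c w).image (rv p N n) : Set (Perm (Fin n) → ℂ)) := by
    rw [Submodule.span_le, coe_image]
    rintro _ ⟨ψ, hψ, rfl⟩
    obtain ⟨a, ha, hψa⟩ := hB hψ
    show pRegularPart p (ψ : Perm (Fin n) → ℂ) ∈ _
    rw [hψa]
    exact rv_mem_span hp hNp h.core h.sum_eq (mem_Cls.1 ha).2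
  exact (Submodule.finrank_mono hle).trans ((finrank_span_finset_le_card _).trans card_image_le)

theorem chi_eq_zero_of_weight_zero (hp : p.Prime) {c : Fin N → ℤ} (h : Data N n p c 0) {a : Fin N → ℤ}
    (ha : cts p a = cts p c) {y : Perm (Fin n)} (hy : p ∣ orderOf y) : chi N n a y = 0 := by
  classical
  obtain ⟨z, hz⟩ := exists_dvd_cyc hp hy
  rw [chi, val_split y z, up]
  refine sum_eq_zero fun i _ => by_contra fun hne => ?_
  obtain ⟨hinj, hnn, hs⟩ := supp_val _ _ hne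
  obtain ⟨q, hq⟩ := hz
  have hq' : ((cyc y z : ℕ) : ℤ) = (q : ℤ) * p := by rw [hq, Nat.cast_mul, mul_comm]
  obtain ⟨w, hw⟩ := h.core.exists_weight hinj hnn (by rw [hq', cts_sub_single_mul, ha])
  have hcard := card_off y z
  rw [Fintype.card_fin] at hcard
  have := cyc_pos y z
  have h0 : (0 : ℤ) ≤ p * w := by positivity
  have h2 := h.sum_eq
  rw [hs] at hw
  push_cast at h2
  omega

theorem eq_bot_of_weight_zero [Fact p.Prime] {M : Ideal AlgInt} [M.IsPrime] (hM : IsPModular p M)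
    {c : Fin N → ℤ} (h : Data N n p c 0) {B : Set (IrrCharacter (Perm (Fin n)))} (hB : IsPBlock M B)
    (hsub : B ⊆ clsSet N n p (cts p c)) {D : Subgroup (Perm (Fin n))}
    (hD : IsDefectGroup p M B D) : D = ⊥ := by
  classical
  obtain ⟨χ, hχ⟩ := Blocks.IsPBlock.nonempty hB
  obtain ⟨a, ha, hχa⟩ := hsub hχ
  have hone : blockOf M (χ : Perm (Fin n) → ℂ) = {χ} := by
    refine Set.eq_singleton_iff_unique_mem.2 ⟨Blocks.mem_blockOf_self χ, fun ψ hψ => ?_⟩
    refine Blocks.mem_of_sameBlock_of_blockCoeff_mem (A := {χ})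
      (fun g => Blocks.blockCoeff_mem_of_orth hM _ (fun x y _ hy => ?_) g) rfl hψ
    rw [finsum_mem_singleton, hχa, chi_eq_zero_of_weight_zero hM.1 h (mem_Cls.1 ha).2 hy, mul_zero]
  have hB1 : B = {χ} := (Blocks.IsPBlock.eq_blockOf hB hχ).trans hone
  have hnd := Blocks.not_dvd_div_of_singleton hM χ hone
  have hd0 : blockDefect p B = 0 := by
    rw [hB1, blockDefect, Set.image_singleton, csInf_singleton]
    have h1 := Blocks.charDegree_dvd_card χ
    have h2 := Nat.factorization_eq_zero_of_not_dvd hnd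
    rw [Nat.factorization_div h1, Finsupp.tsub_apply] at h2
    exact h2
  refine Subgroup.eq_bot_of_card_le _ ?_
  rw [Blocks.IsDefectGroup.card_eq hM hB hD, hd0, pow_zero]

theorem exists_chi_cycles_ne_zero (hp : p.Prime) (hN : 3 * n ≤ N) {c : Fin N → ℤ} {w : ℕ}
    (h : Data N n p c w) {a : Fin N → ℤ} (ha : a ∈ Cls N n p (cts p c)) {x : Perm (Fin n)}
    (hx : x ^ p = 1) (hfix : (univ.filter fun z => x z = z).card = n - p * w) :
    chi N n a x ≠ 0 := by
  classical
  have hpw := h.mul_le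
  set r := n - p * w with hr
  rw [chi, val_pow_prime hp hx w hfix (by rw [Fintype.card_fin]; omega)]
  obtain ⟨ha1, hcts⟩ := mem_Cls.1 ha
  obtain ⟨hm, hnn, hs⟩ := mem_Idx.1 ha1
  obtain ⟨π, hπ⟩ := exists_rmajor p hm.injective
  obtain ⟨c', w', hc1, hc2, hc3, hc4, hc5, hc6⟩ := exists_packed hp.pos hπ fun i => hnn _
  have hctsπ : cts p (a ∘ π) = cts p a := funext fun r => cts_comp p a π r
  have hsum : ∑ i, c' i = ∑ i, c i :=
    IsCore.sum_eq ⟨hp.pos, hc1.injective, hc2, hc3⟩ h.core (by rw [hc4, hctsπ, hcts])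
  rw [sum_comp_perm, hs, hsum, h.sum_eq] at hc5
  have hww : w = w' := by
    exact_mod_cast mul_left_cancel₀ (show (p : ℤ) ≠ 0 by exact_mod_cast hp.ne_zero) (add_left_cancel hc5)
  subst hww
  have hF := supp_up_iterate (p := 1) (supp_delta (N := N)) anti_delta r
  simp only [Nat.cast_one, one_mul, zero_add] at hF
  have hA := (supp_up_iterate (p := p) hF.1 hF.2 w).2
  obtain ⟨M, hM, hMeq⟩ := hc6 hF.1 hF.2
  intro h0
  rw [hA π a, h0, mul_zero] at hMeq
  rcases mul_eq_zero.1 hMeq.symm with h1 | h1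
  · exact hM.ne' (by exact_mod_cast h1)
  obtain ⟨ρ, hρ⟩ := exists_strictMono hc1.injective
  have hmem : c' ∘ ρ ∈ Idx N r := mem_Idx.2 ⟨hρ, fun i => hc2 _, by
    rw [sum_comp_perm, hsum]
    have := h.sum_eq
    have hr' : (r : ℤ) = n - p * w := by
      rw [hr, Nat.cast_sub hpw]; push_cast; ring
    linarith⟩
  obtain ⟨K, hK, hK1⟩ := exists_chi_one (n := r) (by omega) hmem
  rw [chi, val_one_eq, Fintype.card_fin, hF.2 ρ c', h1, mul_zero] at hK1
  exact hK.ne' (by exact_mod_cast hK1.symm)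

/-- A normal `p`-subgroup of the centralizer of a `p`-element at which some member of the block
does not vanish lies in a conjugate of the defect group. -/
theorem exists_conj_le_defect {G : Type*} [Group G] [Fintype G] [Fact p.Prime] {M : Ideal AlgInt}
    [M.IsPrime] (hM : IsPModular p M) {B : Set (IrrCharacter G)} (hB : IsPBlock M B)
    {D : Subgroup G} (hD : IsDefectGroup p M B D) {χ : IrrCharacter G} (hχ : χ ∈ B) {x : G}
    (hxp : ∃ k : ℕ, orderOf x = p ^ k) (hne : (χ : G → ℂ) x ≠ 0) {E : Subgroup G}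
    (hEC : ∀ e ∈ E, Commute e x) (hnorm : ∀ g : G, Commute g x → ∀ e ∈ E, g * e * g⁻¹ ∈ E)
    (hP : IsPGroup p E) : ∃ g : G, E.map (MulAut.conj g).toMonoidHom ≤ D := by
  classical
  set C := Subgroup.centralizer ({x} : Set G) with hC
  letI : Fintype {b : Set (IrrCharacter C) // IsPBlock M b} := Fintype.ofFinite _
  let θ : C → ℂ := fun y => (χ : G → ℂ) (x * (y : G))
  have hθ : IsClassFunction C θ := fun y d => by
    show (χ : G → ℂ) (x * ((d : G) * y * (d : G)⁻¹)) = _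
    rw [show x * ((d : G) * y * (d : G)⁻¹) = d * (x * y) * (d : G)⁻¹ by
      rw [← mul_assoc, ← mul_assoc, ← (Blocks.mem_centralizer_singleton.1 d.2).eq]; group]
    exact IsIrr.isClassFunction χ.2 _ _
  have hsumθ := Blocks.sum_blockPart (M := M) hθ 1
  obtain ⟨b, -, hb⟩ := exists_ne_zero_of_sum_ne_zero (s := univ) (by
    rw [hsumθ]; simpa [θ] using hne :
      ∑ b : {b : Set (IrrCharacter C) // IsPBlock M b}, blockPart b.1 θ 1 ≠ 0)
  have hind : IsInducedBlock M C b.1 B := by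
    by_contra hnot
    exact hb (Blocks.blockPart_eq_zero_of_not_induced hM hxp hB hχ b.2 hnot (by simp [hM.1.ne_one]))
  obtain ⟨Db, hDb⟩ := Blocks.exists_isDefectGroup (p := p) b.2
  obtain ⟨D', hD', hle⟩ := Blocks.IsInducedBlock.defectGroup_le hM hind hDb
  have hEC' : E ≤ C := fun e he => Blocks.mem_centralizer_singleton.2 (hEC e he)
  haveI : (E.subgroupOf C).Normal := ⟨fun e he g =>
    hnorm g (Blocks.mem_centralizer_singleton.1 g.2) e he⟩
  have hnle := Blocks.IsDefectGroup.normal_le hM b.2 hDb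
    (P := E.subgroupOf C) (hP.comap_of_injective _ C.subtype_injective)
  have hED' : E ≤ D' := fun e he => hle ⟨⟨e, hEC' he⟩, hnle (by exact he), rfl⟩
  obtain ⟨g, hg⟩ := Blocks.IsDefectGroup.exists_conj hM hB hD' hD
  exact ⟨g, hg ▸ Subgroup.map_mono hED'⟩

theorem exists_pow_order (hp : p.Prime) {G : Type*} [Group G] {x : G} (hx : x ^ p = 1) :
    ∃ k : ℕ, orderOf x = p ^ k := by
  obtain ⟨k, -, hk⟩ := (Nat.dvd_prime_pow hp).1 (show orderOf x ∣ p ^ 1 by
    rw [pow_one]; exact orderOf_dvd_of_pow_eq_one hx)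
  exact ⟨k, hk⟩

theorem pow_le_sectional [Fact p.Prime] {M : Ideal AlgInt} [M.IsPrime] (hM : IsPModular p M)
    (hN : 3 * n ≤ N) {c : Fin N → ℤ} {w : ℕ} (h : Data N n p c w)
    {B : Set (IrrCharacter (Perm (Fin n)))} (hB : IsPBlock M B) (hsub : B ⊆ clsSet N n p (cts p c))
    {D : Subgroup (Perm (Fin n))} (hD : IsDefectGroup p M B D) {s : ℕ} (hs : SectionalPRankLE p s D) :
    p ^ w ≤ p ^ s := by
  classical
  obtain ⟨x, hx, hfix, hcard⟩ := exists_cycles hM.1 h.mul_le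
  obtain ⟨χ, hχ⟩ := Blocks.IsPBlock.nonempty hB
  obtain ⟨a, ha, hχa⟩ := hsub hχ
  have hne : (χ : Perm (Fin n) → ℂ) x ≠ 0 := by
    rw [hχa]; exact exists_chi_cycles_ne_zero hM.1 hN h ha hx hfix
  have hP : IsPGroup p (cycGroup x) := fun ρ =>
    ⟨1, by rw [pow_one]; exact Subtype.ext (cycGroup_pow hx ρ.2)⟩
  obtain ⟨g, hg⟩ := exists_conj_le_defect hM hB hD hχ (exists_pow_order hM.1 hx) hne
    (E := cycGroup x) (fun e he => he.1) (fun g hg e he => conj_mem_cycGroup hg he) hP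
  refine hcard.trans ?_
  rw [← Subgroup.card_map_of_injective (f := (MulAut.conj g).toMonoidHom) (K := cycGroup x)
    (MulAut.conj g).injective]
  refine pow_le_of_sectional (D := D) hg ?_ ?_ hs
  · rintro _ ⟨u, hu, rfl⟩ _ ⟨v, hv, rfl⟩
    rw [← map_mul, ← map_mul, cycGroup_comm hu hv]
  · rintro _ ⟨u, hu, rfl⟩
    rw [← map_pow, cycGroup_pow hx hu, map_one]

theorem blockRank_lt [Fact p.Prime] {M : Ideal AlgInt} (hM : IsPModular p M)
    {B : Set (IrrCharacter (Perm (Fin n)))} (hB : IsPBlock M B) {D : Subgroup (Perm (Fin n))}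
    (hD : IsDefectGroup p M B D) (hD1 : D ≠ ⊥) {s : ℕ} (hs : SectionalPRankLE p s D) :
    blockRank p B < p ^ s := by
  haveI : M.IsPrime := hM.2.1.isPrime
  let N := (n + 1) * p + 3 * n
  have hN : 3 * n ≤ N := Nat.le_add_left _ _
  have hNp : ∀ j ≤ n, (j + 1) * p + n ≤ N := fun j hj => by
    have := Nat.mul_le_mul_right p (Nat.succ_le_succ hj)
    simp only [N, Nat.succ_eq_add_one] at this ⊢
    omega
  obtain ⟨c, w, h, hsub⟩ := exists_data (N := N) hM hN hB
  rcases Nat.eq_zero_or_pos w with rfl | hw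
  · exact absurd (eq_bot_of_weight_zero hM h hB hsub hD) hD1
  exact (rank_le hM.1 hNp h hsub).trans_lt
    (((card_T h.core w).2 hw).trans_le (pow_le_sectional hM hN h hB hsub hD hs))

end CfsgLib.SymBeta
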