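import Cfsg.Agent.Lib.Char.SymBeta.Degree
import Cfsg.Agent.Lib.Char.SymBeta.SymBlock
import Cfsg.Agent.Lib.Char.SymBeta.Star

/-!
# Runners of a set of naturals and the exact power of the prime in the degree
-/

set_option autoImplicit false

namespace CfsgLib.SymBeta

open Finset Equiv

variable {N n p : ℕ}

/-- The positions occupied on one runner. -/
def run (p r : ℕ) (T : Finset ℕ) : Finset ℕ := (T.filter (· % p = r)).image (· / p)

theorem mem_run {r : ℕ} (hr : r < p) {T : Finset ℕ} {t : ℕ} :
    t ∈ run p r T ↔ r + p * t ∈ T := by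
  simp only [run, mem_image, mem_filter]
  constructor
  · rintro ⟨v, ⟨hv, rfl⟩, rfl⟩
    rwa [Nat.mod_add_div]
  · intro h
    refine ⟨_, ⟨h, ?_⟩, ?_⟩
    · rw [Nat.add_mul_mod_self_left, Nat.mod_eq_of_lt hr]
    · rw [Nat.add_mul_div_left _ _ (by omega : 0 < p), Nat.div_eq_of_lt hr, zero_add]

theorem filter_mod_eq {r : ℕ} (hr : r < p) (T : Finset ℕ) :
    T.filter (· % p = r) = (run p r T).image fun t => r + p * t := by
  ext v
  simp only [mem_filter, mem_image, mem_run hr]
  constructor
  · rintro ⟨hv, rfl⟩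
    exact ⟨v / p, by rwa [Nat.mod_add_div], Nat.mod_add_div v p⟩
  · rintro ⟨t, ht, rfl⟩
    exact ⟨ht, by rw [Nat.add_mul_mod_self_left, Nat.mod_eq_of_lt hr]⟩

theorem sum_run {β : Type*} [AddCommMonoid β] (hp : 0 < p) (T : Finset ℕ) (g : ℕ → β) :
    ∑ v ∈ T, g v = ∑ r ∈ range p, ∑ t ∈ run p r T, g (r + p * t) := by
  rw [← sum_fiberwise_of_maps_to (g := fun v => v % p) (t := range p)
    fun v _ => mem_range.2 (Nat.mod_lt _ hp)]
  refine sum_congr rfl fun r hr => ?_
  rw [filter_mod_eq (mem_range.1 hr), sum_image fun a _ b _ h => Nat.eq_of_mul_eq_mul_left hp (by simpa using h)]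

/-- The set with given runners. -/
def glue (p : ℕ) (f : ℕ → Finset ℕ) : Finset ℕ := (range p).biUnion fun r => (f r).image (r + p * ·)

theorem run_glue {f : ℕ → Finset ℕ} {r : ℕ} (hr : r < p) : run p r (glue p f) = f r := by
  ext t
  simp only [mem_run hr, glue, mem_biUnion, mem_range, mem_image]
  constructor
  · rintro ⟨s, hs, u, hu, h⟩
    have h1 : s = r := by
      have := congrArg (· % p) h
      simpa [Nat.add_mul_mod_self_left, Nat.mod_eq_of_lt hs, Nat.mod_eq_of_lt hr] using this
    subst h1
    rwa [Nat.eq_of_mul_eq_mul_left (by omega : 0 < p) (by simpa using h : p * u = p * t)] at hu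
  · exact fun h => ⟨r, hr, t, h, rfl⟩

theorem card_eq_sum_run (hp : 0 < p) (T : Finset ℕ) : T.card = ∑ r ∈ range p, (run p r T).card := by
  rw [card_eq_sum_ones, sum_run hp T fun _ => 1]
  simp

theorem sum_cast_eq (hp : 0 < p) (T : Finset ℕ) :
    ∑ v ∈ T, (v : ℤ) = ∑ r ∈ range p, ((run p r T).card * (r : ℤ) + p * base (run p r T).card) +
      p * ∑ r ∈ range p, (gapNum (run p r T) : ℤ) := by
  rw [sum_run hp T fun v => (v : ℤ), mul_sum, ← sum_add_distrib]
  refine sum_congr rfl fun r _ => ?_
  push_cast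
  rw [sum_add_distrib, ← mul_sum, sum_eq_base_add_gapNum, sum_const, nsmul_eq_mul]
  ring

/-- The power of `p` in the gap product. -/
theorem factorization_hookProd (hp : p.Prime) (T : Finset ℕ) :
    (hookProd T).factorization p =
      ∑ r ∈ range p, (gapNum (run p r T) + (hookProd (run p r T)).factorization p) := by
  classical
  have hne : ∀ (S : Finset ℕ) (v : ℕ), ∀ u ∈ range v \ S, v - u ≠ 0 := fun S v u hu => by
    simp only [mem_sdiff, mem_range] at hu; omega
  have hval : ∀ S : Finset ℕ, (hookProd S).factorization p =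
      ∑ v ∈ S, ∑ u ∈ range v \ S, (v - u).factorization p := fun S => by
    rw [hookProd, Nat.factorization_prod_apply fun v _ => prod_ne_zero_iff.2 (hne S v)]
    exact sum_congr rfl fun v _ => Nat.factorization_prod_apply (hne S v)
  rw [hval, sum_run hp.pos T]
  refine sum_congr rfl fun r hr => ?_
  have hr' := mem_range.1 hr
  rw [hval, gapNum, ← sum_add_distrib]
  refine sum_congr rfl fun t _ => ?_
  rw [← sum_subset (filter_subset (fun u => u % p = r) (range (r + p * t) \ T)) ?_,
    card_eq_sum_ones, ← sum_add_distrib]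
  · refine (sum_bij (fun u _ => r + p * u) (fun u hu => ?_)
      (fun a _ b _ h => Nat.eq_of_mul_eq_mul_left hp.pos (by simpa using h)) (fun v hv => ?_) fun u hu => ?_).symm
    · simp only [mem_sdiff, mem_range, mem_run hr'] at hu
      simp only [mem_filter, mem_sdiff, mem_range]
      refine ⟨⟨?_, hu.2⟩, by rw [Nat.add_mul_mod_self_left, Nat.mod_eq_of_lt hr']⟩
      have := Nat.mul_lt_mul_of_pos_left hu.1 hp.pos
      omega
    · simp only [mem_filter, mem_sdiff, mem_range] at hv
      obtain ⟨⟨h1, h2⟩, rfl⟩ := hv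
      refine ⟨v / p, ?_, Nat.mod_add_div v p⟩
      simp only [mem_sdiff, mem_range, mem_run hr', Nat.mod_add_div]
      refine ⟨?_, h2⟩
      by_contra hle
      push Not at hle
      have := Nat.mul_le_mul_left p hle
      have := Nat.mod_add_div v p
      omega
    · simp only [mem_sdiff, mem_range] at hu
      rw [Nat.add_sub_add_left, ← Nat.mul_sub, Nat.factorization_mul hp.ne_zero (by omega),
        Finsupp.add_apply, hp.factorization_self]
  · intro u hu hu'
    refine Nat.factorization_eq_zero_of_not_dvd fun hd => hu' (mem_filter.2 ⟨hu, ?_⟩)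
    simp only [mem_sdiff, mem_range] at hu
    have h1 := (Nat.modEq_iff_dvd' hu.1.le).2 hd
    rw [Nat.ModEq, Nat.add_mul_mod_self_left, Nat.mod_eq_of_lt hr'] at h1
    exact h1

theorem card_nset {a : Fin N → ℤ} (hinj : Function.Injective a) (h0 : ∀ i, 0 ≤ a i) :
    (nset a).card = N ∧ ∑ v ∈ nset a, (v : ℤ) = ∑ i, a i := by
  have hi : Function.Injective fun i => (a i).toNat := fun i j h => hinj (by
    have := h0 i; have := h0 j; simp only at h; omega)
  refine ⟨by rw [nset, card_image_of_injective _ hi, card_univ, Fintype.card_fin], ?_⟩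
  rw [nset, sum_image fun i _ j _ h => hi h]
  exact sum_congr rfl fun i _ => Int.toNat_of_nonneg (h0 i)

theorem mem_nset {a : Fin N → ℤ} (h0 : ∀ i, 0 ≤ a i) {v : ℕ} : v ∈ nset a ↔ ∃ i, a i = v := by
  simp only [nset, mem_image, mem_univ, true_and]
  exact exists_congr fun i => by have := h0 i; omega

theorem card_run {a : Fin N → ℤ} (hinj : Function.Injective a) (h0 : ∀ i, 0 ≤ a i) {r : ℕ} (hr : r < p) :
    (run p r (nset a)).card = cts p a r := by
  have hp : 0 < p := by omega
  rw [← card_image_of_injective (s := run p r (nset a)) (f := fun t => r + p * t)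
      (fun a b h => Nat.eq_of_mul_eq_mul_left hp (by simpa using h)),
    ← filter_mod_eq hr, nset, filter_image, card_image_of_injective]
  · refine congrArg card (filter_congr fun i _ => ?_)
    obtain ⟨v, hv⟩ := Int.eq_ofNat_of_zero_le (h0 i)
    rw [hv, Int.toNat_natCast]
    exact_mod_cast Iff.rfl
  · exact fun i j h => hinj (by have := h0 i; have := h0 j; omega)

theorem cts_eq_zero (hp : 0 < p) (a : Fin N → ℤ) {r : ℤ} (hr : r < 0 ∨ (p : ℤ) ≤ r) : cts p a r = 0 := by
  rw [cts, card_eq_zero, filter_eq_empty_iff]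
  intro i _ h
  have := Int.emod_nonneg (a i) (show (p : ℤ) ≠ 0 by omega)
  have := Int.emod_lt_of_pos (a i) (show (0 : ℤ) < p by omega)
  omega

theorem gapNum_range (k : ℕ) : gapNum (range k) = 0 :=
  sum_eq_zero fun v hv => by
    rw [card_eq_zero, sdiff_eq_empty_iff_subset]
    exact range_subset_range.2 (mem_range.1 hv).le

theorem IsCore.gapNum_run {c : Fin N → ℤ} (hc : IsCore p c) {r : ℕ} (hr : r < p) :
    gapNum (run p r (nset c)) = 0 := by
  refine sum_eq_zero fun t ht => ?_
  rw [card_eq_zero, sdiff_eq_empty_iff_subset]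
  intro u hu
  rw [mem_range] at hu
  obtain ⟨d, rfl⟩ : ∃ d, t = u + d := ⟨t - u, by omega⟩
  clear hu
  induction d with
  | zero => simpa using ht
  | succ d ih =>
    refine ih ?_
    rw [mem_run hr, mem_nset hc.nonneg] at ht ⊢
    obtain ⟨i, hi⟩ := ht
    obtain ⟨l, hl⟩ := hc.packed i (by
      rw [hi]; push_cast
      have : (0 : ℤ) ≤ p * (u + d) := by positivity
      linarith [show (0 : ℤ) ≤ r from Int.natCast_nonneg r])
    exact ⟨l, by rw [hl, hi]; push_cast; ring⟩

theorem sum_runs_eq (hp : 0 < p) {a : Fin N → ℤ} (hinj : Function.Injective a) (h0 : ∀ i, 0 ≤ a i) :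
    ∑ i, a i = ∑ r ∈ range p, ((cts p a r : ℤ) * r + p * base (cts p a r)) +
      p * ∑ r ∈ range p, (gapNum (run p r (nset a)) : ℤ) := by
  rw [← (card_nset hinj h0).2, sum_cast_eq hp]
  congr 1
  exact sum_congr rfl fun r hr => by rw [card_run hinj h0 (mem_range.1 hr)]

theorem sum_gapNum_eq {c : Fin N → ℤ} {w : ℕ} (h : Data N n p c w) {a : Fin N → ℤ}
    (ha : a ∈ Cls N n p (cts p c)) : ∑ r ∈ range p, gapNum (run p r (nset a)) = w := by
  obtain ⟨haI, hcts⟩ := mem_Cls.1 ha
  obtain ⟨hm, h0, hs⟩ := mem_Idx.1 haI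
  have h1 := sum_runs_eq h.core.pos hm.injective h0
  have h2 := sum_runs_eq h.core.pos h.core.inj h.core.nonneg
  rw [hcts, hs, h.sum_eq] at h1
  rw [sum_congr rfl (fun r hr => congrArg (fun x : ℕ => (x : ℤ)) (h.core.gapNum_run (mem_range.1 hr))),
    Nat.cast_zero, sum_const_zero, mul_zero, add_zero] at h2
  rw [← h2, add_right_inj] at h1
  have := mul_left_cancel₀ (show (p : ℤ) ≠ 0 by have := h.core.pos; omega) h1
  exact_mod_cast this.symm

/-- The part of the exponent beyond the weight. -/
def rem' (p : ℕ) (a : Fin N → ℤ) : ℕ := ∑ r ∈ range p, (hookProd (run p r (nset a))).factorization p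

/-- The exact power of `p` in a degree. -/
theorem factorization_degree (hp : p.Prime) {c : Fin N → ℤ} {w : ℕ} (h : Data N n p c w) {a : Fin N → ℤ}
    (ha : a ∈ Cls N n p (cts p c)) {ψ : Cfsg.IrrCharacter (Perm (Fin n))}
    (hψ : (ψ : Perm (Fin n) → ℂ) = chi N n a) :
    (Cfsg.charDegree (ψ : Perm (Fin n) → ℂ)).factorization p + (w + rem' p a) =
      n.factorial.factorization p := by
  obtain ⟨M, hM, hMH⟩ := exists_degree (mem_Cls.1 ha).1
  have hd : Cfsg.charDegree (ψ : Perm (Fin n) → ℂ) = M := by
    rw [Cfsg.charDegree, hψ, chi, val_one_eq, Fintype.card_fin, hM]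
    simp
  have hM0 : M ≠ 0 := fun h0 => by
    rw [h0, zero_mul] at hMH; exact n.factorial_ne_zero hMH.symm
  rw [hd, ← hMH, Nat.factorization_mul hM0 (hookProd_pos _).ne', Finsupp.add_apply,
    factorization_hookProd hp (nset a), sum_add_distrib, sum_gapNum_eq h ha, rem']

theorem rem'_le (hp : p.Prime) {c : Fin N → ℤ} {w : ℕ} (h : Data N n p c w) {a : Fin N → ℤ}
    (ha : a ∈ Cls N n p (cts p c)) : rem' p a ≤ w.factorial.factorization p := by
  have h1 := Nat.prod_factorial_dvd_factorial_sum (range p) fun r => gapNum (run p r (nset a))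
  rw [sum_gapNum_eq h ha] at h1
  have h2 := (Finset.prod_dvd_prod_of_dvd _ _ fun r _ => hookProd_dvd (run p r (nset a))).trans h1
  have h3 := (Nat.factorization_le_iff_dvd (prod_ne_zero_iff.2 fun r _ => (hookProd_pos _).ne')
    w.factorial_ne_zero).2 h2 p
  rw [Nat.factorization_prod_apply fun r _ => (hookProd_pos _).ne'] at h3
  exact h3

/-- A member with prescribed runners. -/
theorem exists_of_runs {c : Fin N → ℤ} {w : ℕ} (h : Data N n p c w) (f : ℕ → Finset ℕ)
    (hcard : ∀ r < p, (f r).card = cts p c r) (hw : ∑ r ∈ range p, gapNum (f r) = w) :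
    ∃ a ∈ Cls N n p (cts p c), ∀ r < p, run p r (nset a) = f r := by
  have hp := h.core.pos
  set S : Finset ℤ := (glue p f).map ⟨Nat.cast, Nat.cast_injective⟩ with hS
  have hN : (glue p f).card = N := by
    rw [card_eq_sum_run hp, ← (card_nset h.core.inj h.core.nonneg).1, card_eq_sum_run hp]
    exact sum_congr rfl fun r hr => by
      rw [run_glue (mem_range.1 hr), hcard r (mem_range.1 hr), card_run h.core.inj h.core.nonneg (mem_range.1 hr)]
  have hSc : S.card = N := by rw [hS, card_map, hN]
  set a := srt N S with hadef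
  have hm : StrictMono a := srt_strictMono hSc
  have himg : univ.image a = S := image_srt hSc
  have h0 : ∀ i, 0 ≤ a i := fun i => by
    have := himg ▸ mem_image_of_mem a (mem_univ i)
    simp only [hS, mem_map, Function.Embedding.coeFn_mk] at this
    obtain ⟨v, -, hv⟩ := this
    rw [← hv]; exact Int.natCast_nonneg v
  have hn : nset a = glue p f := by
    rw [nset, show (fun i => (a i).toNat) = Int.toNat ∘ a from rfl, ← image_image, himg, hS, map_eq_image,
      image_image]
    simp [Function.comp_def]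
  have hcts : cts p a = cts p c := by
    funext r
    by_cases hr : r < 0 ∨ (p : ℤ) ≤ r
    · rw [cts_eq_zero hp a hr, cts_eq_zero hp c hr]
    obtain ⟨v, rfl⟩ := Int.eq_ofNat_of_zero_le (show 0 ≤ r by omega)
    rw [← card_run hm.injective h0 (by omega : v < p), hn, run_glue (by omega), hcard v (by omega)]
  refine ⟨a, mem_Cls.2 ⟨mem_Idx.2 ⟨hm, h0, ?_⟩, hcts⟩, fun r hr => by rw [hn, run_glue hr]⟩
  rw [h.sum_eq, sum_runs_eq hp hm.injective h0, hcts, hn,
    sum_runs_eq hp h.core.inj h.core.nonneg]
  rw [sum_congr rfl (fun r hr => congrArg (fun x : ℕ => (x : ℤ)) (h.core.gapNum_run (mem_range.1 hr))),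
    Nat.cast_zero, sum_const_zero, mul_zero, add_zero]
  rw [← hw, Nat.cast_sum]
  congr 2
  exact sum_congr rfl fun r hr => by rw [run_glue (mem_range.1 hr)]

/-- One bead moved up by `x`. -/
def rowRun (k x : ℕ) : Finset ℕ := insert (k - 1 + x) (range (k - 1))

theorem rowRun_props {k : ℕ} (hk : 1 ≤ k) (x : ℕ) :
    (rowRun k x).card = k ∧ gapNum (rowRun k x) = x ∧ hookProd (rowRun k x) = x.factorial := by
  have hnot : k - 1 + x ∉ range (k - 1) := by simp
  have hlow : ∀ v ∈ range (k - 1), range v \ rowRun k x = ∅ := fun v hv => by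
    rw [sdiff_eq_empty_iff_subset]
    intro u hu
    simp only [rowRun, mem_insert, mem_range] at hu hv ⊢
    omega
  have htop : range (k - 1 + x) \ rowRun k x = (range x).image (k - 1 + ·) := by
    ext u
    simp only [rowRun, mem_sdiff, mem_range, mem_insert, mem_image]
    exact ⟨fun h => ⟨u - (k - 1), by omega, by omega⟩, fun ⟨i, hi, e⟩ => by omega⟩
  refine ⟨?_, ?_, ?_⟩
  · rw [rowRun, card_insert_of_notMem hnot, card_range]; omega
  · rw [gapNum, show ∑ v ∈ rowRun k x, (range v \ rowRun k x).card =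
      ∑ v ∈ insert (k - 1 + x) (range (k - 1)), (range v \ rowRun k x).card from rfl,
      sum_insert hnot, htop, card_image_of_injective _ (add_right_injective _), card_range,
      sum_eq_zero (fun v hv => by rw [hlow v hv, card_empty]), add_zero]
  · rw [hookProd, show ∏ v ∈ rowRun k x, ∏ u ∈ range v \ rowRun k x, (v - u) =
      ∏ v ∈ insert (k - 1 + x) (range (k - 1)), ∏ u ∈ range v \ rowRun k x, (v - u) from rfl,
      prod_insert hnot, htop, prod_image fun a _ b _ h => add_right_injective _ h,
      (prod_eq_one fun v hv => by rw [hlow v hv, prod_empty] :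
        ∏ v ∈ range (k - 1), ∏ u ∈ range v \ rowRun k x, (v - u) = 1), mul_one]
    simp only [Nat.add_sub_add_left]
    exact prod_range_sub x

/-- Two beads moved. -/
def hookRun (k w : ℕ) : Finset ℕ := insert (k - 2 + w) (insert (k - 1) (range (k - 2)))

theorem hookRun_props {k w : ℕ} (hk : 2 ≤ k) (hw : 3 ≤ w) :
    (hookRun k w).card = k ∧ gapNum (hookRun k w) = w ∧
      hookProd (hookRun k w) = w * (w - 2).factorial := by
  have hn1 : k - 1 ∉ range (k - 2) := by simp; omega
  have hn2 : k - 2 + w ∉ insert (k - 1) (range (k - 2)) := by simp; omega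
  have hlow : ∀ v ∈ range (k - 2), range v \ hookRun k w = ∅ := fun v hv => by
    rw [sdiff_eq_empty_iff_subset]
    intro u hu
    simp only [hookRun, mem_insert, mem_range] at hu hv ⊢
    omega
  have hmid : range (k - 1) \ hookRun k w = {k - 2} := by
    ext u
    simp only [hookRun, mem_sdiff, mem_range, mem_insert, mem_singleton]
    omega
  have htop : range (k - 2 + w) \ hookRun k w = insert (k - 2) ((range (w - 2)).image (k + ·)) := by
    ext u
    simp only [hookRun, mem_sdiff, mem_range, mem_insert, mem_image]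
    constructor
    · intro h
      rcases eq_or_ne u (k - 2) with e | e
      · exact Or.inl e
      · exact Or.inr ⟨u - k, by omega, by omega⟩
    · rintro (e | ⟨i, hi, e⟩) <;> omega
  have hn3 : k - 2 ∉ (range (w - 2)).image (k + ·) := by simp; omega
  refine ⟨?_, ?_, ?_⟩
  · rw [hookRun, card_insert_of_notMem hn2, card_insert_of_notMem hn1, card_range]; omega
  · rw [gapNum, show ∑ v ∈ hookRun k w, (range v \ hookRun k w).card =
      ∑ v ∈ insert (k - 2 + w) (insert (k - 1) (range (k - 2))), (range v \ hookRun k w).card from rfl,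
      sum_insert hn2, sum_insert hn1, htop, hmid, card_singleton, card_insert_of_notMem hn3,
      card_image_of_injective _ (add_right_injective _), card_range,
      sum_eq_zero (fun v hv => by rw [hlow v hv, card_empty])]
    omega
  · rw [hookProd, show ∏ v ∈ hookRun k w, ∏ u ∈ range v \ hookRun k w, (v - u) =
      ∏ v ∈ insert (k - 2 + w) (insert (k - 1) (range (k - 2))), ∏ u ∈ range v \ hookRun k w, (v - u) from rfl,
      prod_insert hn2, prod_insert hn1, htop, hmid, prod_singleton, prod_insert hn3,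
      prod_image fun a _ b _ h => add_right_injective _ h,
      (prod_eq_one fun v hv => by rw [hlow v hv, prod_empty] :
        ∏ v ∈ range (k - 2), ∏ u ∈ range v \ hookRun k w, (v - u) = 1), mul_one,
      show k - 1 - (k - 2) = 1 by omega, mul_one, Nat.add_sub_cancel_left, ← prod_range_sub (w - 2)]
    exact congrArg (w * ·) (prod_congr rfl fun i hi => by
      rw [mem_range] at hi
      show k - 2 + w - (k + i) = w - 2 - i
      omega)

end CfsgLib.SymBeta
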