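import Cfsg.Agent.Lib.Char.SymBeta.Sorted

/-!
# Residues modulo `p` of index tuples; positivity
-/

set_option autoImplicit false

namespace CfsgLib.SymBeta

open Finset Equiv

variable {N : ℕ}

/-- Ordered by residue, then by value. -/
def RMajor (p : ℕ) (a : Fin N → ℤ) : Prop :=
  ∀ i j, i < j → a i % p < a j % p ∨ (a i % p = a j % p ∧ a i < a j)

/-- Number of entries in a residue class. -/
def cts (p : ℕ) (a : Fin N → ℤ) (r : ℤ) : ℕ := (univ.filter fun i => a i % p = r).card

/-- No entry can be lowered by `p`. -/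
def Packed (p : ℕ) (a : Fin N → ℤ) : Prop :=
  ∀ i, (p : ℤ) ≤ a i → ∃ l, a l = a i - p

theorem RMajor.injective {p : ℕ} {a : Fin N → ℤ} (h : RMajor p a) : Function.Injective a := by
  intro i j hij
  rcases lt_trichotomy i j with h' | h' | h'
  · rcases h i j h' with h'' | h'' <;> rw [hij] at h'' <;> simp at h''
  · exact h'
  · rcases h j i h' with h'' | h'' <;> rw [hij] at h'' <;> simp at h''

theorem cts_comp (p : ℕ) (a : Fin N → ℤ) (π : Perm (Fin N)) (r : ℤ) : cts p (a ∘ π) r = cts p a r :=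
  card_bij' (fun i _ => π i) (fun i _ => π.symm i) (fun i hi => by simpa using hi)
    (fun i hi => by simpa using hi) (fun i _ => by simp) fun i _ => by simp

theorem cts_sub_single (p : ℕ) (a : Fin N → ℤ) (i : Fin N) : cts p (a - Pi.single i (p : ℤ)) = cts p a := by
  funext r
  refine congrArg card (filter_congr fun l _ => ?_)
  rcases eq_or_ne l i with rfl | h <;> simp [*]

theorem RMajor.sub_single {p : ℕ} {a : Fin N → ℤ} (h : RMajor p a) (i : Fin N)
    (hinj : Function.Injective (a - Pi.single i (p : ℤ) : Fin N → ℤ)) :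
    RMajor p (a - Pi.single i (p : ℤ)) := by
  intro u v huv
  have hu : (a - Pi.single i (p : ℤ) : Fin N → ℤ) u % p = a u % p := by
    rcases eq_or_ne u i with rfl | h <;> simp [*]
  have hv : (a - Pi.single i (p : ℤ) : Fin N → ℤ) v % p = a v % p := by
    rcases eq_or_ne v i with rfl | h <;> simp [*]
  rw [hu, hv]
  rcases h u v huv with h' | ⟨h1, h2⟩
  · exact Or.inl h'
  refine Or.inr ⟨h1, ?_⟩
  have hne := hinj.ne huv.ne
  simp only [Pi.sub_apply] at hne ⊢
  rcases eq_or_ne v i with rfl | hv'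
  · rw [Pi.single_eq_same, Pi.single_eq_of_ne huv.ne] at hne ⊢
    have hd : (p : ℤ) ∣ a v - a u := Int.dvd_of_emod_eq_zero (Int.emod_eq_emod_iff_emod_sub_eq_zero.1 h1.symm)
    have := Int.le_of_dvd (by omega) hd
    omega
  · rw [Pi.single_eq_of_ne hv'] at hne ⊢
    rcases eq_or_ne u i with rfl | hu'
    · rw [Pi.single_eq_same] at hne ⊢; omega
    · rw [Pi.single_eq_of_ne hu'] at hne ⊢; omega

/-- Packed tuples are determined by their residue counts. -/
theorem Packed.range_subset {p : ℕ} (hp : 0 < p) {a b : Fin N → ℤ} (ha : Packed p a) (hb : Packed p b)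
    (hai : Function.Injective a) (hbi : Function.Injective b) (ha0 : ∀ i, 0 ≤ a i) (hb0 : ∀ i, 0 ≤ b i)
    (hc : cts p a = cts p b) : Set.range a ⊆ Set.range b := by
  rintro _ ⟨i, rfl⟩
  by_contra hni
  set r := a i % p
  have hmiss : ∀ l, b l % p = r → b l < a i := by
    intro l hl
    by_contra hle
    push Not at hle
    obtain ⟨t, ht⟩ : ∃ t : ℕ, b l = a i + t * p := by
      have hd : (p : ℤ) ∣ b l - a i := Int.dvd_of_emod_eq_zero (Int.emod_eq_emod_iff_emod_sub_eq_zero.1 hl)
      obtain ⟨q, hq⟩ := hd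
      have hq0 : 0 ≤ q := by
        by_contra hq0
        have : (p : ℤ) * q < 0 := mul_neg_of_pos_of_neg (by exact_mod_cast hp) (by omega)
        omega
      exact ⟨q.toNat, by rw [Int.toNat_of_nonneg hq0]; linarith [mul_comm (p : ℤ) q]⟩
    clear hl hle
    induction t generalizing l with
    | zero => exact hni ⟨l, by simpa using ht⟩
    | succ t ih =>
      obtain ⟨l', hl'⟩ := hb l (by
        have := ha0 i
        have : (0 : ℤ) ≤ t * p := by positivity
        push_cast at ht
        rw [add_mul] at ht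
        omega)
      exact ih l' (by rw [hl', ht]; push_cast; ring)
  have hlow : ∀ v : ℤ, 0 ≤ v → v ≤ a i → v % p = r → ∃ l, a l = v := by
    intro v hv0 hv hvr
    obtain ⟨q, hq⟩ : (p : ℤ) ∣ a i - v := Int.dvd_of_emod_eq_zero (Int.emod_eq_emod_iff_emod_sub_eq_zero.1 hvr.symm)
    obtain ⟨t, rfl⟩ : ∃ t : ℕ, q = t := ⟨q.toNat, (Int.toNat_of_nonneg (by
      by_contra hq0
      have : (p : ℤ) * q < 0 := mul_neg_of_pos_of_neg (by exact_mod_cast hp) (by omega)
      omega)).symm⟩
    clear hv hvr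
    induction t generalizing v with
    | zero => exact ⟨i, by simpa [sub_eq_zero] using hq⟩
    | succ t ih =>
      obtain ⟨l, hl⟩ := ih (v + p) (by positivity) (by push_cast at hq ⊢; linarith)
      obtain ⟨l', hl'⟩ := ha l (by omega)
      exact ⟨l', by omega⟩
  have hlt : cts p b r < cts p a r := by
    refine lt_of_le_of_lt (b := ((univ.filter fun l => a l % p = r).erase i).card) ?_
      (card_erase_lt_of_mem (by simp [r]))
    unfold cts
    rw [← card_image_of_injective (s := univ.filter fun l => b l % p = r) hbi,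
      ← card_image_of_injective (s := (univ.filter fun l => a l % p = r).erase i) hai]
    refine card_le_card fun v hv => ?_
    obtain ⟨l, hl, rfl⟩ := mem_image.1 hv
    simp only [mem_filter, mem_univ, true_and] at hl
    obtain ⟨l', hl'⟩ := hlow (b l) (hb0 l) (hmiss l hl).le hl
    refine mem_image.2 ⟨l', mem_erase.2 ⟨fun e => ?_, by simp [hl', hl]⟩, hl'⟩
    have := hmiss l hl
    rw [e] at hl'
    omega
  rw [hc] at hlt
  exact lt_irrefl _ hlt

theorem Packed.range_eq {p : ℕ} (hp : 0 < p) {a b : Fin N → ℤ} (ha : Packed p a) (hb : Packed p b)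
    (hai : Function.Injective a) (hbi : Function.Injective b) (ha0 : ∀ i, 0 ≤ a i) (hb0 : ∀ i, 0 ≤ b i)
    (hc : cts p a = cts p b) : Set.range a = Set.range b :=
  (Packed.range_subset hp ha hb hai hbi ha0 hb0 hc).antisymm
    (Packed.range_subset hp hb ha hbi hai hb0 ha0 hc.symm)

theorem supp_up_iterate {d : ℤ} {p : ℕ} {F : (Fin N → ℤ) → ℂ} (hF : Supp d F) (hA : Anti F) (w : ℕ) :
    Supp (d + p * w) ((up (p : ℤ))^[w] F) ∧ Anti ((up (p : ℤ))^[w] F) := by
  induction w with
  | zero => simpa using And.intro hF hA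
  | succ w ih =>
    rw [Function.iterate_succ_apply']
    refine ⟨?_, ih.2.up⟩
    have := ih.1.up (ih.2.up (k := (p : ℤ))) (Int.natCast_nonneg _)
    rwa [show d + (p : ℤ) * w + p = d + p * ((w + 1 : ℕ) : ℤ) by push_cast; ring] at this

/-- Iterated raising is a positive multiple at the packed tuple. -/
theorem exists_packed {p : ℕ} (hp : 0 < p) {a : Fin N → ℤ} (ha : RMajor p a) (ha0 : ∀ i, 0 ≤ a i) :
    ∃ (c : Fin N → ℤ) (w : ℕ), RMajor p c ∧ (∀ i, 0 ≤ c i) ∧ Packed p c ∧ cts p c = cts p a ∧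
      ∑ i, a i = ∑ i, c i + p * w ∧ ∀ {d : ℤ} {F : (Fin N → ℤ) → ℂ}, Supp d F → Anti F →
        ∃ M : ℕ, 0 < M ∧ (up (p : ℤ))^[w] F a = M * F c := by
  obtain ⟨s, hs⟩ : ∃ s : ℕ, ∑ i, a i = s := ⟨(∑ i, a i).toNat, (Int.toNat_of_nonneg (sum_nonneg fun i _ => ha0 i)).symm⟩
  induction s using Nat.strong_induction_on generalizing a with
  | _ s ih =>
    classical
    by_cases hP : Packed p a
    · exact ⟨a, 0, ha, ha0, hP, rfl, by simp, fun _ _ => ⟨1, one_pos, by simp⟩⟩
    set S := univ.filter fun i => (p : ℤ) ≤ a i ∧ ∀ l, a l ≠ a i - p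
    have hSne : S.Nonempty := by
      simp only [Packed, not_forall, not_exists] at hP
      obtain ⟨i, hi, hl⟩ := hP
      exact ⟨i, by simp [S, hi]; exact hl⟩
    have hstep : ∀ i ∈ S, ∃ (c : Fin N → ℤ) (w : ℕ), RMajor p c ∧ (∀ i, 0 ≤ c i) ∧ Packed p c ∧
        cts p c = cts p a ∧ ∑ i, a i = ∑ i, c i + p * ((w + 1 : ℕ) : ℤ) ∧
        ∀ {d : ℤ} {F : (Fin N → ℤ) → ℂ}, Supp d F → Anti F →
          ∃ M : ℕ, 0 < M ∧ (up (p : ℤ))^[w] F (a - Pi.single i (p : ℤ)) = M * F c := by
      intro i hi
      simp only [S, mem_filter, mem_univ, true_and] at hi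
      have hinj : Function.Injective (a - Pi.single i (p : ℤ) : Fin N → ℤ) := by
        intro u v huv
        simp only [Pi.sub_apply] at huv
        rcases eq_or_ne u i with hu | hu <;> rcases eq_or_ne v i with hv | hv
        · exact hu.trans hv.symm
        · rw [hu, Pi.single_eq_same, Pi.single_eq_of_ne hv, sub_zero] at huv
          exact absurd huv.symm (hi.2 v)
        · rw [hv, Pi.single_eq_same, Pi.single_eq_of_ne hu, sub_zero] at huv
          exact absurd huv (hi.2 u)
        · rw [Pi.single_eq_of_ne hu, Pi.single_eq_of_ne hv] at huv; exact ha.injective (by omega)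
      have hsum : ∑ l, (a - Pi.single i (p : ℤ) : Fin N → ℤ) l = ∑ l, a l - p := by
        simp [sum_sub_distrib]
      have hnn : ∀ l, 0 ≤ (a - Pi.single i (p : ℤ) : Fin N → ℤ) l := fun l => by
        rcases eq_or_ne l i with rfl | h <;> simp [*]
      have hps : (p : ℤ) ≤ s := hs ▸ hi.1.trans (single_le_sum (fun l _ => ha0 l) (mem_univ i))
      obtain ⟨c, w, h1, h2, h3, h4, h5, h6⟩ := ih (s - p) (by omega) (ha.sub_single i hinj) hnn (by
        rw [hsum, hs]; omega)
      exact ⟨c, w, h1, h2, h3, h4.trans (cts_sub_single p a i), by rw [hsum] at h5; push_cast; linarith,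
        h6⟩
    obtain ⟨i₀, hi₀⟩ := hSne
    obtain ⟨c, w, hc1, hc2, hc3, hc4, hc5, hc6⟩ := hstep i₀ hi₀
    refine ⟨c, w + 1, hc1, hc2, hc3, hc4, hc5, fun {d F} hF hA => ?_⟩
    have hM : ∀ i ∈ S, ∃ M : ℕ, 0 < M ∧ (up (p : ℤ))^[w] F (a - Pi.single i (p : ℤ)) = M * F c := by
      intro i hi
      obtain ⟨c', w', h1, h2, h3, h4, h5, h6⟩ := hstep i hi
      have hrange := Packed.range_eq hp h3 hc3 h1.injective hc1.injective h2 hc2 (h4.trans hc4.symm)
      have hcc : c' = c := by
        -- both are ordered by the same key on the same set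
        let key : (Fin N → ℤ) → Fin N → Lex (ℤ × ℤ) := fun b l => toLex (b l % p, b l)
        have hk : ∀ b : Fin N → ℤ, RMajor p b → StrictMono (key b) := fun b hb u v huv =>
          Prod.Lex.toLex_lt_toLex.2 (hb u v huv)
        have := ((hk c' h1).range_inj (hk c hc1)).1 (by
          show Set.range ((fun v : ℤ => toLex (v % (p : ℤ), v)) ∘ c') =
            Set.range ((fun v : ℤ => toLex (v % (p : ℤ), v)) ∘ c)
          rw [Set.range_comp, Set.range_comp, hrange])
        funext l
        exact congrArg Prod.snd (toLex.injective (congrFun this l))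
      subst hcc
      have hw : w' = w := by
        rw [hc5] at h5
        have := mul_left_cancel₀ (show (p : ℤ) ≠ 0 by omega) (add_left_cancel h5)
        omega
      subst hw
      exact h6 hF hA
    choose! M hM0 hMeq using hM
    refine ⟨∑ i ∈ S, M i, sum_pos (fun i hi => hM0 i hi) ⟨i₀, hi₀⟩, ?_⟩
    rw [Function.iterate_succ_apply', up, Nat.cast_sum, sum_mul,
      ← sum_subset (subset_univ S) fun i _ hiS => ?_]
    · exact sum_congr rfl hMeq
    by_contra hne
    obtain ⟨hinj', hnn', -⟩ := (supp_up_iterate hF hA w).1 _ hne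
    simp only [S, mem_filter, mem_univ, true_and, not_and, not_forall, not_not] at hiS
    obtain ⟨l, hl⟩ := hiS (by have := hnn' i; simp at this; omega)
    have hli : l ≠ i := fun e => by rw [e] at hl; omega
    exact hli (hinj' (by simp [Pi.single_eq_of_ne hli, hl]))

end CfsgLib.SymBeta
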