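import Cfsg.Agent.Lib.Char.SymBeta.Star

/-!
# Counting self-mirrored tuples of a given weight
-/

set_option autoImplicit false

namespace CfsgLib.SymBeta

open Finset Equiv

variable {N p : ℕ}

/-- Self-mirrored tuples with residues of `c` and weight `w`. -/
noncomputable def SC (p : ℕ) (c : Fin N → ℤ) (w : ℕ) : Finset (Fin N → ℤ) := by
  classical
  exact (Idx N ((∑ i, c i + p * w - base N).toNat)).filter
    fun a => cts p a = cts p c ∧ SD N (Set.range a) ∧ ∑ i, a i = ∑ i, c i + p * w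

theorem mem_SC {c : Fin N → ℤ} {w : ℕ} {a : Fin N → ℤ} :
    a ∈ SC p c w ↔ StrictMono a ∧ (∀ i, 0 ≤ a i) ∧ cts p a = cts p c ∧ SD N (Set.range a) ∧
      ∑ i, a i = ∑ i, c i + p * w := by
  simp only [SC, mem_filter, mem_Idx]
  refine ⟨fun h => ⟨h.1.1, h.1.2.1, h.2.1, h.2.2.1, h.2.2.2⟩, fun h => ⟨⟨h.1, h.2.1, ?_⟩, h.2.2⟩⟩
  have := base_le h.1.injective h.2.1
  rw [← h.2.2.2.2, Int.toNat_of_nonneg (by omega)]
  ring

theorem range_sub_single {a : Fin N → ℤ} (hinj : Function.Injective a) (i : Fin N) (k : ℤ) :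
    Set.range (a - Pi.single i k : Fin N → ℤ) = insert (a i - k) (Set.range a \ {a i}) := by
  ext x
  simp only [Set.mem_range, Set.mem_insert_iff, Set.mem_sdiff, Set.mem_singleton_iff]
  constructor
  · rintro ⟨m, rfl⟩
    rcases eq_or_ne m i with rfl | hm
    · simp
    · exact Or.inr ⟨⟨m, by simp [hm]⟩, by simp [hm, hinj.ne hm]⟩
  · rintro (rfl | ⟨⟨m, rfl⟩, hm⟩)
    · exact ⟨i, by simp⟩
    · exact ⟨m, by simp [show m ≠ i from fun e => hm (by rw [e])]⟩

theorem range_eq_insert {a : Fin N → ℤ} (hinj : Function.Injective a) (i : Fin N) {k : ℤ}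
    (h : ∀ l, l ≠ i → a l ≠ a i - k) :
    Set.range a = insert (a i) (Set.range (a - Pi.single i k : Fin N → ℤ) \ {a i - k}) := by
  rw [range_sub_single hinj]
  ext x
  simp only [Set.mem_insert_iff, Set.mem_sdiff, Set.mem_singleton_iff, Set.mem_range]
  constructor
  · rintro ⟨m, rfl⟩
    by_cases hm : a m = a i
    · exact Or.inl hm
    · exact Or.inr ⟨Or.inr ⟨⟨m, rfl⟩, hm⟩, h m fun e => hm (by rw [e])⟩
  · rintro (rfl | ⟨rfl | ⟨hx, -⟩, hne⟩)
    · exact ⟨i, rfl⟩
    · exact absurd rfl hne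
    · exact hx

theorem SD.move {S : Set ℤ} (h : SD N S) {u v : ℤ} (hu : u ∈ S) (hv : v ∉ S)
    (huv : u + v = 2 * (N : ℤ) - 1) : SD N (insert v (S \ {u})) := by
  have hu' := h.1 u hu
  refine ⟨fun x hx => ?_, fun x h0 h1 => ?_⟩
  · rcases hx with rfl | ⟨hx, -⟩
    · omega
    · exact h.1 x hx
  · simp only [Set.mem_insert_iff, Set.mem_sdiff, Set.mem_singleton_iff, not_or, not_and, not_not]
    by_cases hxv : x = v
    · subst hxv
      exact ⟨fun _ => ⟨by omega, fun _ => by omega⟩, fun _ => Or.inl rfl⟩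
    by_cases hxu : x = u
    · subst hxu
      exact ⟨fun h' => absurd rfl ((h'.resolve_left hxv).2), fun h' => absurd (by omega) h'.1⟩
    constructor
    · intro h'
      exact ⟨by omega, fun hc => absurd hc ((h.2 x h0 h1).1 (h'.resolve_left hxv).1)⟩
    · intro h'
      exact Or.inr ⟨(h.2 x h0 h1).2 fun hc => hxu (by have := h'.2 hc; omega), hxu⟩

theorem SD.move_pair {S : Set ℤ} (h : SD N S) {u v : ℤ} (hu : u ∈ S) (hv : v ∉ S) (hv0 : 0 ≤ v)
    (hvN : v < 2 * (N : ℤ)) :
    SD N (insert (2 * (N : ℤ) - 1 - u) (insert v (S \ {u}) \ {2 * (N : ℤ) - 1 - v})) := by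
  have hu' := h.1 u hu
  refine ⟨fun x hx => ?_, fun x h0 h1 => ?_⟩
  · rcases hx with rfl | ⟨rfl | ⟨hx, -⟩, -⟩
    · omega
    · omega
    · exact h.1 x hx
  · have hx := h.2 x h0 h1
    have hcu := (h.2 u hu'.1 hu'.2).1 hu
    have hcv : 2 * (N : ℤ) - 1 - v ∈ S := by
      by_contra hc
      exact hv ((h.2 v hv0 hvN).2 hc)
    simp only [Set.mem_insert_iff, Set.mem_sdiff, Set.mem_singleton_iff, not_or, not_and, not_not]
    by_cases hxu : x = u
    · subst hxu
      constructor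
      · rintro (h' | ⟨rfl | ⟨-, h'⟩, -⟩)
        · omega
        · exact absurd hu hv
        · exact absurd rfl h'
      · exact fun h' => absurd rfl h'.1
    by_cases hxv : x = v
    · subst hxv
      refine ⟨fun _ => ⟨by omega, fun _ => by omega⟩, fun _ => Or.inr ⟨Or.inl rfl, by omega⟩⟩
    by_cases hxu' : x = 2 * (N : ℤ) - 1 - u
    · subst hxu'
      refine ⟨fun _ => ⟨by omega, ?_⟩, fun _ => Or.inl rfl⟩
      rintro (h' | ⟨-, h'⟩)
      · exact absurd (show u ∈ S from hu) (by rw [show u = v by omega]; exact hv)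
      · omega
    by_cases hxv' : x = 2 * (N : ℤ) - 1 - v
    · subst hxv'
      constructor
      · rintro (h' | ⟨-, h'⟩)
        · omega
        · exact absurd rfl h'
      · intro h'
        have := h'.2 (Or.inl (by ring))
        omega
    constructor
    · intro h'
      obtain h' | ⟨h' | ⟨h', -⟩, -⟩ := h'
      · exact absurd h' hxu'
      · exact absurd h' hxv
      · refine ⟨by omega, fun hc => ?_⟩
        rcases hc with hc | ⟨hc, -⟩
        · omega
        · exact absurd hc (hx.1 h')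
    · intro h'
      refine Or.inr ⟨Or.inr ⟨hx.2 fun hc => ?_, hxu⟩, hxv'⟩
      have := h'.2 (Or.inr ⟨hc, by omega⟩)
      omega

theorem card_SC_zero {c : Fin N → ℤ} (hc : IsCore p c) : (SC p c 0).card ≤ 1 := by
  refine card_le_one.2 fun a ha b hb => ?_
  obtain ⟨ha1, ha2, ha3, -, ha5⟩ := mem_SC.1 ha
  obtain ⟨hb1, hb2, hb3, -, hb5⟩ := mem_SC.1 hb
  exact (ha1.range_inj hb1).1 ((hc.range_eq_of_sum_eq ha1.injective ha2 ha3 (by simpa using ha5)).trans
    (hc.range_eq_of_sum_eq hb1.injective hb2 hb3 (by simpa using hb5)).symm)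

/-- Lowering a pair of mirrored beads. -/
theorem exists_pair_move (hp : 0 < p) {c : Fin N → ℤ} (hc : IsCore p c) {w : ℕ} {a : Fin N → ℤ}
    (ha : a ∈ SC p c w) {i₀ : Fin N} (h1 : (p : ℤ) ≤ a i₀) (h2 : ∀ m, a m ≠ a i₀ - p)
    (hr : a i₀ % p ≠ (2 * (N : ℤ) - 1 - a i₀) % p) :
    ∃ (b : Fin N → ℤ) (j : ℕ) (v : ℤ), 1 ≤ j ∧ 2 * j ≤ w ∧ b ∈ SC p c (w - 2 * j) ∧
      v % p = a i₀ % p ∧ 0 ≤ v ∧ Top p (Set.range b) v ∧
      Set.range a = insert (2 * (N : ℤ) - 1 - v) (insert (v + j * p)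
        (Set.range b \ {v}) \ {2 * (N : ℤ) - 1 - (v + j * p)}) := by
  classical
  obtain ⟨ha1, ha2, ha3, ha4, ha5⟩ := mem_SC.1 ha
  obtain ⟨i, j, hj, hres, habs, htop⟩ := exists_slide_at hp ha1.injective ha2 h1 h2
  obtain ⟨hv0', hvne⟩ := habs j hj le_rfl
  set v := a i - j * p with hv
  set C : ℤ := 2 * (N : ℤ) - 1 with hC
  have hjp : (0 : ℤ) < j * p := by positivity
  have hui := ha4.1 (a i) ⟨i, rfl⟩
  have hvS : v ∉ Set.range a := fun ⟨l, hl⟩ => hvne l hl
  obtain ⟨i2, hi2⟩ : C - v ∈ Set.range a := by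
    by_contra hc'
    exact hvS ((ha4.2 v (by omega) (by omega)).2 hc')
  have hresC : ∀ x : ℤ, x % p = a i₀ % p → (C - x) % p = (C - a i₀) % p := fun x hx => by
    rw [Int.sub_emod, hx, ← Int.sub_emod]
  have hvmod : v % p = a i₀ % p := by
    rw [hv, show a i - (j : ℤ) * p = a i + p * (-(j : ℤ)) by ring, Int.add_mul_emod_self_left, hres]
  have hne : i2 ≠ i := fun e => hr (by
    rw [← hres, ← e, hi2, hresC v hvmod])
  set b1 : Fin N → ℤ := a - Pi.single i ((j : ℤ) * p) with hb1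
  set b : Fin N → ℤ := b1 - Pi.single i2 ((j : ℤ) * p) with hb
  have hb1inj : Function.Injective b1 := injective_sub_single ha1.injective fun l _ => hvne l
  have hb1r : Set.range b1 = insert v (Set.range a \ {a i}) := range_sub_single ha1.injective i _
  have hb1i2 : b1 i2 = C - v := by simp [hb1, hne, hi2]
  have hCai : C - a i ∉ Set.range a := (ha4.2 _ hui.1 hui.2).1 ⟨i, rfl⟩
  have hbinj : Function.Injective b := injective_sub_single hb1inj fun l _ hl => by
    have hm : C - a i ∈ Set.range b1 := ⟨l, by rw [hl, hb1i2, hv]; ring⟩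
    rw [hb1r] at hm
    rcases hm with hm | ⟨hm, -⟩
    · exact hr (by rw [← hresC (a i) hres, hm, hvmod])
    · exact hCai hm
  have hbr : Set.range b = insert (C - a i) (insert v (Set.range a \ {a i}) \ {C - v}) := by
    rw [hb, range_sub_single hb1inj, hb1r, hb1i2, show C - v - (j : ℤ) * p = C - a i by rw [hv]; ring]
  have hbsd : SD N (Set.range b) := hbr ▸ ha4.move_pair ⟨i, rfl⟩ hvS (by omega) (by omega)
  have hbc : cts p b = cts p c :=
    ((cts_sub_single_mul b1 i2 j).trans (cts_sub_single_mul a i j)).trans ha3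
  obtain ⟨π, hπ⟩ := exists_strictMono hbinj
  have hbn : ∀ l, 0 ≤ b l := fun l => (hbsd.1 _ ⟨l, rfl⟩).1
  obtain ⟨w', hw'⟩ := hc.exists_weight hbinj hbn hbc
  have hbs : ∑ l, b l = ∑ l, c l + p * w - 2 * (j * p) := by
    simp [hb, hb1, sum_sub_distrib, ha5]; ring
  have hww : w = w' + 2 * j := by
    have h' : (p : ℤ) * w = p * ((w' + 2 * j : ℕ) : ℤ) := by push_cast; linarith
    exact_mod_cast mul_left_cancel₀ (show (p : ℤ) ≠ 0 by omega) h'
  have hrange : Set.range (b ∘ π) = Set.range b := π.surjective.range_comp b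
  refine ⟨b ∘ π, j, v, hj, by omega, mem_SC.2 ⟨hπ, fun l => hbn _, ?_, by rw [hrange]; exact hbsd,
    by rw [sum_comp_perm, hw', show w - 2 * j = w' by omega]⟩, hvmod, by omega, ?_, ?_⟩
  · rw [← hbc]; exact funext fun r => cts_comp p b π r
  · -- the second move does not disturb the runner of `v`
    have hmod : ∀ x : ℤ, x % p = v % p → (x ∈ Set.range b ↔ x ∈ Set.range b1) := by
      intro x hx
      have hx1 : x ≠ C - v := fun e => hr (by rw [← hvmod, ← hx, e, hresC v hvmod])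
      have hx2 : x ≠ C - a i := fun e => hr (by rw [← hvmod, ← hx, e, hresC (a i) hres])
      rw [hbr, hb1r]
      simp only [Set.mem_insert_iff, Set.mem_sdiff, Set.mem_singleton_iff] at *
      tauto
    rw [hrange]
    refine ⟨(hmod v rfl).2 htop.1, fun h => htop.2.1 ((hmod _ (by simp)).1 h), fun t ht =>
      (hmod _ (by rw [Int.sub_emod, Int.mul_emod_left, sub_zero, Int.emod_emod])).2 (htop.2.2 t ht)⟩
  · rw [hrange, hbr]
    show _ = insert (C - v) (insert (v + j * p) _ \ {C - (v + j * p)})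
    rw [show v + (j : ℤ) * p = a i by rw [hv]; ring]
    ext x
    simp only [Set.mem_insert_iff, Set.mem_sdiff, Set.mem_singleton_iff]
    constructor
    · intro hx
      by_cases h' : x = C - v
      · exact Or.inl h'
      refine Or.inr ⟨?_, fun e => hCai (e ▸ hx)⟩
      by_cases h'' : x = a i
      · exact Or.inl h''
      exact Or.inr ⟨Or.inr ⟨Or.inr ⟨hx, h''⟩, h'⟩, fun e => hvS (e ▸ hx)⟩
    · rintro (rfl | ⟨rfl | ⟨rfl | ⟨rfl | ⟨hx, -⟩, -⟩, hxv⟩, hxc⟩)
      · exact ⟨i2, hi2⟩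
      · exact ⟨i, rfl⟩
      · exact absurd rfl hxc
      · exact absurd rfl hxv
      · exact hx

theorem inj_pair {b : Fin N → ℤ} {v v' : ℤ} (h : Top p (Set.range b) v) (h' : Top p (Set.range b) v')
    (h0 : 0 ≤ v) (h0' : 0 ≤ v') (hm : v % p = v' % p) : v = v' :=
  le_antisymm (h'.le h h0' hm.symm) (h.le h' h0 hm)

/-- For `p = 2` the mirrored runners are exchanged. -/
theorem card_SC_two {c : Fin N → ℤ} (hc : IsCore 2 c) {w : ℕ} (hw : 0 < w) :
    (SC 2 c w).card ≤ ∑ j ∈ (Finset.Icc 1 w).filter (fun j => 2 * j ≤ w), (SC 2 c (w - 2 * j)).card := by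
  classical
  rw [← card_sigma]
  have hmap : ∀ a ∈ SC 2 c w, ∃ q : (_ : ℕ) × (Fin N → ℤ),
      q ∈ ((Finset.Icc 1 w).filter (fun j => 2 * j ≤ w)).sigma (fun j => SC 2 c (w - 2 * j)) ∧
      ∃ v : ℤ, v % 2 = 0 ∧ 0 ≤ v ∧ Top 2 (Set.range q.2) v ∧
      Set.range a = insert (2 * (N : ℤ) - 1 - v) (insert (v + (q.1 : ℤ) * (2 : ℕ))
        (Set.range q.2 \ {v}) \ {2 * (N : ℤ) - 1 - (v + (q.1 : ℤ) * (2 : ℕ))}) := by
    intro a ha
    obtain ⟨ha1, ha2, ha3, ha4, ha5⟩ := mem_SC.1 ha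
    obtain ⟨i₀, h1, h2, h3⟩ : ∃ i₀, ((2 : ℕ) : ℤ) ≤ a i₀ ∧ (∀ m, a m ≠ a i₀ - (2 : ℕ)) ∧ a i₀ % 2 = 0 := by
      by_contra hcon
      push Not at hcon
      have hP : Packed 2 a := by
        intro i hi
        by_contra hne
        push Not at hne
        by_cases he : a i % 2 = 0
        · exact hcon i hi hne he
        have hi' := ha4.1 _ ⟨i, rfl⟩
        have hg : a i - (2 : ℕ) ∉ Set.range a := fun ⟨l, hl⟩ => hne l hl
        obtain ⟨l, hl⟩ : 2 * (N : ℤ) - 1 - (a i - (2 : ℕ)) ∈ Set.range a := by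
          by_contra hc'
          exact hg ((ha4.2 _ (by omega) (by omega)).2 hc')
        refine hcon l (by omega) (fun m hm => (ha4.2 _ hi'.1 hi'.2).1 ⟨i, rfl⟩ ⟨m, ?_⟩) (by omega)
        rw [hm, hl]; push_cast; ring
      have h' := Packed.range_eq hc.pos hP hc.packed ha1.injective hc.inj ha2 hc.nonneg ha3
      rw [sum_eq_of_range_eq ha1.injective hc.inj h', left_eq_add, mul_eq_zero] at ha5
      omega
    obtain ⟨b, j, v, hj1, hj2, hb, hv1, hv0, hv2, hv3⟩ := exists_pair_move (p := 2) two_pos hc ha h1 h2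
      (by push_cast; omega)
    refine ⟨⟨j, b⟩, by simp only [mem_sigma, mem_filter, mem_Icc]; exact ⟨⟨⟨hj1, by omega⟩, hj2⟩, hb⟩, v,
      ?_, hv0, hv2, hv3⟩
    push_cast at hv1
    omega
  choose! f hfU v hv1 hv2 hv3 hv4 using hmap
  refine card_le_card_of_injOn f (fun a ha => hfU a ha) fun a ha b hb h => ?_
  simp only [mem_coe] at ha hb
  refine ((mem_SC.1 ha).1.range_inj (mem_SC.1 hb).1).1 ?_
  have hvv : v a = v b := inj_pair (h ▸ hv3 a ha) (hv3 b hb) (hv2 a ha) (hv2 b hb) (by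
    push_cast; rw [hv1 a ha, hv1 b hb])
  rw [hv4 a ha, hv4 b hb, h, hvv]

/-- For odd `p` the runner of zero is fixed when `p` divides `2 N - 1`. -/
theorem card_SC_odd (hp : Odd p) (hC : (p : ℤ) ∣ 2 * (N : ℤ) - 1) {c : Fin N → ℤ} (hc : IsCore p c)
    {w : ℕ} (hw : 0 < w) : (SC p c w).card ≤ ∑ i ∈ range w, (SC p c i).card +
      ((p - 1) / 2) * ∑ j ∈ (Finset.Icc 1 w).filter (fun j => 2 * j ≤ w), (SC p c (w - 2 * j)).card := by
  classical
  obtain ⟨h, hh⟩ := hp
  set C : ℤ := 2 * (N : ℤ) - 1 with hCdef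
  have hp0 := hc.pos
  rw [← card_sigma, ← card_sigma,
    show (p - 1) / 2 = (Finset.Icc (1 : ℤ) h).card by rw [Int.card_Icc]; omega, ← card_product, ← card_disjSum]
  have hmap : ∀ a ∈ SC p c w, ∃ q : ((_ : ℕ) × (Fin N → ℤ)) ⊕ (ℤ × ((_ : ℕ) × (Fin N → ℤ))),
      q ∈ ((range w).sigma fun i => SC p c i).disjSum ((Finset.Icc (1 : ℤ) h) ×ˢ
        (((Finset.Icc 1 w).filter (fun j => 2 * j ≤ w)).sigma fun j => SC p c (w - 2 * j))) ∧
      (∀ x, q = Sum.inl x → ∃ g : ℤ, 2 * g + ((w - x.1 : ℕ) : ℤ) * p = C ∧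
        Set.range a = insert (g + ((w - x.1 : ℕ) : ℤ) * p) (Set.range x.2 \ {g})) ∧
      (∀ x, q = Sum.inr x → ∃ v : ℤ, 0 ≤ v ∧ v % p = x.1 ∧ Top p (Set.range x.2.2) v ∧
        Set.range a = insert (C - v) (insert (v + (x.2.1 : ℤ) * p) (Set.range x.2.2 \ {v}) \
          {C - (v + (x.2.1 : ℤ) * p)})) := by
    intro a ha
    obtain ⟨ha1, ha2, ha3, ha4, ha5⟩ := mem_SC.1 ha
    have hP : ¬ Packed p a := fun h' => by
      have h'' := Packed.range_eq hc.pos h' hc.packed ha1.injective hc.inj ha2 hc.nonneg ha3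
      rw [sum_eq_of_range_eq ha1.injective hc.inj h'', left_eq_add, mul_eq_zero] at ha5
      omega
    have hSd := ha4.2
    rw [← hCdef] at hSd
    by_cases hpk : Pk p a
    · -- a displaced bead on a lower paired runner
      obtain ⟨i₀, h1, h2, h3⟩ : ∃ i₀, (p : ℤ) ≤ a i₀ ∧ (∀ m, a m ≠ a i₀ - p) ∧
          1 ≤ a i₀ % p ∧ a i₀ % p ≤ h := by
        simp only [Packed, not_forall, not_exists] at hP
        obtain ⟨i, hi, hl⟩ := hP
        have hnd : a i % p ≠ 0 := fun e => by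
          obtain ⟨m, hm⟩ := hpk i (Int.dvd_of_emod_eq_zero e) hi
          exact hl m hm
        have h0 := Int.emod_nonneg (a i) (show (p : ℤ) ≠ 0 by omega)
        have h1 := Int.emod_lt_of_pos (a i) (show (0 : ℤ) < p by omega)
        by_cases hlow : a i % p ≤ h
        · exact ⟨i, hi, hl, by omega, hlow⟩
        have hi' := ha4.1 _ ⟨i, rfl⟩
        obtain ⟨l, hl'⟩ : C - (a i - p) ∈ Set.range a := by
          by_contra hc'
          obtain ⟨m, hm⟩ := (hSd (a i - p) (by omega) (by omega)).2 hc'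
          exact hl m hm
        refine ⟨l, by omega, fun m hm => (hSd _ hi'.1 hi'.2).1 ⟨i, rfl⟩ ⟨m, by rw [hm, hl']; ring⟩, ?_⟩
        have hmod : (C - (a i - p)) % p = p - a i % p := by
          obtain ⟨q, hq⟩ := hC
          rw [hq]
          have h2 := Int.emod_add_mul_ediv (a i) p
          rw [show (p : ℤ) * q - (a i - p) = (p - a i % p) + p * (q - a i / p) by linarith [mul_sub (p : ℤ) q (a i / p)],
            Int.add_mul_emod_self_left, Int.emod_eq_of_lt (by omega) (by omega)]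
        rw [hl', hmod]
        omega
      obtain ⟨b, j, v, hj1, hj2, hb, hv1, hv0, hv2, hv3⟩ := exists_pair_move hp0 hc ha h1 h2 (by
        intro e
        obtain ⟨q, hq⟩ := hC
        have h4 : (p : ℤ) ∣ (2 * (N : ℤ) - 1 - a i₀) - a i₀ :=
          Int.dvd_of_emod_eq_zero (Int.emod_eq_emod_iff_emod_sub_eq_zero.1 e.symm)
        obtain ⟨q', hq'⟩ := h4
        have h5 : (p : ℤ) ∣ 2 * (a i₀ % p) := ⟨q - q' - 2 * (a i₀ / p), by
          have := Int.emod_add_mul_ediv (a i₀) p
          rw [← hCdef] at hq'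
          rw [hq] at hq'
          linarith [mul_sub (p : ℤ) (q - q') (2 * (a i₀ / p)), mul_sub (p : ℤ) q q', mul_comm (p : ℤ) (2 * (a i₀ / p))]⟩
        have := Int.le_of_dvd (by omega) h5
        omega)
      refine ⟨Sum.inr ⟨a i₀ % p, j, b⟩, ?_, fun x hx => Sum.inl_ne_inr hx.symm |>.elim, fun x hx => ?_⟩
      · simp only [inr_mem_disjSum, mem_product, mem_Icc, mem_sigma, mem_filter]
        exact ⟨h3, ⟨⟨hj1, by omega⟩, hj2⟩, hb⟩
      · obtain rfl := Sum.inr.inj hx
        exact ⟨v, hv0, hv1, hv2, hv3⟩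
    · -- the lowest gap of the fixed runner and the bead opposite to it
      simp only [Pk, not_forall, not_exists] at hpk
      obtain ⟨i, hdi, hi, hl⟩ := hpk
      set g : ℤ := gap p a * p with hg
      have hpg : (p : ℤ) ∣ g := Dvd.intro_left _ rfl
      have hgne := gap_spec hp0 a
      rw [← hg] at hgne
      have hle : g ≤ a i - p := by
        obtain ⟨q, hq⟩ := hdi
        have hq1 : 1 ≤ q := by
          by_contra hq0
          have : (p : ℤ) * q ≤ 0 := mul_nonpos_of_nonneg_of_nonpos (Int.natCast_nonneg _) (by omega)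
          omega
        have hle' : gap p a ≤ (q - 1).toNat := Nat.sInf_le fun l hl' => hl l (by
          rw [hl', hq, Int.toNat_of_nonneg (by omega)]; ring)
        have h4 : (gap p a : ℤ) ≤ q - 1 := by omega
        have h5 := mul_le_mul_of_nonneg_right h4 (Int.natCast_nonneg p)
        rw [sub_mul, one_mul, mul_comm q] at h5
        rw [hg, hq]
        exact h5
      have hg0 : 0 ≤ g := by positivity
      have hi' := ha4.1 _ ⟨i, rfl⟩
      obtain ⟨k, hk⟩ : C - g ∈ Set.range a := by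
        by_contra hc'
        obtain ⟨m, hm⟩ := (hSd g hg0 (by omega)).2 hc'
        exact hgne m hm
      have hki : a i ≤ a k := by
        by_contra hlt
        push Not at hlt
        have hdd : (p : ℤ) ∣ C - a i := dvd_sub hC hdi
        obtain ⟨q, hq⟩ := hdd
        have hq0 : 0 ≤ q := by
          by_contra hq'
          have : (p : ℤ) * q < 0 := mul_neg_of_pos_of_neg (by omega) (by omega)
          omega
        have hgq : q.toNat < gap p a := by
          by_contra hge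
          push Not at hge
          have h4 : (gap p a : ℤ) ≤ q := by omega
          have h5 := mul_le_mul_of_nonneg_right h4 (Int.natCast_nonneg p)
          rw [← hg, mul_comm q, ← hq] at h5
          omega
        obtain ⟨m, hm⟩ := exists_of_lt_gap hgq
        exact (hSd _ hi'.1 hi'.2).1 ⟨i, rfl⟩ ⟨m, by rw [hm, Int.toNat_of_nonneg hq0, mul_comm, ← hq]⟩
      obtain ⟨q, hq⟩ : (p : ℤ) ∣ a k - g := by rw [hk]; exact dvd_sub (dvd_sub hC hpg) hpg
      have hq1 : 1 ≤ q := by
        by_contra hq0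
        have : (p : ℤ) * q ≤ 0 := mul_nonpos_of_nonneg_of_nonpos (Int.natCast_nonneg _) (by omega)
        omega
      obtain ⟨j, rfl⟩ : ∃ j : ℕ, q = j := ⟨q.toNat, by omega⟩
      have hgk : a k - (j : ℤ) * p = g := by rw [mul_comm, ← hq]; ring
      set b : Fin N → ℤ := a - Pi.single k ((j : ℤ) * p) with hb
      have hgS : g ∉ Set.range a := fun ⟨m, hm⟩ => hgne m hm
      have hbinj : Function.Injective b := injective_sub_single ha1.injective fun l _ => hgk ▸ hgne l
      have hbsd : SD N (Set.range b) := by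
        rw [hb, range_sub_single ha1.injective, hgk]
        exact ha4.move ⟨k, rfl⟩ hgS (by rw [hk, hCdef]; ring)
      have hbc : cts p b = cts p c := (cts_sub_single_mul a k j).trans ha3
      have hbn : ∀ l, 0 ≤ b l := fun l => (hbsd.1 _ ⟨l, rfl⟩).1
      obtain ⟨w', hw'⟩ := hc.exists_weight hbinj hbn hbc
      have hbs : ∑ l, b l = ∑ l, c l + p * w - j * p := by simp [hb, sum_sub_distrib, ha5]
      have hww : w = w' + j := by
        have h' : (p : ℤ) * w = p * ((w' + j : ℕ) : ℤ) := by push_cast; linarith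
        exact_mod_cast mul_left_cancel₀ (show (p : ℤ) ≠ 0 by omega) h'
      obtain ⟨π, hπ⟩ := exists_strictMono hbinj
      have hrange : Set.range (b ∘ π) = Set.range b := π.surjective.range_comp b
      refine ⟨Sum.inl ⟨w', b ∘ π⟩, ?_, fun x hx => ?_, fun x hx => Sum.inl_ne_inr hx |>.elim⟩
      · simp only [inl_mem_disjSum, mem_sigma, mem_range]
        exact ⟨by omega, mem_SC.2 ⟨hπ, fun l => hbn _, by rw [← hbc]; exact funext fun r => cts_comp p b π r,
          by rw [hrange]; exact hbsd, by rw [sum_comp_perm, hw']⟩⟩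
      · obtain rfl := Sum.inl.inj hx
        refine ⟨g, ?_, ?_⟩
        · show 2 * g + ((w - w' : ℕ) : ℤ) * p = C
          rw [show w - w' = j by omega]
          linarith
        · show Set.range a = insert (g + ((w - w' : ℕ) : ℤ) * p) (Set.range (b ∘ π) \ {g})
          rw [show w - w' = j by omega, hrange, ← hgk, sub_add_cancel]
          exact range_eq_insert ha1.injective k fun l _ => hgk ▸ hgne l
  choose! f hfU hfl hfr using hmap
  refine card_le_card_of_injOn f (fun a ha => hfU a ha) fun a ha b hb hab => ?_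
  simp only [mem_coe] at ha hb
  refine ((mem_SC.1 ha).1.range_inj (mem_SC.1 hb).1).1 ?_
  rcases hf : f a with x | x
  · obtain ⟨g, hg, hga⟩ := hfl a ha x hf
    obtain ⟨g', hg', hgb⟩ := hfl b hb x (hab ▸ hf)
    rw [hga, hgb, show g = g' by omega]
  · obtain ⟨v, hv0, hv1, hv2, hv3⟩ := hfr a ha x hf
    obtain ⟨v', hv0', hv1', hv2', hv3'⟩ := hfr b hb x (hab ▸ hf)
    rw [hv3, hv3', inj_pair hv2 hv2' hv0 hv0' (hv1.trans hv1'.symm)]

end CfsgLib.SymBeta
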