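import Cfsg.Agent.Lib.Char.SymBeta.Colour

/-!
# Sorted index tuples and the pairing
-/

set_option autoImplicit false

namespace CfsgLib.SymBeta

open Finset Equiv

variable {N : ℕ}

/-- The increasing index tuples of excess `d`. -/
noncomputable def Idx (N : ℕ) (d : ℕ) : Finset (Fin N → ℤ) := by
  classical
  exact (Fintype.piFinset fun _ : Fin N => Finset.Icc (0 : ℤ) (base N + d)).filter
    fun a => StrictMono a ∧ ∑ i, a i = base N + d

theorem mem_Idx {d : ℕ} {a : Fin N → ℤ} :
    a ∈ Idx N d ↔ StrictMono a ∧ (∀ i, 0 ≤ a i) ∧ ∑ i, a i = base N + d := by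
  simp only [Idx, mem_filter, Fintype.mem_piFinset, Finset.mem_Icc]
  exact ⟨fun h => ⟨h.2.1, fun i => (h.1 i).1, h.2.2⟩, fun h => ⟨fun i => ⟨h.2.1 i,
    h.2.2 ▸ single_le_sum (fun l _ => h.2.1 l) (mem_univ i)⟩, h.1, h.2.2⟩⟩

theorem sum_comp_perm (a : Fin N → ℤ) (π : Perm (Fin N)) : ∑ i, (a ∘ π) i = ∑ i, a i :=
  Equiv.sum_comp π a

/-- The pairing of alternating functions is a multiple of the sum over increasing tuples. -/
theorem pair_eq_sum {d : ℕ} {F G : (Fin N → ℤ) → ℂ} (hF : Anti F) (hG : Anti G) (hFs : Supp (d : ℤ) F) :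
    pair F G = (N.factorial : ℂ) * ∑ a ∈ Idx N d, F a * G a := by
  classical
  unfold pair
  set T := (Idx N d ×ˢ (univ : Finset (Perm (Fin N)))).image fun q => q.1 ∘ q.2
  have hinj : Set.InjOn (fun q : (Fin N → ℤ) × Perm (Fin N) => q.1 ∘ q.2)
      (Idx N d ×ˢ (univ : Finset (Perm (Fin N))) : Set ((Fin N → ℤ) × Perm (Fin N))) := by
    rintro ⟨a, π⟩ ha ⟨b, ρ⟩ hb h
    simp only [Set.mem_prod, mem_coe] at ha hb
    have ha' := (mem_Idx.1 ha.1).1
    have hb' := (mem_Idx.1 hb.1).1
    simp only at h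
    have hab : a = b := (ha'.range_inj hb').1 (by
      rw [← π.surjective.range_comp a, ← ρ.surjective.range_comp b, h])
    subst hab
    exact Prod.ext rfl (Equiv.ext fun i => ha'.injective (congrFun h i))
  rw [finsum_eq_sum_of_support_subset _ (s := T) (fun a ha => by
    obtain ⟨hi, hnn, hs⟩ := hFs a (left_ne_zero_of_mul ha)
    simp only [T, coe_image, Set.mem_image, coe_product, Set.mem_prod, mem_coe, mem_univ, and_true]
    refine ⟨(a ∘ Tuple.sort a, (Tuple.sort a)⁻¹), mem_Idx.2 ⟨?_, fun i => hnn _, ?_⟩, ?_⟩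
    · exact (Tuple.monotone_sort a).strictMono_of_injective (hi.comp (Tuple.sort a).injective)
    · rw [sum_comp_perm, hs]
    · funext i; simp), sum_image (by simpa only [coe_product] using hinj), sum_product]
  rw [mul_sum]
  refine sum_congr rfl fun a _ => ?_
  simp only []
  have hπ : ∀ π : Perm (Fin N), F (a ∘ π) * G (a ∘ π) = F a * G a := fun π => by
    rw [hF π a, hG π a]
    rcases Int.units_eq_one_or (Perm.sign π) with h | h <;> simp [h]
  simp only [hπ, sum_const, card_univ, Fintype.card_perm, Fintype.card_fin, nsmul_eq_mul]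

theorem Idx_zero : Idx N 0 = {fun i : Fin N => (i : ℤ)} := by
  have hid : StrictMono fun i : Fin N => (i : ℤ) := fun i j h => by simpa using h
  refine eq_singleton_iff_unique_mem.2 ⟨mem_Idx.2 ⟨hid, fun i => Int.natCast_nonneg _, by simp [base]⟩,
    fun a ha => ?_⟩
  obtain ⟨hm, hnn, hs⟩ := mem_Idx.1 ha
  refine ((hid.range_inj hm).1 ?_).symm
  refine Set.eq_of_subset_of_ncard_le ?_ ?_ (Set.finite_range _)
  · rintro _ ⟨v, rfl⟩
    exact exists_eq hm.injective hnn (d := 0) (by simpa using hs.le) le_rfl (Int.natCast_nonneg _)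
      (by simp [v.2])
  · rw [Set.ncard_range_of_injective hid.injective, Set.ncard_range_of_injective hm.injective]

theorem delta_id : delta N (fun i : Fin N => (i : ℤ)) = 1 := by
  unfold delta
  rw [sum_eq_single (1 : Perm (Fin N))]
  · simp
  · intro π _ hπ
    rw [if_neg]
    intro h
    exact hπ (Equiv.ext fun i => Fin.ext (by simpa using congrFun h i))
  · simp

theorem pair_delta : pair (delta N) (delta N) = (N.factorial : ℂ) := by
  rw [pair_eq_sum anti_delta anti_delta (d := 0) (by simpa using supp_delta), Idx_zero]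
  simp [delta_id]

theorem sum_val_mul_val {n : ℕ} (σ τ : Perm (Fin n)) (hN : 3 * n ≤ N) :
    ∑ a ∈ Idx N n, val N σ a * val N τ a = (nint σ τ : ℂ) := by
  have h := pair_val σ τ (N := N) (by simp; omega)
  rw [pair_delta, pair_eq_sum (anti_val σ) (anti_val τ) (d := n) (by simpa using supp_val (N := N) σ),
    mul_comm (nint σ τ : ℂ)] at h
  exact mul_left_cancel₀ (Nat.cast_ne_zero.2 N.factorial_ne_zero) h

end CfsgLib.SymBeta
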