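import Cfsg.Agent.Lib.Char.SymBeta.Heights
import Cfsg.Agent.Lib.Char.CliffordCorr
import Cfsg.Agent.Lib.Blocks.Covering
import Mathlib.GroupTheory.SpecificGroups.Alternating
import Mathlib.GroupTheory.Nilpotent

/-!
# A Sylow subgroup of the permutations of `p * w` points and characters of degree `p`
-/

set_option autoImplicit false

namespace CfsgLib.SymBeta

open Finset Equiv Cfsg CfsgLib.Char
open CfsgLib.Clifford (conjFn conjFn_apply)

variable {p w : ℕ}

/-- Translation on each block followed by a permutation of the blocks. -/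
def mk (v : Fin w → ZMod p) (t : Perm (Fin w)) : Perm (Fin w × ZMod p) where
  toFun q := (t q.1, q.2 + v q.1)
  invFun q := (t.symm q.1, q.2 - v (t.symm q.1))
  left_inv q := by simp
  right_inv q := by simp

@[simp] theorem mk_apply (v : Fin w → ZMod p) (t : Perm (Fin w)) (q : Fin w × ZMod p) :
    mk v t q = (t q.1, q.2 + v q.1) := rfl

theorem mk_mul (v u : Fin w → ZMod p) (t s : Perm (Fin w)) :
    mk v t * mk u s = mk (fun i => u i + v (s i)) (t * s) :=
  Equiv.ext fun q => by simp [Perm.mul_apply, add_assoc]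

theorem mk_zero_one : mk (0 : Fin w → ZMod p) 1 = 1 := Equiv.ext fun q => by simp

/-- The block permutations extended by the translations. -/
def wreath (p : ℕ) {w : ℕ} (T : Subgroup (Perm (Fin w))) : Subgroup (Perm (Fin w × ZMod p)) where
  carrier := {σ | ∃ v, ∃ t ∈ T, σ = mk v t}
  one_mem' := ⟨0, 1, one_mem T, mk_zero_one.symm⟩
  mul_mem' := by
    rintro _ _ ⟨v, t, ht, rfl⟩ ⟨u, s, hs, rfl⟩
    exact ⟨_, _, mul_mem ht hs, mk_mul v u t s⟩
  inv_mem' := by
    rintro _ ⟨v, t, ht, rfl⟩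
    refine ⟨fun i => -v (t⁻¹ i), t⁻¹, inv_mem ht, inv_eq_of_mul_eq_one_right ?_⟩
    rw [mk_mul, mul_inv_cancel, ← mk_zero_one]
    congr 1
    funext i
    simp

variable {T : Subgroup (Perm (Fin w))}

theorem mem_wreath {σ : Perm (Fin w × ZMod p)} : σ ∈ wreath p T ↔ ∃ v, ∃ t ∈ T, σ = mk v t := Iff.rfl

theorem mk_mem (v : Fin w → ZMod p) {t : Perm (Fin w)} (ht : t ∈ T) : mk v t ∈ wreath p T :=
  ⟨v, t, ht, rfl⟩

/-- The translation vector. -/
def vec (σ : Perm (Fin w × ZMod p)) (i : Fin w) : ZMod p := (σ (i, 0)).2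

/-- The permutation of blocks. -/
noncomputable def blk (σ : wreath p T) : T := ⟨σ.2.choose_spec.choose, σ.2.choose_spec.choose_spec.1⟩

theorem eq_mk (σ : wreath p T) :
    (σ : Perm (Fin w × ZMod p)) = mk (vec (σ : Perm (Fin w × ZMod p))) (blk σ : T) := by
  set v := σ.2.choose with hv
  have h : (σ : Perm (Fin w × ZMod p)) = mk v (blk σ : T) := σ.2.choose_spec.choose_spec.2
  have h2 : vec (σ : Perm (Fin w × ZMod p)) = v := funext fun i => by rw [vec, h]; simp
  rw [h2]; exact h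

theorem blk_apply (σ : wreath p T) (i : Fin w) :
    ((blk σ : T) : Perm (Fin w)) i = ((σ : Perm (Fin w × ZMod p)) (i, 0)).1 := by
  conv_rhs => rw [eq_mk σ]
  rfl

/-- The projection onto the block permutations. -/
noncomputable def blkHom : wreath p T →* T where
  toFun := blk
  map_one' := Subtype.ext (Equiv.ext fun i => by rw [blk_apply]; rfl)
  map_mul' σ τ := Subtype.ext (Equiv.ext fun i => by
    rw [blk_apply, Subgroup.coe_mul, eq_mk σ, eq_mk τ, mk_mul]
    simp)

theorem blkHom_mk (v : Fin w → ZMod p) {t : Perm (Fin w)} (ht : t ∈ T) :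
    blkHom (⟨mk v t, mk_mem v ht⟩ : wreath p T) = ⟨t, ht⟩ :=
  Subtype.ext (Equiv.ext fun i => by
    show ((blk (⟨mk v t, mk_mem v ht⟩ : wreath p T) : T) : Perm (Fin w)) i = _
    rw [blk_apply]; simp)

theorem card_wreath [NeZero p] (T : Subgroup (Perm (Fin w))) :
    Nat.card (wreath p T) = p ^ w * Nat.card T := by
  rw [Nat.card_congr (α := wreath p T) (β := (Fin w → ZMod p) × T)
    { toFun := fun σ => (vec (σ : Perm (Fin w × ZMod p)), blk σ)
      invFun := fun q => ⟨mk q.1 q.2, mk_mem q.1 q.2.2⟩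
      left_inv := fun σ => Subtype.ext (eq_mk σ).symm
      right_inv := fun q => Prod.ext (funext fun i => by simp [vec]) (Subtype.ext (Equiv.ext fun i => by
        rw [blk_apply]; simp)) }]
  simp [Nat.card_prod, Nat.card_fun]

theorem wreath_comm (hT : ∀ t ∈ T, t = 1) {a b : Perm (Fin w × ZMod p)} (ha : a ∈ wreath p T)
    (hb : b ∈ wreath p T) : a * b = b * a := by
  obtain ⟨v, t, ht, rfl⟩ := ha
  obtain ⟨u, s, hs, rfl⟩ := hb
  rw [mk_mul, mk_mul, hT t ht, hT s hs]
  congr 1
  funext i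
  simp [add_comm]

theorem sign_mk_zero (t : Perm (Fin w)) : Perm.sign (mk (0 : Fin w → ZMod 2) t) = 1 := by
  rw [show mk (0 : Fin w → ZMod 2) t = prodCongrLeft fun _ => t from Equiv.ext fun q => by
    simp [prodCongrLeft], Perm.sign_prodCongrLeft, prod_const, card_univ, ZMod.card]
  exact Int.units_sq _

theorem sign_mk_single (i : Fin w) :
    Perm.sign (mk (Pi.single i (1 : ZMod 2)) (1 : Perm (Fin w))) = -1 := by
  rw [show mk (Pi.single i (1 : ZMod 2)) (1 : Perm (Fin w)) = Equiv.swap (i, 0) (i, 1) from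
    Equiv.ext fun q => ?_, Perm.sign_swap (by simp)]
  obtain ⟨l, z⟩ := q
  rcases eq_or_ne l i with rfl | hl
  · rcases (show z = 0 ∨ z = 1 by revert z; decide) with rfl | rfl
    · simp [mk_apply]
    · simp [mk_apply, show (1 : ZMod 2) + 1 = 0 by decide]
  · rw [mk_apply, Equiv.swap_apply_of_ne_of_ne (by simp [hl]) (by simp [hl])]
    simp [hl]

/-- Induction of a moved linear character from a normal subgroup of prime index. -/
theorem exists_degree_of_hom [Fact p.Prime] {G : Type*} [Group G] [Finite G] (K : Subgroup G)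
    (hK : K.Normal) (hidx : K.index = p) (f : K →* Multiplicative (ZMod p)) (g : G) (k : K)
    (hne : f ⟨g * k * g⁻¹, hK.conj_mem k k.2 g⟩ ≠ f k) :
    ∃ φ : IrrCharacter G, charDegree (φ : G → ℂ) = p := by
  classical
  haveI := Fintype.ofFinite G
  haveI := Fintype.ofFinite K
  let l : K →* ℂˣ := ((ZMod.stdAddChar (N := p)).toMonoidHom.comp f).toHomUnits
  let θ : K → ℂ := fun x => (l x : ℂ)
  have hθ : IsIrrCharacter K θ := isIrrCharacter_linear l
  set I := CfsgLib.Clifford.inertia hK θ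
  have hKI : K ≤ I := CfsgLib.Clifford.le_inertia hK (IsIrr.isClassFunction hθ)
  have hgI : g ∉ I := fun hg => by
    have h1 := congrFun (CfsgLib.Clifford.mem_inertia.1 hg) k
    rw [conjFn_apply] at h1
    simp only [θ, l, MonoidHom.coe_toHomUnits, MonoidHom.comp_apply] at h1
    exact hne (Multiplicative.toAdd.injective (ZMod.injective_stdAddChar h1))
  have hI : I = K := by
    have h1 := Subgroup.relIndex_mul_index hKI
    rw [hidx] at h1
    rcases (Nat.dvd_prime Fact.out).1 (Dvd.intro_left _ h1) with h | h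
    · exact absurd (Subgroup.index_eq_one.1 h ▸ Subgroup.mem_top g) hgI
    · rw [h] at h1
      exact le_antisymm (Subgroup.relIndex_eq_one.1
        (Nat.eq_of_mul_eq_mul_right (Fact.out : p.Prime).pos (by rw [one_mul]; exact h1))) hKI
  have hirr : IsIrrCharacter G (indFun K θ) := by
    refine IsChar.isIrr_of_classInner_eq_one (isCharacter_indFun K (IsIrr.isCharacter hθ)) ?_
    have h := CfsgLib.Clifford.card_mul_classInner_indFun hK hθ
    rw [Nat.card_congr (Equiv.subtypeEquivRight fun x => (show conjFn hK θ x = θ ↔ x ∈ K by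
      rw [← CfsgLib.Clifford.mem_inertia]
      exact SetLike.ext_iff.1 hI x))] at h
    exact mul_left_cancel₀ (Nat.cast_ne_zero.2 Nat.card_pos.ne') (h.trans (mul_one _).symm)
  refine ⟨⟨_, hirr⟩, ?_⟩
  show ⌊(indFun K θ 1).re⌋₊ = p
  rw [indFun_apply_one, hidx]
  simp [θ]

/-- A subgroup of the wreath product moving a partial sum has a character of degree `p`. -/
theorem exists_degree_of_sum [Fact p.Prime] {H : Subgroup (Perm (Fin w × ZMod p))} (hH : H ≤ wreath p T)
    (h0 : ∀ t ∈ T, mk 0 t ∈ H) {M : Subgroup T} (hM : M.Normal) (hidx : M.index = p)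
    {B : Finset (Fin w)} (hB : ∀ m ∈ M, ∀ i, ((m : T) : Perm (Fin w)) i ∈ B ↔ i ∈ B)
    {d : T} {v : Fin w → ZMod p} (hv : mk v 1 ∈ H)
    (hne : ∑ i ∈ B, v ((d : Perm (Fin w))⁻¹ i) ≠ ∑ i ∈ B, v i) :
    ∃ φ : IrrCharacter H, charDegree (φ : H → ℂ) = p := by
  classical
  let π : H →* T := blkHom.comp (Subgroup.inclusion hH)
  have hπ : Function.Surjective π := fun t => ⟨⟨mk 0 t, h0 t t.2⟩, blkHom_mk 0 t.2⟩
  haveI := hM
  haveI hKn : (M.comap π).Normal := hM.comap π
  let f : M.comap π →* Multiplicative (ZMod p) :=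
    { toFun := fun x => Multiplicative.ofAdd (∑ i ∈ B, vec ((x : H) : Perm (Fin w × ZMod p)) i)
      map_one' := by simp [vec]
      map_mul' := fun x y => by
        rw [← ofAdd_add]
        congr 1
        have e : ∀ i, vec (((x * y : M.comap π) : H) : Perm (Fin w × ZMod p)) i =
            vec ((y : H) : Perm (Fin w × ZMod p)) i + vec ((x : H) : Perm (Fin w × ZMod p))
              (((π (y : H)) : Perm (Fin w)) i) := fun i => by
          have hx := eq_mk (T := T) ⟨_, hH (x : H).2⟩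
          have hy := eq_mk (T := T) ⟨_, hH (y : H).2⟩
          simp only at hx hy
          simp only [Subgroup.coe_mul]
          conv_lhs => rw [vec, hx, hy, mk_mul]
          simp [π, blkHom, Subgroup.inclusion]
        rw [sum_congr rfl fun i _ => e i, sum_add_distrib, add_comm]
        congr 1
        exact Finset.sum_equiv ((π (y : H) : T) : Perm (Fin w)) (fun i => (hB _ y.2 i).symm) fun i _ => rfl }
  have hv1 : (⟨mk v 1, hv⟩ : H) ∈ M.comap π := by
    rw [Subgroup.mem_comap, show π ⟨mk v 1, hv⟩ = 1 from blkHom_mk v (one_mem T)]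
    exact one_mem M
  refine exists_degree_of_hom (M.comap π) hKn
    (by rw [Subgroup.index_comap_of_surjective _ hπ, hidx]) f ⟨mk 0 d, h0 d d.2⟩ ⟨_, hv1⟩ fun h => hne ?_
  have h1 : (mk (0 : Fin w → ZMod p) (d : Perm (Fin w)))⁻¹ = mk 0 (d : Perm (Fin w))⁻¹ :=
    inv_eq_of_mul_eq_one_right (by rw [mk_mul, mul_inv_cancel, ← mk_zero_one]; simp; rfl)
  have h2 := Multiplicative.ofAdd.injective h
  simp only [Subgroup.coe_mul, Subgroup.coe_inv, h1, mk_mul] at h2
  simpa [vec] using h2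

/-- A block system of a subgroup of index `p` separated from one point's translate. -/
theorem exists_block_set [Fact p.Prime] (hT : IsPGroup p T) {i : Fin w} {t₀ : T}
    (ht₀ : (t₀ : Perm (Fin w)) i ≠ i) :
    ∃ (M : Subgroup T) (B : Finset (Fin w)) (d : T), M.Normal ∧ M.index = p ∧ i ∈ B ∧
      (∀ m ∈ M, ∀ l, ((m : T) : Perm (Fin w)) l ∈ B ↔ l ∈ B) ∧ (d : Perm (Fin w)) i ∉ B ∧
      (d : Perm (Fin w))⁻¹ i ∉ B ∧ ∀ b ∈ B, ∃ t ∈ T, t i = b := by
  classical
  have hp : p.Prime := Fact.out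
  let S : Subgroup T := (MulAction.stabilizer (Perm (Fin w)) i).subgroupOf T
  have hS : t₀ ∉ S := fun h => ht₀ (by simpa [S, Subgroup.mem_subgroupOf] using h)
  obtain ⟨k, hk⟩ := hT.exists_card_eq
  obtain ⟨j, hj⟩ := (hT.to_subgroup S).exists_card_eq
  have hjk : j < k := by
    rw [← Nat.pow_lt_pow_iff_right hp.one_lt, ← hk, ← hj]
    refine lt_of_le_of_ne (Subgroup.card_le_card_group S) fun e => hS ?_
    rw [Subgroup.eq_top_of_card_eq S e]; trivial
  obtain ⟨M, hMc, hSM⟩ := Sylow.exists_subgroup_card_pow_prime_le p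
    (n := j) (m := k - 1) (hk ▸ pow_dvd_pow p (by omega)) S hj (by omega)
  have hidx : M.index = p := by
    refine Nat.eq_of_mul_eq_mul_right (show 0 < Nat.card M from Nat.card_pos) ?_
    rw [Subgroup.index_mul_card, hk, hMc, ← pow_succ']
    congr 1; omega
  have hMn : M.Normal := by
    refine Subgroup.normal_of_index_eq_minFac_card ?_
    rw [hidx, hk, Nat.pow_minFac (by omega), hp.minFac_eq]
  obtain ⟨d, hd⟩ : ∃ d : T, d ∉ M := by
    by_contra h
    push Not at h
    rw [show M = ⊤ from eq_top_iff.2 fun x _ => h x, Subgroup.index_top] at hidx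
    exact hp.ne_one hidx.symm
  let B : Finset (Fin w) := univ.filter fun l => ∃ m ∈ M, ((m : T) : Perm (Fin w)) i = l
  have hout : ∀ x : T, x ∉ M → (x : Perm (Fin w)) i ∉ B := fun x hx hmem => by
    simp only [B, mem_filter, mem_univ, true_and] at hmem
    obtain ⟨m, hm, he⟩ := hmem
    refine hx ?_
    have : m⁻¹ * x ∈ S := by
      simp only [S, Subgroup.mem_subgroupOf, MulAction.mem_stabilizer_iff, Perm.smul_def, Subgroup.coe_mul,
        Subgroup.coe_inv, Perm.mul_apply]
      rw [← he]; simp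
    simpa using mul_mem hm (hSM this)
  refine ⟨M, B, d, hMn, hidx, ?_, fun m hm l => ?_, hout d hd, ?_, fun b hb => ?_⟩
  · simp only [B, mem_filter, mem_univ, true_and]
    exact ⟨1, one_mem M, rfl⟩
  · simp only [B, mem_filter, mem_univ, true_and]
    constructor
    · rintro ⟨m', hm', he⟩
      exact ⟨m⁻¹ * m', mul_mem (inv_mem hm) hm', by simp [Perm.mul_apply, he]⟩
    · rintro ⟨m', hm', he⟩
      exact ⟨m * m', mul_mem hm hm', by simp [Perm.mul_apply, he]⟩
  · have := hout d⁻¹ fun h => hd (by simpa using inv_mem h)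
    simpa using this
  · simp only [B, mem_filter, mem_univ, true_and] at hb
    obtain ⟨m, -, he⟩ := hb
    exact ⟨_, m.2, he⟩

theorem exists_moved [Fact p.Prime] (hw : p ≤ w) (T : Sylow p (Perm (Fin w))) :
    ∃ (i : Fin w) (t₀ : (T : Subgroup (Perm (Fin w)))), (t₀ : Perm (Fin w)) i ≠ i := by
  by_contra h
  push Not at h
  have hbot : (T : Subgroup (Perm (Fin w))) = ⊥ :=
    (Subgroup.eq_bot_iff_forall _).2 fun t ht => Equiv.ext fun i => h i ⟨t, ht⟩
  have h1 := T.card_eq_multiplicity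
  rw [hbot, Subgroup.card_bot, Nat.card_perm, Nat.card_fin] at h1
  have h2 : 0 < w.factorial.factorization p :=
    (Fact.out : p.Prime).factorization_pos_of_dvd w.factorial_ne_zero (Nat.dvd_factorial (Fact.out : p.Prime).pos hw)
  exact absurd h1.symm (Nat.one_lt_pow h2.ne' (Fact.out : p.Prime).one_lt).ne'

theorem exists_char_wreath [Fact p.Prime] (hw : p ≤ w) (T : Sylow p (Perm (Fin w))) :
    ∃ φ : IrrCharacter (wreath p (T : Subgroup (Perm (Fin w)))),
      charDegree (φ : wreath p (T : Subgroup (Perm (Fin w))) → ℂ) = p := by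
  classical
  obtain ⟨i, t₀, ht₀⟩ := exists_moved hw T
  obtain ⟨M, B, d, hMn, hidx, hiB, hB, hdi, hdi', -⟩ := exists_block_set T.isPGroup' ht₀
  refine exists_degree_of_sum le_rfl (fun t ht => mk_mem 0 ht) hMn hidx hB (d := d)
    (v := Pi.single i 1) (mk_mem _ (one_mem _)) ?_
  rw [sum_pi_single', if_pos hiB, sum_eq_zero fun l hl => ?_]
  · exact zero_ne_one
  rw [Pi.single_eq_of_ne]
  intro h
  exact hdi (by rw [← h]; simpa using hl)

/-- Orders of the Sylow subgroups. -/
theorem card_wreath_sylow [Fact p.Prime] (T : Sylow p (Perm (Fin w))) :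
    Nat.card (wreath p (T : Subgroup (Perm (Fin w)))) = p ^ (w + vf p w) := by
  rw [card_wreath, T.card_eq_multiplicity, Nat.card_perm, Nat.card_fin, pow_add]
  rfl

theorem exists_char_sylow_two {m : ℕ} (hm : 2 ≤ m) (T : Sylow 2 (Perm (Fin (m * 2)))) :
    ∃ φ : IrrCharacter (T : Subgroup (Perm (Fin (m * 2)))),
      charDegree (φ : ↥(T : Subgroup (Perm (Fin (m * 2)))) → ℂ) = 2 := by
  classical
  let T' : Sylow 2 (Perm (Fin m)) := default
  obtain ⟨φ, hφ⟩ := exists_char_wreath (p := 2) hm T'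
  let e : Fin m × ZMod 2 ≃ Fin (m * 2) := Fintype.equivFinOfCardEq (by simp)
  let ψ := e.permCongrHom.toMonoidHom
  have hψ : Function.Injective ψ := e.permCongrHom.injective
  set W := (wreath 2 (T' : Subgroup (Perm (Fin m)))).map ψ
  have hcard : Nat.card W = 2 ^ (Nat.card (Perm (Fin (m * 2)))).factorization 2 := by
    rw [Subgroup.card_map_of_injective hψ, card_wreath_sylow, Nat.card_perm, Nat.card_fin, mul_comm m 2]
    congr 1
    have := vf_mul_add (p := 2) m (d := 0) (by norm_num)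
    rw [add_zero] at this
    exact this.symm
  let iso : (T : Subgroup (Perm (Fin (m * 2)))) ≃* wreath 2 (T' : Subgroup (Perm (Fin m))) :=
    (T.equiv (Sylow.ofCard W hcard)).trans (Subgroup.equivMapOfInjective _ ψ hψ).symm
  refine ⟨CfsgLib.Blocks.pullEquiv iso φ, ?_⟩
  refine Eq.trans ?_ hφ
  rw [charDegree, charDegree, CfsgLib.Blocks.pullEquiv_apply, map_one]

theorem exists_char_even (hw : 3 ≤ w) (T : Sylow 2 (Perm (Fin w))) :
    ∃ φ : IrrCharacter ↥(wreath 2 (T : Subgroup (Perm (Fin w))) ⊓ alternatingGroup (Fin w × ZMod 2)),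
      charDegree (φ : ↥(wreath 2 (T : Subgroup (Perm (Fin w))) ⊓ alternatingGroup (Fin w × ZMod 2)) → ℂ) = 2 := by
  classical
  set H := wreath 2 (T : Subgroup (Perm (Fin w))) ⊓ alternatingGroup (Fin w × ZMod 2)
  have h0 : ∀ t ∈ (T : Subgroup (Perm (Fin w))), mk (0 : Fin w → ZMod 2) t ∈ H := fun t ht =>
    ⟨mk_mem 0 ht, Perm.mem_alternatingGroup.2 (sign_mk_zero t)⟩
  rcases Nat.even_or_odd w with hev | hodd
  · obtain ⟨m, rfl⟩ : ∃ m, w = m * 2 := ⟨w / 2, by obtain ⟨k, rfl⟩ := hev; omega⟩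
    obtain ⟨φ, hφ⟩ := exists_char_sylow_two (m := m) (by omega) T
    let π : H →* (T : Subgroup (Perm (Fin (m * 2)))) := blkHom.comp (Subgroup.inclusion inf_le_left)
    have hπ : Function.Surjective π := fun t => ⟨⟨mk 0 t, h0 t t.2⟩, blkHom_mk 0 t.2⟩
    refine ⟨⟨fun x => (φ : _ → ℂ) (π x), IsIrr.comp_surjective π hπ φ.2⟩, ?_⟩
    refine Eq.trans ?_ hφ
    rw [charDegree, charDegree]
    simp
  obtain ⟨i, t₀, ht₀⟩ := exists_moved (p := 2) (by omega) T
  obtain ⟨M, B, d, hMn, hidx, hiB, hB, hdi, hdi', hBT⟩ := exists_block_set T.isPGroup' ht₀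
  -- a point outside the orbit
  obtain ⟨l, hl⟩ : ∃ l, ∀ t ∈ (T : Subgroup (Perm (Fin w))), t i ≠ l := by
    by_contra h
    push Not at h
    have horb : MulAction.orbit (T : Subgroup (Perm (Fin w))) i = Set.univ :=
      Set.eq_univ_of_forall fun l => let ⟨t, ht, he⟩ := h l; ⟨⟨t, ht⟩, he⟩
    obtain ⟨k, hk⟩ := T.isPGroup'.card_orbit i
    rw [horb, Nat.card_coe_set_eq, Set.ncard_univ, Nat.card_fin] at hk
    rcases Nat.eq_zero_or_pos k with rfl | hk0
    · simp at hk; omega
    · exact (Nat.not_even_iff_odd.2 hodd) (hk ▸ (Nat.even_pow.2 ⟨even_two, hk0.ne'⟩))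
  have hli : i ≠ l := hl 1 (one_mem _)
  refine exists_degree_of_sum inf_le_left h0 hMn hidx hB (d := d)
    (v := Pi.single i 1 + Pi.single l 1) ⟨mk_mem _ (one_mem _), Perm.mem_alternatingGroup.2 ?_⟩ ?_
  · rw [show mk (Pi.single i 1 + Pi.single l 1 : Fin w → ZMod 2) (1 : Perm (Fin w)) =
      mk (Pi.single l 1) 1 * mk (Pi.single i 1) 1 by rw [mk_mul, mul_one]; rfl, map_mul, sign_mk_single,
      sign_mk_single]
    rfl
  have hlB : l ∉ B := fun h => by
    obtain ⟨t, ht, e⟩ := hBT l h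
    exact hl t ht e
  have hdl : (d : Perm (Fin w)) l ∉ B := fun h => by
    obtain ⟨t, ht, e⟩ := hBT _ h
    exact hl _ (mul_mem (inv_mem d.2) ht) (by simp [Perm.mul_apply, e])
  have hs : ∀ x : Fin w, x ∈ ({i, l} : Finset (Fin w)) → ∀ b ∈ B, (d : Perm (Fin w))⁻¹ b ≠ x := by
    intro x hx b hb e
    simp only [mem_insert, mem_singleton] at hx
    have : b = (d : Perm (Fin w)) x := by rw [← e]; simp
    rcases hx with rfl | rfl
    · exact hdi (this ▸ hb)
    · exact hdl (this ▸ hb)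
  simp only [Pi.add_apply, sum_add_distrib]
  rw [sum_pi_single', if_pos hiB, sum_pi_single', if_neg hlB,
    sum_eq_zero fun b hb => Pi.single_eq_of_ne (hs i (by simp) b hb) _,
    sum_eq_zero fun b hb => Pi.single_eq_of_ne (hs l (by simp) b hb) _]
  simp

end CfsgLib.SymBeta
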